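/-
The configuration and its certificate.
-/
import Cfsg.Agent.Lib.Co3M12.Act0
import Cfsg.Agent.Lib.Co3M12.Case.Wr.Facts0
import Cfsg.Agent.Lib.Co3M12.Case.Wr.Facts1

set_option autoImplicit false
set_option maxRecDepth 100000

namespace CfsgLib.Co3M12.Wr

open Eng CfsgPC

/-- The configuration. -/
def D : Dat := ⟨(0x1a0c058281208038180a04018080200, 0x1a0c058281208038180a04018080200), Act0.act, [(0x1a0c0380806080502c0809000180205, 0x1a0c008201204058000e0a010140606, 0x1a0c00820060903814140203010000b, 0x1a0c0301c0808058080005048280203, 0x1a0c03810120a0280004080080c1606), (0x1a0c0480c00020402802050301c080b, 0x1a0c0080c0e060482c100402808000a, 0x1a0c02018100a0002404050081c1603, 0x1a0c0001816070100c0801050200a09, 0x1a0c030000e05048200604050081601)], Data.chain, [(0, 0x1a0c058281208038180a04018080200), (0, 0x1a0c058281208038180a04018080200), (1, 0x1a0c030241405018200800008080e0b), (2, 0x1a0c01010060900018100a058140e01), (1, 0x1a0c04028080b0280c0e09030080200), (3, 0x1a0c038080a01020241606050200003), (3, 0x1a0c0580814060480c1007020040005), (1, 0x1a0c028040c020501000090400c0e0b),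 (6, 0x1a0c0182c0a0803818080200024020a), (5, 0x1a0c04024040003810060103014160a), (1, 0x1a0c038040602050240004058180a08), (8, 0x1a0c038200c01048101405058080003), (9, 0x1a0c0401c1604010181409018140200), (2, 0x1a0c0200c1405010240c010401c1600)]⟩

/-- The certificate. -/
def fs : FTree := (.node (.node (.node (.node (.node (.node fs0 fs1) (.node fs2 fs3)) (.node (.node fs4 fs5) (.node fs6 fs7))) (.node (.node (.node fs8 fs9) (.node fs10 fs11)) (.node (.node fs12 fs13) (.node fs14 fs15)))) (.node (.node (.node (.node fs16 fs17) (.node fs18 fs19)) (.node (.node fs20 fs21) (.node fs22 fs23))) (.node (.node (.node fs24 fs25) (.node fs26 fs27)) (.node (.node fs28 fs29) (.node fs30 fs31))))) (.node (.node (.node (.node (.node fs32 fs33) (.node fs34 fs35)) (.node (.node fs36 fs37) (.node fs38 fs39))) (.node (.node (.node fs40 fs41) (.node fs42 fs43)) (.node (.node fs44 fs45) (.node fs46 fs47)))) (.node (.node (.node (.node fs48 fs49) (.node fs50 fs51)) (.node (.node fs52 fs53) (.node fs54 fs55))) (.node (.node (.node fs56 fs57) (.node fs58 fs59)) (.node (.node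 fs60 fs61) (.node fs62 fs63))))))

end CfsgLib.Co3M12.Wr
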