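/-
The closure of the classes.
-/
import Cfsg.Agent.Lib.Co3M12.Case.Wr.Dat

set_option autoImplicit false
set_option maxRecDepth 100000

namespace CfsgLib.Co3M12.Wr

open Eng CfsgPC

/-- Closure. -/
def clo0 : FTree := (.node (.node (.node (.node (.node (.node (.node (.leaf 0x6) (.leaf 0x781)) (.node (.leaf 0x3c5) (.leaf 0x16f6))) (.node (.node (.leaf 0x224) (.leaf 0xf4d)) (.node (.leaf 0x550) (.leaf 0x0)))) (.node (.node (.node (.leaf 0x7) (.leaf 0xb82)) (.node (.leaf 0x4a0) (.leaf 0x196c))) (.node (.node (.leaf 0x2a8) (.leaf 0x130d)) (.node (.leaf 0x6d1) (.leaf 0x0))))) (.node (.node (.node (.node (.leaf 0x14e) (.leaf 0x96b)) (.node (.leaf 0xfdb) (.leaf 0x1848))) (.node (.node (.leaf 0x107c) (.leaf 0x1285)) (.node (.leaf 0xe08) (.leaf 0x0)))) (.node (.node (.node (.leaf 0x3ff) (.leaf 0xda3)) (.node (.leaf 0xa73) (.leaf 0x19aa))) (.node (.node (.leaf 0x1712) (.leaf 0x149d)) (.node (.leaf 0x775) (.leaf 0x0)))))) (.node (.node (.node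 (.node (.node (.leaf 0x9b) (.leaf 0x9f1)) (.node (.leaf 0xd05) (.leaf 0x1744))) (.node (.node (.leaf 0x7e0) (.leaf 0x10dc)) (.node (.leaf 0x14ee) (.leaf 0x0)))) (.node (.node (.node (.leaf 0x6e5) (.leaf 0xda5)) (.node (.leaf 0xb91) (.leaf 0x19df))) (.node (.node (.leaf 0x145e) (.leaf 0x1567)) (.node (.leaf 0x75f) (.leaf 0x0))))) (.node (.node (.node (.node (.leaf 0x1dc) (.leaf 0x11a6)) (.node (.leaf 0x7b9) (.leaf 0x17ee))) (.node (.node (.leaf 0x280) (.leaf 0x1235)) (.node (.leaf 0x5b1) (.leaf 0x0)))) (.node (.node (.node (.leaf 0x233) (.leaf 0xce8)) (.node (.leaf 0x4ca) (.leaf 0x1b60))) (.node (.node (.leaf 0x49f) (.leaf 0x14c5)) (.node (.leaf 0xb2a) (.leaf 0x0))))))) (.node (.node (.node (.node (.node (.node (.leaf 0x60) (.leaf 0xe7b)) (.node (.leaf 0x41d) (.leaf 0x1952))) (.node (.node (.leaf 0x1082) (.leaf 0x125c)) (.node (.leaf 0x5f9) (.leaf 0x0)))) (.node (.node (.node (.leaf 0x23e) (.leaf 0xdd1)) (.node (.leaf 0x675) (.leaf 0x19be)))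 (.node (.node (.leaf 0xc0c) (.leaf 0x14fa)) (.node (.leaf 0xfd5) (.leaf 0x0))))) (.node (.node (.node (.node (.leaf 0x135) (.leaf 0xaac)) (.node (.leaf 0xd4d) (.leaf 0x1721))) (.node (.node (.leaf 0xbca) (.leaf 0x128c)) (.node (.leaf 0x683) (.leaf 0x0)))) (.node (.node (.node (.leaf 0x98f) (.leaf 0xef0)) (.node (.leaf 0x9f5) (.leaf 0x1ad6))) (.node (.node (.leaf 0xdc9) (.leaf 0x1680)) (.node (.leaf 0x16d1) (.leaf 0x0)))))) (.node (.node (.node (.node (.node (.leaf 0xf2) (.leaf 0x9f8)) (.node (.leaf 0xfe0) (.leaf 0x17c5))) (.node (.node (.leaf 0xbb3) (.leaf 0x109c)) (.node (.leaf 0x5ab) (.leaf 0x0)))) (.node (.node (.node (.leaf 0x89f) (.leaf 0xc6b)) (.node (.leaf 0xa60) (.leaf 0x19d4))) (.node (.node (.leaf 0x31d) (.leaf 0x15a9)) (.node (.leaf 0xaeb) (.leaf 0x0))))) (.node (.node (.node (.node (.leaf 0x1a6) (.leaf 0x1529)) (.node (.leaf 0x449) (.leaf 0x176b))) (.node (.node (.leaf 0x344) (.leaf 0x10ae)) (.node (.leaf 0x1519) (.leaf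 0x0)))) (.node (.node (.node (.leaf 0xf65) (.leaf 0xd9a)) (.node (.leaf 0x505) (.leaf 0x1a9b))) (.node (.node (.leaf 0x39b) (.leaf 0x1523)) (.node (.leaf 0x15fc) (.leaf 0x0))))))))

/-- Closure. -/
def clo1 : FTree := (.node (.node (.node (.node (.node (.node (.node (.leaf 0x25) (.leaf 0x836)) (.node (.leaf 0x425) (.leaf 0x1780))) (.node (.node (.leaf 0x108b) (.leaf 0x125e)) (.node (.leaf 0x1392) (.leaf 0x0)))) (.node (.node (.node (.leaf 0x249) (.leaf 0xedd)) (.node (.leaf 0xa5e) (.leaf 0x1a48))) (.node (.node (.leaf 0x359) (.leaf 0x168e)) (.node (.leaf 0xfce) (.leaf 0x0))))) (.node (.node (.node (.node (.leaf 0x132) (.leaf 0xaa9)) (.node (.leaf 0xd1c) (.leaf 0x1854))) (.node (.node (.leaf 0xbae) (.leaf 0x14a4)) (.node (.leaf 0x65e) (.leaf 0x0)))) (.node (.node (.node (.leaf 0xf8f) (.leaf 0xc8a)) (.node (.leaf 0xa4d) (.leaf 0x1b0a))) (.node (.node (.leaf 0xbe5) (.leaf 0x1476)) (.node (.leaf 0x16c9) (.leaf 0x0)))))) (.node (.node (.node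 (.node (.node (.leaf 0xf5) (.leaf 0x848)) (.node (.leaf 0x470) (.leaf 0x182f))) (.node (.node (.leaf 0x2aa) (.leaf 0x121e)) (.node (.leaf 0xdea) (.leaf 0x0)))) (.node (.node (.node (.leaf 0x22e) (.leaf 0xde2)) (.node (.leaf 0xeb7) (.leaf 0x1afd))) (.node (.node (.leaf 0xa0b) (.leaf 0x153a)) (.node (.leaf 0x12ff) (.leaf 0x0))))) (.node (.node (.node (.node (.leaf 0x1db) (.leaf 0xe2f)) (.node (.leaf 0x48d) (.leaf 0x1747))) (.node (.node (.leaf 0xbc7) (.leaf 0x1336)) (.node (.leaf 0x1884) (.leaf 0x0)))) (.node (.node (.node (.leaf 0x9cb) (.leaf 0x15c8)) (.node (.leaf 0xe41) (.leaf 0x1aec))) (.node (.node (.leaf 0x4a6) (.leaf 0x18ff)) (.node (.leaf 0xf1f) (.leaf 0x0))))))) (.node (.node (.node (.node (.node (.node (.leaf 0x97) (.leaf 0x133e)) (.node (.leaf 0x474) (.leaf 0x18ce))) (.node (.node (.leaf 0x270) (.leaf 0x10a0)) (.node (.leaf 0x780) (.leaf 0x0)))) (.node (.node (.node (.leaf 0x23b) (.leaf 0xbd7)) (.node (.leaf 0xa57) (.leaf 0x1ab2)))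 (.node (.node (.leaf 0x8ef) (.leaf 0x1323)) (.node (.leaf 0xadf) (.leaf 0x0))))) (.node (.node (.node (.node (.leaf 0x1c0) (.leaf 0x939)) (.node (.leaf 0x13fb) (.leaf 0x18cc))) (.node (.node (.leaf 0x338) (.leaf 0x1099)) (.node (.leaf 0x159d) (.leaf 0x0)))) (.node (.node (.node (.leaf 0x8a5) (.leaf 0x1437)) (.node (.leaf 0xd80) (.leaf 0x1a3f))) (.node (.node (.leaf 0x7ff) (.leaf 0x14f5)) (.node (.leaf 0x84f) (.leaf 0x0)))))) (.node (.node (.node (.node (.node (.leaf 0xc6) (.leaf 0xaa8)) (.node (.leaf 0x13fe) (.leaf 0x17a5))) (.node (.node (.leaf 0x33d) (.leaf 0x1098)) (.node (.leaf 0x78b) (.leaf 0x0)))) (.node (.node (.node (.leaf 0x8b4) (.leaf 0xc68)) (.node (.leaf 0x539) (.leaf 0x19c1))) (.node (.node (.leaf 0xcbd) (.leaf 0x13df)) (.node (.leaf 0x851) (.leaf 0x0))))) (.node (.node (.node (.node (.leaf 0x1eb) (.leaf 0xa91)) (.node (.leaf 0x450) (.leaf 0x17e3))) (.node (.node (.leaf 0x2af) (.leaf 0x132a)) (.node (.leaf 0x609) (.leaf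 0x0)))) (.node (.node (.node (.leaf 0x3cc) (.leaf 0xc71)) (.node (.leaf 0x9e9) (.leaf 0x1b75))) (.node (.node (.leaf 0x170f) (.leaf 0x1443)) (.node (.leaf 0xf27) (.leaf 0x0))))))))

/-- Closure. -/
def clo2 : FTree := (.node (.node (.node (.node (.node (.node (.node (.leaf 0x18) (.leaf 0xe6b)) (.node (.leaf 0x1406) (.leaf 0x194c))) (.node (.node (.leaf 0x292) (.leaf 0x10f8)) (.node (.leaf 0x654) (.leaf 0x0)))) (.node (.node (.node (.leaf 0x875) (.leaf 0xcaf)) (.node (.leaf 0x4f3) (.leaf 0x199a))) (.node (.node (.leaf 0x39e) (.leaf 0x1637)) (.node (.leaf 0xaf2) (.leaf 0x0))))) (.node (.node (.node (.node (.leaf 0x137) (.leaf 0x92f)) (.node (.leaf 0xd5b) (.leaf 0x184a))) (.node (.node (.leaf 0xbcd) (.leaf 0x11e8)) (.node (.leaf 0xacb) (.leaf 0x0)))) (.node (.node (.node (.leaf 0x97f) (.leaf 0xe38)) (.node (.leaf 0xe4e) (.leaf 0x1b59))) (.node (.node (.leaf 0x145a) (.leaf 0x13f8)) (.node (.leaf 0x16f2) (.leaf 0x0)))))) (.node (.node (.node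 (.node (.node (.leaf 0xa8) (.leaf 0x158b)) (.node (.leaf 0xb03) (.leaf 0x17cc))) (.node (.node (.leaf 0x377) (.leaf 0x10a8)) (.node (.leaf 0x57f) (.leaf 0x0)))) (.node (.node (.node (.leaf 0x22f) (.leaf 0x11d6)) (.node (.leaf 0xb8f) (.leaf 0x1b41))) (.node (.node (.leaf 0x327) (.leaf 0x1385)) (.node (.leaf 0xaef) (.leaf 0x0))))) (.node (.node (.node (.node (.leaf 0x1aa) (.leaf 0x930)) (.node (.leaf 0x1062) (.leaf 0x1795))) (.node (.node (.leaf 0xbc4) (.leaf 0x1376)) (.node (.leaf 0x920) (.leaf 0x0)))) (.node (.node (.node (.leaf 0xf9f) (.leaf 0x15ca)) (.node (.leaf 0xb51) (.leaf 0x1a04))) (.node (.node (.leaf 0x4de) (.leaf 0x1364)) (.node (.leaf 0x16c2) (.leaf 0x0))))))) (.node (.node (.node (.node (.node (.node (.leaf 0x5a) (.leaf 0xe7f)) (.node (.leaf 0x1036) (.leaf 0x18be))) (.node (.node (.leaf 0x342) (.leaf 0x121a)) (.node (.leaf 0x6c8) (.leaf 0x0)))) (.node (.node (.node (.leaf 0xf49) (.leaf 0xebd)) (.node (.leaf 0x4ef) (.leaf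 0x1ad0))) (.node (.node (.leaf 0xa01) (.leaf 0x1695)) (.node (.leaf 0xf11) (.leaf 0x0))))) (.node (.node (.node (.node (.leaf 0x120) (.leaf 0x820)) (.node (.leaf 0xb00) (.leaf 0x1776))) (.node (.node (.leaf 0x28a) (.leaf 0x11e4)) (.node (.leaf 0x1298) (.leaf 0x0)))) (.node (.node (.node (.leaf 0x985) (.leaf 0xc7b)) (.node (.leaf 0x645) (.leaf 0x1b6c))) (.node (.node (.leaf 0xcf9) (.leaf 0x1693)) (.node (.leaf 0xfbc) (.leaf 0x0)))))) (.node (.node (.node (.node (.node (.leaf 0xda) (.leaf 0xa6d)) (.node (.leaf 0x953) (.leaf 0x17b0))) (.node (.node (.leaf 0x7d3) (.leaf 0x1025)) (.node (.leaf 0x646) (.leaf 0x0)))) (.node (.node (.node (.leaf 0x20d) (.leaf 0xd01)) (.node (.leaf 0x15ae) (.leaf 0x19fb))) (.node (.node (.leaf 0x2e2) (.leaf 0x1629)) (.node (.leaf 0x73f) (.leaf 0x0))))) (.node (.node (.node (.node (.leaf 0x150) (.leaf 0xe60)) (.node (.leaf 0x724) (.leaf 0x17e4))) (.node (.node (.leaf 0x30f) (.leaf 0x10e1)) (.node (.leaf 0x582)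 (.leaf 0x0)))) (.node (.node (.node (.leaf 0x3d7) (.leaf 0xc5e)) (.node (.leaf 0xa84) (.leaf 0x1b72))) (.node (.node (.leaf 0x320) (.leaf 0x1363)) (.node (.leaf 0x12e7) (.leaf 0x0))))))))

/-- Closure. -/
def clo3 : FTree := (.node (.node (.node (.node (.node (.node (.node (.leaf 0x4e) (.leaf 0xc1d)) (.node (.leaf 0x103e) (.leaf 0x193f))) (.node (.node (.leaf 0x8ed) (.leaf 0x14a1)) (.node (.leaf 0x6c4) (.leaf 0x0)))) (.node (.node (.node (.leaf 0x6cd) (.leaf 0xcd1)) (.node (.leaf 0x4c6) (.leaf 0x1abf))) (.node (.node (.leaf 0x120e) (.leaf 0x1520)) (.node (.leaf 0x15ed) (.leaf 0x0))))) (.node (.node (.node (.node (.leaf 0x128) (.leaf 0xa25)) (.node (.leaf 0x48b) (.leaf 0x1855))) (.node (.node (.leaf 0x4c3) (.leaf 0x11cc)) (.node (.leaf 0x12b6) (.leaf 0x0)))) (.node (.node (.node (.leaf 0x983) (.leaf 0xca2)) (.node (.leaf 0xe3f) (.leaf 0x1a32))) (.node (.node (.leaf 0x11ff) (.leaf 0x1502)) (.node (.leaf 0x16d2) (.leaf 0x0)))))) (.node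 (.node (.node (.node (.node (.leaf 0xf9) (.leaf 0x13d2)) (.node (.leaf 0x435) (.leaf 0x17ac))) (.node (.node (.leaf 0x7d6) (.leaf 0x121c)) (.node (.leaf 0x6b6) (.leaf 0x0)))) (.node (.node (.node (.leaf 0x238) (.leaf 0xc94)) (.node (.leaf 0x15a0) (.leaf 0x19e0))) (.node (.node (.leaf 0x5bb) (.leaf 0x1681)) (.node (.leaf 0xb73) (.leaf 0x0))))) (.node (.node (.node (.node (.leaf 0x19a) (.leaf 0x932)) (.node (.leaf 0xd71) (.leaf 0x1894))) (.node (.node (.leaf 0x2b0) (.leaf 0x10d5)) (.node (.leaf 0xad0) (.leaf 0x0)))) (.node (.node (.node (.leaf 0xf57) (.leaf 0xef9)) (.node (.leaf 0xe3d) (.leaf 0x1adf))) (.node (.node (.leaf 0x389) (.leaf 0x13c1)) (.node (.leaf 0x1679) (.leaf 0x0))))))) (.node (.node (.node (.node (.node (.node (.leaf 0x72) (.leaf 0xe93)) (.node (.leaf 0x1042) (.leaf 0x1770))) (.node (.node (.leaf 0x26e) (.leaf 0x1102)) (.node (.leaf 0xad6) (.leaf 0x0)))) (.node (.node (.node (.leaf 0x3d9) (.leaf 0xe9f)) (.node (.leaf 0x81a)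 (.leaf 0x1a0a))) (.node (.node (.leaf 0x388) (.leaf 0x168b)) (.node (.leaf 0x73a) (.leaf 0x0))))) (.node (.node (.node (.node (.leaf 0x12f) (.leaf 0x826)) (.node (.leaf 0x451) (.leaf 0x1734))) (.node (.node (.leaf 0x8d3) (.leaf 0x11b7)) (.node (.leaf 0x12a8) (.leaf 0x0)))) (.node (.node (.node (.leaf 0xf64) (.leaf 0xecd)) (.node (.leaf 0xe53) (.leaf 0x1aa7))) (.node (.node (.leaf 0x11fe) (.leaf 0x15e6)) (.node (.leaf 0x167b) (.leaf 0x0)))))) (.node (.node (.node (.node (.node (.leaf 0xf8) (.leaf 0xafd)) (.node (.leaf 0xd2b) (.leaf 0x1939))) (.node (.node (.leaf 0x2b5) (.leaf 0x12b4)) (.node (.leaf 0xee2) (.leaf 0x0)))) (.node (.node (.node (.leaf 0x9b5) (.leaf 0x1261)) (.node (.leaf 0x663) (.leaf 0x1a4b))) (.node (.node (.leaf 0x1454) (.leaf 0x18de)) (.node (.leaf 0x1306) (.leaf 0x0))))) (.node (.node (.node (.node (.leaf 0x0) (.leaf 0x0)) (.node (.leaf 0x0) (.leaf 0x0))) (.node (.node (.leaf 0x0) (.leaf 0x0)) (.node (.leaf 0x0) (.leaf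 0x0)))) (.node (.node (.node (.leaf 0x0) (.leaf 0x0)) (.node (.leaf 0x0) (.leaf 0x0))) (.node (.node (.leaf 0x0) (.leaf 0x0)) (.node (.leaf 0x0) (.leaf 0x0))))))))

/-- Closure. -/
def clo4 : FTree := (.node (.node (.node (.node (.node (.node (.node (.leaf 0x11) (.leaf 0x101e)) (.node (.leaf 0xd76) (.leaf 0x181a))) (.node (.node (.leaf 0x285) (.leaf 0x127c)) (.node (.leaf 0x1297) (.leaf 0x0)))) (.node (.node (.node (.leaf 0x9a2) (.leaf 0x14f1)) (.node (.leaf 0x6b3) (.leaf 0x1a2c))) (.node (.node (.leaf 0x5eb) (.leaf 0x1495)) (.node (.leaf 0xb67) (.leaf 0x0))))) (.node (.node (.node (.node (.leaf 0x106) (.leaf 0xa90)) (.node (.leaf 0x1046) (.leaf 0x176c))) (.node (.node (.leaf 0x577) (.leaf 0x12a9)) (.node (.leaf 0x12ba) (.leaf 0x0)))) (.node (.node (.node (.leaf 0x6d3) (.leaf 0x16fa)) (.node (.leaf 0x1924) (.leaf 0x1a1f))) (.node (.node (.leaf 0x948) (.leaf 0x14d2)) (.node (.leaf 0x859) (.leaf 0x0)))))) (.node (.node (.node (.node (.node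 (.leaf 0x6f) (.leaf 0xa9e)) (.node (.leaf 0x104c) (.leaf 0x1934))) (.node (.node (.leaf 0x8de) (.leaf 0x1289)) (.node (.leaf 0x618) (.leaf 0x0)))) (.node (.node (.node (.leaf 0xf98) (.leaf 0xe17)) (.node (.leaf 0x80c) (.leaf 0x19c5))) (.node (.node (.leaf 0x5c0) (.leaf 0x13cb)) (.node (.leaf 0xb24) (.leaf 0x0))))) (.node (.node (.node (.node (.leaf 0x177) (.leaf 0xa17)) (.node (.leaf 0x7ae) (.leaf 0x17df))) (.node (.node (.leaf 0x2c6) (.leaf 0x1326)) (.node (.leaf 0x91a) (.leaf 0x0)))) (.node (.node (.node (.leaf 0x8a1) (.leaf 0xd9c)) (.node (.leaf 0x1923) (.leaf 0x19ee))) (.node (.node (.leaf 0xbef) (.leaf 0x150f)) (.node (.leaf 0xb1d) (.leaf 0x0))))))) (.node (.node (.node (.node (.node (.node (.leaf 0x78) (.leaf 0xaed)) (.node (.leaf 0x475) (.leaf 0x1720))) (.node (.node (.leaf 0x7e3) (.leaf 0x1268)) (.node (.leaf 0xad3) (.leaf 0x0)))) (.node (.node (.node (.leaf 0x23c) (.leaf 0xf02)) (.node (.leaf 0x54a) (.leaf 0x1a2a))) (.node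 (.node (.leaf 0xdc6) (.leaf 0x18dd)) (.node (.leaf 0xb6b) (.leaf 0x0))))) (.node (.node (.node (.node (.leaf 0x13b) (.leaf 0x844)) (.node (.leaf 0xd61) (.leaf 0x1745))) (.node (.node (.leaf 0x2c4) (.leaf 0x1101)) (.node (.leaf 0xa46) (.leaf 0x0)))) (.node (.node (.node (.leaf 0xf5a) (.leaf 0xc61)) (.node (.leaf 0x12d5) (.leaf 0x1a96))) (.node (.node (.leaf 0xa1a) (.leaf 0x1580)) (.node (.leaf 0x166b) (.leaf 0x0)))))) (.node (.node (.node (.node (.node (.leaf 0x118) (.leaf 0xe92)) (.node (.leaf 0x492) (.leaf 0x1812))) (.node (.node (.leaf 0xba2) (.leaf 0x1191)) (.node (.leaf 0xe03) (.leaf 0x0)))) (.node (.node (.node (.leaf 0x195e) (.leaf 0x1181)) (.node (.leaf 0xeb5) (.leaf 0x1aeb))) (.node (.node (.leaf 0x1232) (.leaf 0x14f7)) (.node (.leaf 0x1654) (.leaf 0x0))))) (.node (.node (.node (.node (.leaf 0x1d4) (.leaf 0xa38)) (.node (.leaf 0x100b) (.leaf 0x1868))) (.node (.node (.leaf 0x7cc) (.leaf 0x10b3)) (.node (.leaf 0xdf7) (.leaf 0x0))))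 (.node (.node (.node (.leaf 0x9cf) (.leaf 0xdaa)) (.node (.leaf 0xe4c) (.leaf 0x1b36))) (.node (.node (.leaf 0x1318) (.leaf 0x15d6)) (.node (.leaf 0xb49) (.leaf 0x0))))))))

/-- Closure. -/
def clo5 : FTree := (.node (.node (.node (.node (.node (.node (.node (.leaf 0x2c) (.leaf 0xa92)) (.node (.leaf 0x723) (.leaf 0x185b))) (.node (.node (.leaf 0x302) (.leaf 0x128b)) (.node (.leaf 0x5c2) (.leaf 0x0)))) (.node (.node (.node (.leaf 0x3c2) (.leaf 0xc3b)) (.node (.leaf 0xeba) (.leaf 0x1b67))) (.node (.node (.leaf 0x30e) (.leaf 0x135b)) (.node (.leaf 0xf1b) (.leaf 0x0))))) (.node (.node (.node (.node (.leaf 0x14c) (.leaf 0x90e)) (.node (.leaf 0x1052) (.leaf 0x1846))) (.node (.node (.leaf 0x576) (.leaf 0x14a7)) (.node (.leaf 0xa45) (.leaf 0x0)))) (.node (.node (.node (.leaf 0x6e4) (.leaf 0x1282)) (.node (.leaf 0xa7c) (.leaf 0x1ac0))) (.node (.node (.leaf 0x39a) (.leaf 0x15ea)) (.node (.leaf 0xae4) (.leaf 0x0)))))) (.node (.node (.node (.node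 (.node (.leaf 0xb7) (.leaf 0xe8e)) (.node (.leaf 0x718) (.leaf 0x1933))) (.node (.node (.leaf 0x29f) (.leaf 0x1103)) (.node (.leaf 0x18b7) (.leaf 0x0)))) (.node (.node (.node (.leaf 0x6de) (.leaf 0x14d8)) (.node (.leaf 0x643) (.leaf 0x19de))) (.node (.node (.leaf 0x5cd) (.leaf 0x1632)) (.node (.leaf 0x1676) (.leaf 0x0))))) (.node (.node (.node (.node (.leaf 0x192) (.leaf 0x171a)) (.node (.leaf 0x445) (.leaf 0x17dd))) (.node (.node (.leaf 0x34a) (.leaf 0x123d)) (.node (.leaf 0x12b0) (.leaf 0x0)))) (.node (.node (.node (.leaf 0xf9c) (.leaf 0xc6c)) (.node (.leaf 0x154e) (.leaf 0x1a67))) (.node (.node (.leaf 0x93b) (.leaf 0x14be)) (.node (.leaf 0xf12) (.leaf 0x0))))))) (.node (.node (.node (.node (.node (.node (.leaf 0x83) (.leaf 0x866)) (.node (.leaf 0x141c) (.leaf 0x1887))) (.node (.node (.leaf 0x42a) (.leaf 0x149b)) (.node (.leaf 0x92a) (.leaf 0x0)))) (.node (.node (.node (.leaf 0x6e7) (.leaf 0x1184)) (.node (.leaf 0xa71) (.leaf 0x19a7)))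 (.node (.node (.leaf 0x392) (.leaf 0x1457)) (.node (.leaf 0x167e) (.leaf 0x0))))) (.node (.node (.node (.node (.leaf 0x1b0) (.leaf 0xa16)) (.node (.leaf 0xd45) (.leaf 0x191d))) (.node (.node (.leaf 0x8d2) (.leaf 0x12dc)) (.node (.leaf 0xa34) (.leaf 0x0)))) (.node (.node (.node (.leaf 0x9a8) (.leaf 0xee3)) (.node (.leaf 0x63a) (.leaf 0x1a40))) (.node (.node (.leaf 0x131c) (.leaf 0x13a4)) (.node (.leaf 0xb64) (.leaf 0x0)))))) (.node (.node (.node (.node (.node (.leaf 0xef) (.leaf 0x106b)) (.node (.leaf 0x498) (.leaf 0x17ec))) (.node (.node (.leaf 0xba9) (.leaf 0x1331)) (.node (.leaf 0x629) (.leaf 0x0)))) (.node (.node (.node (.leaf 0x9bf) (.leaf 0x11fc)) (.node (.leaf 0x519) (.leaf 0x19d1))) (.node (.node (.leaf 0xc03) (.leaf 0x13e9)) (.node (.leaf 0xf13) (.leaf 0x0))))) (.node (.node (.node (.node (.leaf 0x1e1) (.leaf 0x947)) (.node (.leaf 0x455) (.leaf 0x18e8))) (.node (.node (.leaf 0x567) (.leaf 0x10ef)) (.node (.leaf 0xacf) (.leaf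 0x0)))) (.node (.node (.node (.leaf 0xf60) (.leaf 0xea6)) (.node (.leaf 0x155e) (.leaf 0x1ae3))) (.node (.node (.leaf 0x357) (.leaf 0x13a7)) (.node (.leaf 0xb63) (.leaf 0x0))))))))

/-- Closure. -/
def clo6 : FTree := (.node (.node (.node (.node (.node (.node (.node (.leaf 0x27) (.leaf 0xc19)) (.node (.leaf 0x141d) (.leaf 0x18e5))) (.node (.node (.leaf 0x307) (.leaf 0x1272)) (.node (.leaf 0x62a) (.leaf 0x0)))) (.node (.node (.node (.leaf 0x976) (.leaf 0xcff)) (.node (.leaf 0x4ce) (.leaf 0x1adc))) (.node (.node (.leaf 0x111e) (.leaf 0x158e)) (.node (.leaf 0x1308) (.leaf 0x0))))) (.node (.node (.node (.node (.leaf 0xfc) (.leaf 0xa93)) (.node (.leaf 0x1059) (.leaf 0x188f))) (.node (.node (.leaf 0xbd2) (.leaf 0x121b)) (.node (.leaf 0x5d8) (.leaf 0x0)))) (.node (.node (.node (.leaf 0xf8c) (.leaf 0xc8d)) (.node (.leaf 0x532) (.leaf 0x1a13))) (.node (.node (.leaf 0x39f) (.leaf 0x16b2)) (.node (.leaf 0xb58) (.leaf 0x0)))))) (.node (.node (.node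 (.node (.node (.leaf 0xf1) (.leaf 0xaaf)) (.node (.leaf 0xfff) (.leaf 0x173d))) (.node (.node (.leaf 0x55f) (.leaf 0x149e)) (.node (.leaf 0x5fd) (.leaf 0x0)))) (.node (.node (.node (.leaf 0x8ba) (.leaf 0xece)) (.node (.leaf 0x652) (.leaf 0x1a35))) (.node (.node (.leaf 0x593) (.leaf 0x135f)) (.node (.leaf 0x16ca) (.leaf 0x0))))) (.node (.node (.node (.node (.leaf 0x151) (.leaf 0xab5)) (.node (.leaf 0x104b) (.leaf 0x1892))) (.node (.node (.leaf 0x275) (.leaf 0x116c)) (.node (.leaf 0x928) (.leaf 0x0)))) (.node (.node (.node (.leaf 0xf85) (.leaf 0xef8)) (.node (.leaf 0x542) (.leaf 0x1a87))) (.node (.node (.leaf 0x3b1) (.leaf 0x14c9)) (.node (.leaf 0x1608) (.leaf 0x0))))))) (.node (.node (.node (.node (.node (.node (.leaf 0x7a) (.leaf 0x1311)) (.node (.leaf 0xfe6) (.leaf 0x1814))) (.node (.node (.leaf 0xb9b) (.leaf 0x1114)) (.node (.leaf 0x594) (.leaf 0x0)))) (.node (.node (.node (.leaf 0x6e2) (.leaf 0xc9e)) (.node (.leaf 0x4f8) (.leaf 0x1b14)))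 (.node (.node (.leaf 0x325) (.leaf 0x14bb)) (.node (.leaf 0x752) (.leaf 0x0))))) (.node (.node (.node (.node (.leaf 0x178) (.leaf 0x8c9)) (.node (.leaf 0x1419) (.leaf 0x17ab))) (.node (.node (.leaf 0x309) (.leaf 0x10db)) (.node (.leaf 0x15da) (.leaf 0x0)))) (.node (.node (.node (.leaf 0x997) (.leaf 0xe85)) (.node (.leaf 0xe4f) (.leaf 0x1ae1))) (.node (.node (.leaf 0x32f) (.leaf 0x1450)) (.node (.leaf 0x749) (.leaf 0x0)))))) (.node (.node (.node (.node (.node (.leaf 0xc0) (.leaf 0x918)) (.node (.leaf 0x44e) (.leaf 0x179a))) (.node (.node (.leaf 0x56a) (.leaf 0x14a6)) (.node (.leaf 0xb6c) (.leaf 0x0)))) (.node (.node (.node (.leaf 0xf50) (.leaf 0xe87)) (.node (.leaf 0x52f) (.leaf 0x1a97))) (.node (.node (.leaf 0x1221) (.leaf 0x1633)) (.node (.leaf 0xf3b) (.leaf 0x0))))) (.node (.node (.node (.node (.leaf 0x1be) (.leaf 0xab2)) (.node (.leaf 0x45b) (.leaf 0x1723))) (.node (.node (.leaf 0x799) (.leaf 0x12e1)) (.node (.leaf 0xac8) (.leaf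 0x0)))) (.node (.node (.node (.leaf 0x3de) (.leaf 0x150b)) (.node (.leaf 0x69b) (.leaf 0x1a07))) (.node (.node (.leaf 0x1453) (.leaf 0x14cc)) (.node (.leaf 0x74a) (.leaf 0x0))))))))

/-- Closure. -/
def clo7 : FTree := (.node (.node (.node (.node (.node (.node (.node (.leaf 0x6b) (.leaf 0xbdb)) (.node (.leaf 0x431) (.leaf 0x180b))) (.node (.node (.leaf 0x4be) (.leaf 0x149f)) (.node (.leaf 0xaca) (.leaf 0x0)))) (.node (.node (.node (.leaf 0x885) (.leaf 0x14d5)) (.node (.leaf 0x161d) (.leaf 0x1991))) (.node (.node (.leaf 0x356) (.leaf 0x14fd)) (.node (.leaf 0x763) (.leaf 0x0))))) (.node (.node (.node (.node (.leaf 0x131) (.leaf 0x1588)) (.node (.leaf 0x49a) (.leaf 0x17d1))) (.node (.node (.leaf 0xbbe) (.leaf 0x10ee)) (.node (.leaf 0x6c1) (.leaf 0x0)))) (.node (.node (.node (.leaf 0x1961) (.leaf 0x11f9)) (.node (.leaf 0x694) (.leaf 0x1b23))) (.node (.node (.leaf 0xa02) (.leaf 0x1682)) (.node (.leaf 0xf2c) (.leaf 0x0)))))) (.node (.node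 (.node (.node (.node (.leaf 0xa7) (.leaf 0x130b)) (.node (.leaf 0xd5e) (.leaf 0x181c))) (.node (.node (.leaf 0xbd5) (.leaf 0x11ef)) (.node (.leaf 0xa3a) (.leaf 0x0)))) (.node (.node (.node (.leaf 0x988) (.leaf 0xea1)) (.node (.leaf 0x818) (.leaf 0x1a10))) (.node (.node (.leaf 0xa12) (.leaf 0x1485)) (.node (.leaf 0x16ef) (.leaf 0x0))))) (.node (.node (.node (.node (.leaf 0x1a0) (.leaf 0x157f)) (.node (.leaf 0xd3e) (.leaf 0x18ab))) (.node (.node (.leaf 0x7d1) (.leaf 0x1109)) (.node (.leaf 0x68a) (.leaf 0x0)))) (.node (.node (.node (.leaf 0x9d3) (.leaf 0x15cc)) (.node (.leaf 0x81d) (.leaf 0x1a53))) (.node (.node (.leaf 0x945) (.leaf 0x1545)) (.node (.leaf 0xb54) (.leaf 0x0))))))) (.node (.node (.node (.node (.node (.node (.leaf 0x7b) (.leaf 0xe24)) (.node (.leaf 0xff0) (.leaf 0x17d5))) (.node (.node (.leaf 0x196b) (.leaf 0x136f)) (.node (.leaf 0x601) (.leaf 0x0)))) (.node (.node (.node (.leaf 0x6e9) (.leaf 0xe1f)) (.node (.leaf 0xe40)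 (.leaf 0x1b4e))) (.node (.node (.leaf 0x2f2) (.leaf 0x16b7)) (.node (.leaf 0xaf4) (.leaf 0x0))))) (.node (.node (.node (.node (.leaf 0x165) (.leaf 0xab0)) (.node (.leaf 0x950) (.leaf 0x1898))) (.node (.node (.leaf 0x7cb) (.leaf 0x1037)) (.node (.leaf 0xc27) (.leaf 0x0)))) (.node (.node (.node (.leaf 0x203) (.leaf 0xdfe)) (.node (.leaf 0x637) (.leaf 0x1a73))) (.node (.node (.leaf 0x49c) (.leaf 0x14c4)) (.node (.leaf 0x75d) (.leaf 0x0)))))) (.node (.node (.node (.node (.node (.leaf 0x176) (.leaf 0x96f)) (.node (.leaf 0x454) (.leaf 0x1759))) (.node (.node (.leaf 0xba7) (.leaf 0x132f)) (.node (.leaf 0x602) (.leaf 0x0)))) (.node (.node (.node (.leaf 0x6d7) (.leaf 0xd9e)) (.node (.leaf 0xd8f) (.leaf 0x1b29))) (.node (.node (.leaf 0x58d) (.leaf 0x14af)) (.node (.leaf 0x1604) (.leaf 0x0))))) (.node (.node (.node (.node (.leaf 0x0) (.leaf 0x0)) (.node (.leaf 0x0) (.leaf 0x0))) (.node (.node (.leaf 0x0) (.leaf 0x0)) (.node (.leaf 0x0) (.leaf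 0x0)))) (.node (.node (.node (.leaf 0x0) (.leaf 0x0)) (.node (.leaf 0x0) (.leaf 0x0))) (.node (.node (.leaf 0x0) (.leaf 0x0)) (.node (.leaf 0x0) (.leaf 0x0))))))))

/-- Closure. -/
def clo8 : FTree := (.node (.node (.node (.node (.node (.node (.node (.leaf 0xc) (.leaf 0x82c)) (.node (.leaf 0x414) (.leaf 0x1802))) (.node (.node (.leaf 0x558) (.leaf 0x1258)) (.node (.leaf 0x5ff) (.leaf 0x0)))) (.node (.node (.node (.leaf 0x878) (.leaf 0xe0c)) (.node (.leaf 0x119a) (.leaf 0x1aae))) (.node (.node (.leaf 0x596) (.leaf 0x16b3)) (.node (.leaf 0xf16) (.leaf 0x0))))) (.node (.node (.node (.node (.leaf 0x17a) (.leaf 0x83f)) (.node (.leaf 0x1004) (.leaf 0x17b2))) (.node (.node (.leaf 0x4b3) (.leaf 0x12a6)) (.node (.leaf 0x60d) (.leaf 0x0)))) (.node (.node (.node (.leaf 0x9c6) (.leaf 0x126b)) (.node (.leaf 0x12d8) (.leaf 0x19a0))) (.node (.node (.leaf 0x1227) (.leaf 0x18df)) (.node (.leaf 0x163c) (.leaf 0x0)))))) (.node (.node (.node (.node (.node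 (.leaf 0x55) (.leaf 0x847)) (.node (.leaf 0xb10) (.leaf 0x1888))) (.node (.node (.leaf 0x430) (.leaf 0x10fa)) (.node (.leaf 0x672) (.leaf 0x0)))) (.node (.node (.node (.leaf 0x400) (.leaf 0x143e)) (.node (.leaf 0xebc) (.leaf 0x19e5))) (.node (.node (.leaf 0x120f) (.leaf 0x15dd)) (.node (.leaf 0x770) (.leaf 0x0))))) (.node (.node (.node (.node (.leaf 0x196) (.leaf 0x11ac)) (.node (.leaf 0x1031) (.leaf 0x1799))) (.node (.node (.leaf 0x25d) (.leaf 0x1076)) (.node (.leaf 0x90b) (.leaf 0x0)))) (.node (.node (.node (.leaf 0x216) (.leaf 0xe3a)) (.node (.leaf 0x641) (.leaf 0x1a6c))) (.node (.node (.leaf 0x38d) (.leaf 0x18bc)) (.node (.leaf 0x701) (.leaf 0x0))))))) (.node (.node (.node (.node (.node (.node (.leaf 0x7e) (.leaf 0xa29)) (.node (.leaf 0x13f6) (.leaf 0x18a8))) (.node (.node (.leaf 0x573) (.leaf 0x1189)) (.node (.leaf 0x15d4) (.leaf 0x0)))) (.node (.node (.node (.leaf 0x87e) (.leaf 0xefa)) (.node (.leaf 0x9d9) (.leaf 0x1a45))) (.node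 (.node (.leaf 0xc01) (.leaf 0x13de)) (.node (.leaf 0xb32) (.leaf 0x0))))) (.node (.node (.node (.node (.leaf 0x198) (.leaf 0x802)) (.node (.leaf 0x418) (.leaf 0x1746))) (.node (.node (.leaf 0x254) (.leaf 0xfad)) (.node (.leaf 0x197e) (.leaf 0x0)))) (.node (.node (.node (.leaf 0x218) (.leaf 0xee9)) (.node (.leaf 0x4d6) (.leaf 0x1977))) (.node (.node (.leaf 0x2e8) (.leaf 0x14b4)) (.node (.leaf 0x70b) (.leaf 0x0)))))) (.node (.node (.node (.node (.node (.leaf 0xa4) (.leaf 0x931)) (.node (.leaf 0xffb) (.leaf 0x18d3))) (.node (.node (.leaf 0x196d) (.leaf 0x136c)) (.node (.leaf 0x600) (.leaf 0x0)))) (.node (.node (.node (.leaf 0x6eb) (.leaf 0xe0d)) (.node (.leaf 0x4ee) (.leaf 0x1ac8))) (.node (.node (.leaf 0x2f1) (.leaf 0x1afe)) (.node (.leaf 0xaec) (.leaf 0x0))))) (.node (.node (.node (.node (.leaf 0x1e3) (.leaf 0x1340)) (.node (.leaf 0xffa) (.leaf 0x18d7))) (.node (.node (.leaf 0x565) (.leaf 0x12e6)) (.node (.leaf 0xacd) (.leaf 0x0))))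 (.node (.node (.node (.leaf 0xf8a) (.leaf 0xe36)) (.node (.leaf 0xb87) (.leaf 0x1b11))) (.node (.node (.leaf 0x935) (.leaf 0x1643)) (.node (.leaf 0x12f2) (.leaf 0x0))))))))

/-- Closure. -/
def clo9 : FTree := (.node (.node (.node (.node (.node (.node (.node (.leaf 0x28) (.leaf 0xa7f)) (.node (.leaf 0x477) (.leaf 0x180a))) (.node (.node (.leaf 0x7e5) (.leaf 0x1266)) (.node (.leaf 0x6b1) (.leaf 0x0)))) (.node (.node (.node (.leaf 0x240) (.leaf 0xdfb)) (.node (.leaf 0x9f6) (.leaf 0x1997))) (.node (.node (.leaf 0x3a3) (.leaf 0x1614)) (.node (.leaf 0xb74) (.leaf 0x0))))) (.node (.node (.node (.node (.leaf 0x13a) (.leaf 0x7ab)) (.node (.leaf 0x488) (.leaf 0x186d))) (.node (.node (.leaf 0x797) (.leaf 0x12af)) (.node (.leaf 0xc38) (.leaf 0x0)))) (.node (.node (.node (.leaf 0x24c) (.leaf 0xc5d)) (.node (.leaf 0x523) (.leaf 0x1995))) (.node (.node (.leaf 0x4a1) (.leaf 0x13dc)) (.node (.leaf 0xb5e) (.leaf 0x0)))))) (.node (.node (.node (.node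 (.node (.leaf 0xb4) (.leaf 0x1072)) (.node (.leaf 0xfdd) (.leaf 0x1867))) (.node (.node (.leaf 0x1083) (.leaf 0x1287)) (.node (.leaf 0x129c) (.leaf 0x0)))) (.node (.node (.node (.leaf 0x3f8) (.leaf 0xc74)) (.node (.leaf 0x640) (.leaf 0x19ab))) (.node (.node (.leaf 0x949) (.leaf 0x1699)) (.node (.leaf 0x764) (.leaf 0x0))))) (.node (.node (.node (.node (.leaf 0x190) (.leaf 0xcd5)) (.node (.leaf 0x1415) (.leaf 0x18d8))) (.node (.node (.leaf 0x26b) (.leaf 0x1147)) (.node (.leaf 0x791) (.leaf 0x0)))) (.node (.node (.node (.leaf 0x3f6) (.leaf 0xf44)) (.node (.leaf 0x69f) (.leaf 0x1af9))) (.node (.node (.leaf 0xcbf) (.leaf 0x15c3)) (.node (.leaf 0x854) (.leaf 0x0))))))) (.node (.node (.node (.node (.node (.node (.leaf 0x67) (.leaf 0x157d)) (.node (.leaf 0xd33) (.leaf 0x180f))) (.node (.node (.leaf 0xbc5) (.leaf 0x1277)) (.node (.leaf 0xa35) (.leaf 0x0)))) (.node (.node (.node (.leaf 0x9c7) (.leaf 0xcdf)) (.node (.leaf 0x4cd) (.leaf 0x1a6b)))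 (.node (.node (.leaf 0xa09) (.leaf 0x14e1)) (.node (.leaf 0xfc7) (.leaf 0x0))))) (.node (.node (.node (.node (.leaf 0x14b) (.leaf 0x92e)) (.node (.leaf 0x140f) (.leaf 0x1920))) (.node (.node (.leaf 0x108a) (.leaf 0x12ec)) (.node (.leaf 0x5d4) (.leaf 0x0)))) (.node (.node (.node (.leaf 0x6f9) (.leaf 0x116e)) (.node (.leaf 0x513) (.leaf 0x1a08))) (.node (.node (.leaf 0x8f2) (.leaf 0x1322)) (.node (.leaf 0x744) (.leaf 0x0)))))) (.node (.node (.node (.node (.node (.leaf 0xec) (.leaf 0x837)) (.node (.leaf 0x727) (.leaf 0x176a))) (.node (.node (.leaf 0x284) (.leaf 0x11e6)) (.node (.leaf 0x926) (.leaf 0x0)))) (.node (.node (.node (.leaf 0xf84) (.leaf 0xda9)) (.node (.leaf 0x510) (.leaf 0x1b0d))) (.node (.node (.leaf 0x4dd) (.leaf 0x15bc)) (.node (.leaf 0x769) (.leaf 0x0))))) (.node (.node (.node (.node (.leaf 0x1d8) (.leaf 0x9dc)) (.node (.leaf 0x729) (.leaf 0x1911))) (.node (.node (.leaf 0x30c) (.leaf 0x1107)) (.node (.leaf 0x5c4) (.leaf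 0x0)))) (.node (.node (.node (.leaf 0x3d0) (.leaf 0xdd9)) (.node (.leaf 0x4f1) (.leaf 0x1b6e))) (.node (.node (.leaf 0x364) (.leaf 0x16e0)) (.node (.leaf 0x12e3) (.leaf 0x0))))))))

/-- Closure. -/
def clo10 : FTree := (.node (.node (.node (.node (.node (.node (.node (.leaf 0x16) (.leaf 0xb37)) (.node (.leaf 0x960) (.leaf 0x1917))) (.node (.node (.leaf 0x115e) (.leaf 0x11d4)) (.node (.leaf 0x635) (.leaf 0x0)))) (.node (.node (.node (.leaf 0x8c0) (.leaf 0xda0)) (.node (.leaf 0x69c) (.leaf 0x1998))) (.node (.node (.leaf 0x1395) (.leaf 0x169b)) (.node (.leaf 0x16eb) (.leaf 0x0))))) (.node (.node (.node (.node (.leaf 0x13c) (.leaf 0x9fa)) (.node (.leaf 0x7bf) (.leaf 0x1950))) (.node (.node (.leaf 0x274) (.leaf 0x122e)) (.node (.leaf 0x783) (.leaf 0x0)))) (.node (.node (.node (.leaf 0x23a) (.leaf 0x1252)) (.node (.leaf 0xe45) (.leaf 0x1b35))) (.node (.node (.leaf 0xbe7) (.leaf 0x13b1)) (.node (.leaf 0xb1c) (.leaf 0x0)))))) (.node (.node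 (.node (.node (.node (.leaf 0xca) (.leaf 0xe82)) (.node (.leaf 0xfe5) (.leaf 0x1910))) (.node (.node (.leaf 0xbcb) (.leaf 0x137c)) (.node (.leaf 0x5e4) (.leaf 0x0)))) (.node (.node (.node (.leaf 0x700) (.leaf 0x1263)) (.node (.leaf 0xb86) (.leaf 0x1ac6))) (.node (.node (.leaf 0x5a5) (.leaf 0x1590)) (.node (.leaf 0x15ef) (.leaf 0x0))))) (.node (.node (.node (.node (.leaf 0x1af) (.leaf 0xc21)) (.node (.leaf 0x40e) (.leaf 0x17d9))) (.node (.node (.leaf 0x27f) (.leaf 0x1179)) (.node (.leaf 0x14e2) (.leaf 0x0)))) (.node (.node (.node (.leaf 0x3c7) (.leaf 0xc78)) (.node (.leaf 0x4d5) (.leaf 0x1b6f))) (.node (.node (.leaf 0xdc1) (.leaf 0x148e)) (.node (.leaf 0xf35) (.leaf 0x0))))))) (.node (.node (.node (.node (.node (.node (.leaf 0x5d) (.leaf 0xce0)) (.node (.leaf 0x433) (.leaf 0x18e6))) (.node (.node (.leaf 0x107f) (.leaf 0x12b3)) (.node (.leaf 0x1516) (.leaf 0x0)))) (.node (.node (.node (.leaf 0x226) (.leaf 0x14da)) (.node (.leaf 0x1192)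 (.leaf 0x1aff))) (.node (.node (.leaf 0x1349) (.leaf 0x1493)) (.node (.leaf 0xefd) (.leaf 0x0))))) (.node (.node (.node (.node (.leaf 0x154) (.leaf 0xe2b)) (.node (.leaf 0x46e) (.leaf 0x187f))) (.node (.node (.leaf 0x822) (.leaf 0x10ba)) (.node (.leaf 0x138b) (.leaf 0x0)))) (.node (.node (.node (.leaf 0x243) (.leaf 0x1188)) (.node (.leaf 0x653) (.leaf 0x1a37))) (.node (.node (.leaf 0x1205) (.leaf 0x1497)) (.node (.leaf 0x85a) (.leaf 0x0)))))) (.node (.node (.node (.node (.node (.leaf 0x9f) (.leaf 0x1753)) (.node (.leaf 0x1057) (.leaf 0x1878))) (.node (.node (.leaf 0xbc1) (.leaf 0x183e)) (.node (.leaf 0x786) (.leaf 0x0)))) (.node (.node (.node (.leaf 0xf61) (.leaf 0xc8e)) (.node (.leaf 0xb80) (.leaf 0x1a0f))) (.node (.node (.leaf 0xcb8) (.leaf 0x14df)) (.node (.leaf 0xf06) (.leaf 0x0))))) (.node (.node (.node (.node (.leaf 0x183) (.leaf 0xc42)) (.node (.leaf 0x1055) (.leaf 0x1907))) (.node (.node (.leaf 0xbc6) (.leaf 0x183a)) (.node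 (.leaf 0x1596) (.leaf 0x0)))) (.node (.node (.node (.leaf 0xf54) (.leaf 0xe0f)) (.node (.leaf 0x648) (.leaf 0x1b10))) (.node (.node (.leaf 0x1396) (.leaf 0x162a)) (.node (.leaf 0xf21) (.leaf 0x0))))))))

/-- Closure. -/
def clo11 : FTree := (.node (.node (.node (.node (.node (.node (.node (.leaf 0x40) (.leaf 0x1342)) (.node (.leaf 0xffc) (.leaf 0x1777))) (.node (.node (.leaf 0x4b5) (.leaf 0x12da)) (.node (.leaf 0xdef) (.leaf 0x0)))) (.node (.node (.node (.leaf 0x9aa) (.leaf 0x11dd)) (.node (.leaf 0x9e2) (.leaf 0x1b2f))) (.node (.node (.leaf 0x131f) (.leaf 0x1461)) (.node (.leaf 0xfcf) (.leaf 0x0))))) (.node (.node (.node (.node (.leaf 0x15a) (.leaf 0x9e7)) (.node (.leaf 0x44a) (.leaf 0x17b6))) (.node (.node (.leaf 0x2d6) (.leaf 0x1117)) (.node (.leaf 0x687) (.leaf 0x0)))) (.node (.node (.node (.leaf 0x3d1) (.leaf 0xcfc)) (.node (.leaf 0xa5d) (.leaf 0x19f2))) (.node (.node (.leaf 0x1210) (.leaf 0x13ca)) (.node (.leaf 0x737) (.leaf 0x0))))))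 (.node (.node (.node (.node (.node (.leaf 0x8a) (.leaf 0xaa7)) (.node (.leaf 0x440) (.leaf 0x18c9))) (.node (.node (.leaf 0x43a) (.leaf 0x1334)) (.node (.leaf 0x61d) (.leaf 0x0)))) (.node (.node (.node (.leaf 0x876) (.leaf 0x13e8)) (.node (.leaf 0x80a) (.leaf 0x19ea))) (.node (.node (.leaf 0x5be) (.leaf 0x155a)) (.node (.leaf 0x160a) (.leaf 0x0))))) (.node (.node (.node (.node (.leaf 0x1c7) (.leaf 0x823)) (.node (.leaf 0x140a) (.leaf 0x1831))) (.node (.node (.leaf 0x26a) (.leaf 0x1143)) (.node (.leaf 0x5dd) (.leaf 0x0)))) (.node (.node (.node (.leaf 0x3f4) (.leaf 0xe59)) (.node (.leaf 0x1622) (.leaf 0x1b4c))) (.node (.node (.leaf 0x902) (.leaf 0x18c6)) (.node (.leaf 0x858) (.leaf 0x0))))))) (.node (.node (.node (.node (.node (.node (.leaf 0x77) (.leaf 0x106e)) (.node (.leaf 0x720) (.leaf 0x18d5))) (.node (.node (.leaf 0x27c) (.leaf 0x11ae)) (.node (.leaf 0xc35) (.leaf 0x0)))) (.node (.node (.node (.leaf 0xf93) (.leaf 0xf45)) (.node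 (.leaf 0x12c9) (.leaf 0x1b0c))) (.node (.node (.leaf 0x1125) (.leaf 0x169c)) (.node (.leaf 0x16c1) (.leaf 0x0))))) (.node (.node (.node (.node (.leaf 0x161) (.leaf 0x912)) (.node (.leaf 0x1006) (.leaf 0x1761))) (.node (.node (.leaf 0x56f) (.leaf 0x12e2)) (.node (.leaf 0xde4) (.leaf 0x0)))) (.node (.node (.node (.leaf 0xf7b) (.leaf 0xc86)) (.node (.leaf 0xe4b) (.leaf 0x1a0e))) (.node (.node (.leaf 0x134b) (.leaf 0x15e5)) (.node (.leaf 0x1302) (.leaf 0x0)))))) (.node (.node (.node (.node (.node (.leaf 0x10a) (.leaf 0x1585)) (.node (.leaf 0xd50) (.leaf 0x1732))) (.node (.node (.leaf 0x1168) (.leaf 0x114f)) (.node (.leaf 0x5b3) (.leaf 0x0)))) (.node (.node (.node (.leaf 0x3f0) (.leaf 0x1185)) (.node (.leaf 0x509) (.leaf 0x19e6))) (.node (.node (.leaf 0x31e) (.leaf 0x1696)) (.node (.leaf 0x1651) (.leaf 0x0))))) (.node (.node (.node (.node (.leaf 0x0) (.leaf 0x0)) (.node (.leaf 0x0) (.leaf 0x0))) (.node (.node (.leaf 0x0) (.leaf 0x0)) (.node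 (.leaf 0x0) (.leaf 0x0)))) (.node (.node (.node (.leaf 0x0) (.leaf 0x0)) (.node (.leaf 0x0) (.leaf 0x0))) (.node (.node (.leaf 0x0) (.leaf 0x0)) (.node (.leaf 0x0) (.leaf 0x0))))))))

/-- Closure. -/
def clo12 : FTree := (.node (.node (.node (.node (.node (.node (.node (.leaf 0x19) (.leaf 0xa1f)) (.node (.leaf 0x1041) (.leaf 0x175d))) (.node (.node (.leaf 0x2b2) (.leaf 0x11bf)) (.node (.leaf 0xb7b) (.leaf 0x0)))) (.node (.node (.node (.leaf 0x3e0) (.leaf 0xe5f)) (.node (.leaf 0x1805) (.leaf 0x19b1))) (.node (.node (.leaf 0x463) (.leaf 0x13b0)) (.node (.leaf 0xfc2) (.leaf 0x0))))) (.node (.node (.node (.node (.leaf 0x12b) (.leaf 0x1309)) (.node (.leaf 0x1045) (.leaf 0x17a4))) (.node (.node (.leaf 0x8d7) (.leaf 0x128f)) (.node (.leaf 0x12a1) (.leaf 0x0)))) (.node (.node (.node (.leaf 0xf9d) (.leaf 0x13eb)) (.node (.leaf 0xeb9) (.leaf 0x1a71))) (.node (.node (.leaf 0x5f5) (.leaf 0x1525)) (.node (.leaf 0xb1e) (.leaf 0x0)))))) (.node (.node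 (.node (.node (.node (.leaf 0x87) (.leaf 0xa27)) (.node (.leaf 0x103c) (.leaf 0x18fa))) (.node (.node (.leaf 0x56c) (.leaf 0x12b2)) (.node (.leaf 0xdf4) (.leaf 0x0)))) (.node (.node (.node (.leaf 0x6ce) (.leaf 0xdca)) (.node (.leaf 0x53d) (.leaf 0x19d6))) (.node (.node (.leaf 0x1230) (.leaf 0x13aa)) (.node (.leaf 0x85e) (.leaf 0x0))))) (.node (.node (.node (.node (.leaf 0x1bd) (.leaf 0x94d)) (.node (.leaf 0xd52) (.leaf 0x17e2))) (.node (.node (.leaf 0x386) (.leaf 0x1133)) (.node (.leaf 0xb76) (.leaf 0x0)))) (.node (.node (.node (.leaf 0x97a) (.leaf 0xf42)) (.node (.leaf 0xd7d) (.leaf 0x1a0c))) (.node (.node (.leaf 0xc14) (.leaf 0x135d)) (.node (.leaf 0xb5b) (.leaf 0x0))))))) (.node (.node (.node (.node (.node (.node (.leaf 0x45) (.leaf 0xe29)) (.node (.leaf 0x951) (.leaf 0x1833))) (.node (.node (.leaf 0x421) (.leaf 0xfd7)) (.node (.leaf 0x636) (.leaf 0x0)))) (.node (.node (.node (.leaf 0x207) (.leaf 0xe90)) (.node (.leaf 0xb8d) (.leaf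 0x19fd))) (.node (.node (.leaf 0x32d) (.leaf 0x14f6)) (.node (.leaf 0xfb8) (.leaf 0x0))))) (.node (.node (.node (.node (.leaf 0x13e) (.leaf 0x1313)) (.node (.leaf 0xd70) (.leaf 0x1941))) (.node (.node (.leaf 0x370) (.leaf 0x1139)) (.node (.leaf 0xdd2) (.leaf 0x0)))) (.node (.node (.node (.leaf 0x982) (.leaf 0x11eb)) (.node (.leaf 0x642) (.leaf 0x1b58))) (.node (.node (.leaf 0x3ba) (.leaf 0x156c)) (.node (.leaf 0x734) (.leaf 0x0)))))) (.node (.node (.node (.node (.node (.leaf 0xd5) (.leaf 0x7a1)) (.node (.leaf 0x105b) (.leaf 0x1823))) (.node (.node (.leaf 0x7c7) (.leaf 0x10b2)) (.node (.leaf 0x1390) (.leaf 0x0)))) (.node (.node (.node (.leaf 0x3d8) (.leaf 0xee0)) (.node (.leaf 0xebb) (.leaf 0x19f4))) (.node (.node (.leaf 0x1204) (.leaf 0x13ab)) (.node (.leaf 0x753) (.leaf 0x0))))) (.node (.node (.node (.node (.leaf 0x1d6) (.leaf 0x830)) (.node (.leaf 0xff9) (.leaf 0x1751))) (.node (.node (.leaf 0x2b8) (.leaf 0x1286)) (.node (.leaf 0xe09)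 (.leaf 0x0)))) (.node (.node (.node (.leaf 0xf5b) (.leaf 0xda2)) (.node (.leaf 0x67a) (.leaf 0x1a9e))) (.node (.node (.leaf 0x3a5) (.leaf 0x13a5)) (.node (.leaf 0x1663) (.leaf 0x0))))))))

/-- Closure. -/
def clo13 : FTree := (.node (.node (.node (.node (.node (.node (.node (.leaf 0x3b) (.leaf 0x1069)) (.node (.leaf 0x1412) (.leaf 0x179b))) (.node (.node (.leaf 0xbc8) (.leaf 0x124b)) (.node (.leaf 0x626) (.leaf 0x0)))) (.node (.node (.node (.leaf 0x9b1) (.leaf 0xcd4)) (.node (.leaf 0x544) (.leaf 0x1ab0))) (.node (.node (.leaf 0x4a8) (.leaf 0x13bc)) (.node (.leaf 0xb5f) (.leaf 0x0))))) (.node (.node (.node (.node (.leaf 0x179) (.leaf 0x83d)) (.node (.leaf 0xff4) (.leaf 0x18ef))) (.node (.node (.leaf 0x352) (.leaf 0x10e0)) (.node (.leaf 0x6c7) (.leaf 0x0)))) (.node (.node (.node (.leaf 0xf5d) (.leaf 0x1246)) (.node (.leaf 0x12d0) (.leaf 0x1a0d))) (.node (.node (.leaf 0x4e5) (.leaf 0x16bb)) (.node (.leaf 0x75a) (.leaf 0x0)))))) (.node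 (.node (.node (.node (.node (.leaf 0xdb) (.leaf 0x84a)) (.node (.leaf 0xb0e) (.leaf 0x1774))) (.node (.node (.leaf 0x2d3) (.leaf 0x1254)) (.node (.leaf 0x68b) (.leaf 0x0)))) (.node (.node (.node (.leaf 0x195d) (.leaf 0xe18)) (.node (.leaf 0x12d7) (.leaf 0x1b3b))) (.node (.node (.leaf 0x5f3) (.leaf 0x1547)) (.node (.leaf 0x1650) (.leaf 0x0))))) (.node (.node (.node (.node (.leaf 0x1c2) (.leaf 0xa89)) (.node (.leaf 0x419) (.leaf 0x1843))) (.node (.node (.leaf 0x7a4) (.leaf 0x1014)) (.node (.leaf 0x595) (.leaf 0x0)))) (.node (.node (.node (.leaf 0x21b) (.leaf 0xd04)) (.node (.leaf 0x1806) (.leaf 0x1a4e))) (.node (.node (.leaf 0x2e3) (.leaf 0x1338)) (.node (.leaf 0x72e) (.leaf 0x0))))))) (.node (.node (.node (.node (.node (.node (.leaf 0x44) (.leaf 0x1028)) (.node (.leaf 0x48e) (.leaf 0x1943))) (.node (.node (.leaf 0x2e5) (.leaf 0x182c)) (.node (.leaf 0x138e) (.leaf 0x0)))) (.node (.node (.node (.leaf 0x1955) (.leaf 0xf34)) (.node (.leaf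 0x1557) (.leaf 0x1ad5))) (.node (.node (.leaf 0x35a) (.leaf 0x13ba)) (.node (.leaf 0x165f) (.leaf 0x0))))) (.node (.node (.node (.node (.leaf 0x126) (.leaf 0xaa3)) (.node (.leaf 0x140b) (.leaf 0x187e))) (.node (.node (.leaf 0x291) (.leaf 0x127b)) (.node (.leaf 0x691) (.leaf 0x0)))) (.node (.node (.node (.leaf 0x8a9) (.leaf 0xe39)) (.node (.leaf 0xe47) (.leaf 0x19af))) (.node (.node (.leaf 0x4dc) (.leaf 0x16b5)) (.node (.leaf 0x1666) (.leaf 0x0)))))) (.node (.node (.node (.node (.node (.leaf 0xf3) (.leaf 0xc1f)) (.node (.leaf 0xfde) (.leaf 0x185f))) (.node (.node (.leaf 0xbb5) (.leaf 0x1380)) (.node (.leaf 0x603) (.leaf 0x0)))) (.node (.node (.node (.leaf 0x6fe) (.leaf 0xc97)) (.node (.leaf 0x52e) (.leaf 0x1b12))) (.node (.node (.leaf 0x2f6) (.leaf 0x13a0)) (.node (.leaf 0x15f4) (.leaf 0x0))))) (.node (.node (.node (.node (.leaf 0x1fd) (.leaf 0xa94)) (.node (.leaf 0x965) (.leaf 0x1711))) (.node (.node (.leaf 0x8e6) (.leaf 0x1011)) (.node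 (.leaf 0x5c7) (.leaf 0x0)))) (.node (.node (.node (.leaf 0x204) (.leaf 0xe43)) (.node (.leaf 0xd88) (.leaf 0x197c))) (.node (.node (.leaf 0x35d) (.leaf 0x1362)) (.node (.leaf 0xb13) (.leaf 0x0))))))))

/-- Closure. -/
def clo14 : FTree := (.node (.node (.node (.node (.node (.node (.node (.leaf 0x34) (.leaf 0x130e)) (.node (.leaf 0x427) (.leaf 0x189b))) (.node (.node (.leaf 0x2bc) (.leaf 0x1269)) (.node (.leaf 0xde7) (.leaf 0x0)))) (.node (.node (.node (.leaf 0x24a) (.leaf 0xf41)) (.node (.leaf 0x12ce) (.leaf 0x1a21))) (.node (.node (.leaf 0xc11) (.leaf 0x143d)) (.node (.leaf 0x12ea) (.leaf 0x0))))) (.node (.node (.node (.node (.leaf 0x15c) (.leaf 0x8cf)) (.node (.leaf 0xd30) (.leaf 0x18f6))) (.node (.node (.leaf 0xbba) (.leaf 0x1118)) (.node (.leaf 0x1598) (.leaf 0x0)))) (.node (.node (.node (.leaf 0xf99) (.leaf 0xef3)) (.node (.leaf 0xd8a) (.leaf 0x1a75))) (.node (.node (.leaf 0x7f8) (.leaf 0x1379)) (.node (.leaf 0x75c) (.leaf 0x0))))))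 (.node (.node (.node (.node (.node (.leaf 0xc2) (.leaf 0x1726)) (.node (.leaf 0xfe7) (.leaf 0x1882))) (.node (.node (.leaf 0x301) (.leaf 0x11f4)) (.node (.leaf 0x5e1) (.leaf 0x0)))) (.node (.node (.node (.leaf 0x87c) (.leaf 0xe4d)) (.node (.leaf 0xb93) (.leaf 0x19f0))) (.node (.node (.leaf 0x5a6) (.leaf 0x15cf)) (.node (.leaf 0xf17) (.leaf 0x0))))) (.node (.node (.node (.node (.leaf 0x186) (.leaf 0x152b)) (.node (.leaf 0xd35) (.leaf 0x1919))) (.node (.node (.leaf 0xb9a) (.leaf 0x126e)) (.node (.leaf 0x18b0) (.leaf 0x0)))) (.node (.node (.node (.leaf 0x3eb) (.leaf 0xcb6)) (.node (.leaf 0x4d1) (.leaf 0x1af1))) (.node (.node (.leaf 0x5d0) (.leaf 0x14e0)) (.node (.leaf 0xb2d) (.leaf 0x0))))))) (.node (.node (.node (.node (.node (.node (.leaf 0x70) (.leaf 0xab9)) (.node (.leaf 0x1411) (.leaf 0x173a))) (.node (.node (.leaf 0xbaf) (.leaf 0x1195)) (.node (.leaf 0x5d7) (.leaf 0x0)))) (.node (.node (.node (.leaf 0x981) (.leaf 0xed7)) (.node (.leaf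 0xa6a) (.leaf 0x1b49))) (.node (.node (.leaf 0x5ce) (.leaf 0x1541)) (.node (.leaf 0xb69) (.leaf 0x0))))) (.node (.node (.node (.node (.leaf 0x191) (.leaf 0xc22)) (.node (.leaf 0xd66) (.leaf 0x17a3))) (.node (.node (.leaf 0xbd6) (.leaf 0x1293)) (.node (.leaf 0xdde) (.leaf 0x0)))) (.node (.node (.node (.leaf 0x995) (.leaf 0xe12)) (.node (.leaf 0x67e) (.leaf 0x19e4))) (.node (.node (.leaf 0xc15) (.leaf 0x13cc)) (.node (.leaf 0x16c4) (.leaf 0x0)))))) (.node (.node (.node (.node (.node (.leaf 0xe0) (.leaf 0x828)) (.node (.leaf 0x3e6) (.leaf 0x1879))) (.node (.node (.leaf 0x107a) (.leaf 0x1030)) (.node (.leaf 0x59f) (.leaf 0x0)))) (.node (.node (.node (.leaf 0x215) (.leaf 0xc7a)) (.node (.leaf 0x4fc) (.leaf 0x1a9a))) (.node (.node (.leaf 0x326) (.leaf 0x1339)) (.node (.leaf 0x710) (.leaf 0x0))))) (.node (.node (.node (.node (.leaf 0x1e6) (.leaf 0x864)) (.node (.leaf 0x1417) (.leaf 0x1765))) (.node (.node (.leaf 0x34b) (.leaf 0x11bc)) (.node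 (.leaf 0x90d) (.leaf 0x0)))) (.node (.node (.node (.leaf 0x9bd) (.leaf 0xcd2)) (.node (.leaf 0x15a2) (.leaf 0x1b27))) (.node (.node (.leaf 0x3ad) (.leaf 0x13e4)) (.node (.leaf 0xfc0) (.leaf 0x0))))))))

/-- Closure. -/
def clo15 : FTree := (.node (.node (.node (.node (.node (.node (.node (.leaf 0x48) (.leaf 0xa26)) (.node (.leaf 0x95b) (.leaf 0x1909))) (.node (.node (.leaf 0x1096) (.leaf 0x1211)) (.node (.leaf 0x5b6) (.leaf 0x0)))) (.node (.node (.node (.leaf 0x896) (.leaf 0xca1)) (.node (.leaf 0x1197) (.leaf 0x1a44))) (.node (.node (.leaf 0x31c) (.leaf 0x13dd)) (.node (.leaf 0xf15) (.leaf 0x0))))) (.node (.node (.node (.node (.leaf 0x189) (.leaf 0x839)) (.node (.leaf 0x410) (.leaf 0x1767))) (.node (.node (.leaf 0x56d) (.leaf 0x1324)) (.node (.leaf 0x5df) (.leaf 0x0)))) (.node (.node (.node (.leaf 0x871) (.leaf 0xc3a)) (.node (.leaf 0x161f) (.leaf 0x1b4a))) (.node (.node (.leaf 0x1974) (.leaf 0x15bb)) (.node (.leaf 0x15f1) (.leaf 0x0))))))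 (.node (.node (.node (.node (.node (.leaf 0xee) (.leaf 0x13d4)) (.node (.leaf 0xff2) (.leaf 0x1796))) (.node (.node (.leaf 0x308) (.leaf 0x1239)) (.node (.leaf 0x5e2) (.leaf 0x0)))) (.node (.node (.node (.leaf 0x8ab) (.leaf 0xce6)) (.node (.leaf 0x525) (.leaf 0x1aad))) (.node (.node (.leaf 0x31f) (.leaf 0x14b5)) (.node (.leaf 0xb3e) (.leaf 0x0))))) (.node (.node (.node (.node (.leaf 0x1dd) (.leaf 0x174d)) (.node (.leaf 0x142c) (.leaf 0x17ca))) (.node (.node (.leaf 0x1153) (.leaf 0x12c2)) (.node (.leaf 0x61e) (.leaf 0x0)))) (.node (.node (.node (.leaf 0x3e7) (.leaf 0xc84)) (.node (.leaf 0xe54) (.leaf 0x1b1d))) (.node (.node (.leaf 0x8f9) (.leaf 0x1467)) (.node (.leaf 0xb22) (.leaf 0x0))))))) (.node (.node (.node (.node (.node (.node (.leaf 0xb2) (.leaf 0xc46)) (.node (.leaf 0x481) (.leaf 0x194e))) (.node (.node (.leaf 0x7ca) (.leaf 0x1105)) (.node (.leaf 0x78e) (.leaf 0x0)))) (.node (.node (.node (.leaf 0x9cc) (.leaf 0x1509)) (.node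 (.leaf 0x63b) (.leaf 0x1ace))) (.node (.node (.leaf 0xbe6) (.leaf 0x162c)) (.node (.leaf 0x74e) (.leaf 0x0))))) (.node (.node (.node (.node (.leaf 0x169) (.leaf 0xa1d)) (.node (.leaf 0x95c) (.leaf 0x1810))) (.node (.node (.leaf 0x336) (.leaf 0x1274)) (.node (.leaf 0xc31) (.leaf 0x0)))) (.node (.node (.node (.leaf 0x8a6) (.leaf 0xef2)) (.node (.leaf 0xb52) (.leaf 0x1a43))) (.node (.node (.leaf 0x335) (.leaf 0x13a6)) (.node (.leaf 0xb40) (.leaf 0x0)))))) (.node (.node (.node (.node (.node (.leaf 0x149) (.leaf 0xb3b)) (.node (.leaf 0x102f) (.leaf 0x1742))) (.node (.node (.leaf 0x34e) (.leaf 0x110a)) (.node (.leaf 0xa3e) (.leaf 0x0)))) (.node (.node (.node (.leaf 0xf8d) (.leaf 0xcb0)) (.node (.leaf 0xe4a) (.leaf 0x1a7a))) (.node (.node (.leaf 0x131d) (.leaf 0x1522)) (.node (.leaf 0x776) (.leaf 0x0))))) (.node (.node (.node (.node (.leaf 0x0) (.leaf 0x0)) (.node (.leaf 0x0) (.leaf 0x0))) (.node (.node (.leaf 0x0) (.leaf 0x0)) (.node (.leaf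 0x0) (.leaf 0x0)))) (.node (.node (.node (.leaf 0x0) (.leaf 0x0)) (.node (.leaf 0x0) (.leaf 0x0))) (.node (.node (.leaf 0x0) (.leaf 0x0)) (.node (.leaf 0x0) (.leaf 0x0))))))))

/-- Closure. -/
def clo16 : FTree := (.node (.node (.node (.node (.node (.node (.node (.leaf 0x5) (.leaf 0x1023)) (.node (.leaf 0x1049) (.leaf 0x18a5))) (.node (.node (.leaf 0x114a) (.leaf 0x1247)) (.node (.leaf 0xac1) (.leaf 0x0)))) (.node (.node (.node (.leaf 0x6ca) (.leaf 0xe8b)) (.node (.leaf 0x511) (.leaf 0x1a55))) (.node (.node (.leaf 0xdba) (.leaf 0x1445)) (.node (.leaf 0x1a9c) (.leaf 0x0))))) (.node (.node (.node (.node (.leaf 0x17b) (.leaf 0x1016)) (.node (.leaf 0xd5f) (.leaf 0x17e6))) (.node (.node (.leaf 0x8ea) (.leaf 0x1132)) (.node (.leaf 0x1515) (.leaf 0x0)))) (.node (.node (.node (.leaf 0x9ac) (.leaf 0x1507)) (.node (.leaf 0x12cb) (.leaf 0x1a3e))) (.node (.node (.leaf 0x3ab) (.leaf 0x13b8)) (.node (.leaf 0x163d) (.leaf 0x0)))))) (.node (.node (.node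 (.node (.node (.leaf 0xba) (.leaf 0x133c)) (.node (.leaf 0x1007) (.leaf 0x17f2))) (.node (.node (.leaf 0x7e2) (.leaf 0x10ad)) (.node (.leaf 0x68c) (.leaf 0x0)))) (.node (.node (.node (.leaf 0x9c4) (.leaf 0xce9)) (.node (.leaf 0x155d) (.leaf 0x1ab3))) (.node (.node (.leaf 0x5ee) (.leaf 0x148c)) (.node (.leaf 0xf22) (.leaf 0x0))))) (.node (.node (.node (.node (.leaf 0x1a1) (.leaf 0xa36)) (.node (.leaf 0x7c6) (.leaf 0x184b))) (.node (.node (.leaf 0x374) (.leaf 0x1217)) (.node (.leaf 0x57d) (.leaf 0x0)))) (.node (.node (.node (.leaf 0x24d) (.leaf 0xc48)) (.node (.leaf 0xa77) (.leaf 0x1a7b))) (.node (.node (.leaf 0x362) (.leaf 0x1afa)) (.node (.leaf 0xb14) (.leaf 0x0))))))) (.node (.node (.node (.node (.node (.node (.leaf 0x62) (.leaf 0x13d1)) (.node (.leaf 0x104d) (.leaf 0x1735))) (.node (.node (.leaf 0x2c8) (.leaf 0x11c0)) (.node (.leaf 0x685) (.leaf 0x0)))) (.node (.node (.node (.leaf 0x3dd) (.leaf 0xc5c)) (.node (.leaf 0x674) (.leaf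 0x1a05))) (.node (.node (.leaf 0x944) (.leaf 0x1568)) (.node (.leaf 0xfbf) (.leaf 0x0))))) (.node (.node (.node (.node (.leaf 0x166) (.leaf 0xc43)) (.node (.leaf 0xb09) (.leaf 0x191b))) (.node (.node (.leaf 0x380) (.leaf 0x10cf)) (.node (.leaf 0x57e) (.leaf 0x0)))) (.node (.node (.node (.leaf 0x234) (.leaf 0x16f8)) (.node (.leaf 0x4f0) (.leaf 0x1b69))) (.node (.node (.leaf 0x323) (.leaf 0x150c)) (.node (.leaf 0xae2) (.leaf 0x0)))))) (.node (.node (.node (.node (.node (.leaf 0xcf) (.leaf 0x1029)) (.node (.leaf 0xd11) (.leaf 0x18e7))) (.node (.node (.leaf 0x2fe) (.leaf 0x1180)) (.node (.leaf 0x616) (.leaf 0x0)))) (.node (.node (.node (.leaf 0x3f2) (.leaf 0xe35)) (.node (.leaf 0x17fc) (.leaf 0x1af0))) (.node (.node (.leaf 0x112c) (.leaf 0x144e)) (.node (.leaf 0xae7) (.leaf 0x0))))) (.node (.node (.node (.node (.leaf 0x184) (.leaf 0xa98)) (.node (.leaf 0xd37) (.leaf 0x17a0))) (.node (.node (.leaf 0x387) (.leaf 0x126d)) (.node (.leaf 0xabb)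 (.leaf 0x0)))) (.node (.node (.node (.leaf 0x9a3) (.leaf 0xd00)) (.node (.leaf 0x4ff) (.leaf 0x1b5e))) (.node (.node (.leaf 0x36c) (.leaf 0x15d3)) (.node (.leaf 0xb46) (.leaf 0x0))))))))

/-- Closure. -/
def clo17 : FTree := (.node (.node (.node (.node (.node (.node (.node (.leaf 0x30) (.leaf 0xbda)) (.node (.leaf 0x13fa) (.leaf 0x181b))) (.node (.node (.leaf 0x574) (.leaf 0x118a)) (.node (.leaf 0x1866) (.leaf 0x0)))) (.node (.node (.node (.leaf 0x888) (.leaf 0xc5b)) (.node (.leaf 0x506) (.leaf 0x19eb))) (.node (.node (.leaf 0x5d1) (.leaf 0x13c6)) (.node (.leaf 0xb25) (.leaf 0x0))))) (.node (.node (.node (.node (.leaf 0x175) (.leaf 0x1841)) (.node (.leaf 0x962) (.leaf 0x1886))) (.node (.node (.leaf 0x8e3) (.leaf 0xfac)) (.node (.leaf 0x578) (.leaf 0x0)))) (.node (.node (.node (.leaf 0x214) (.leaf 0xb96)) (.node (.leaf 0x9e5) (.leaf 0x1a98))) (.node (.node (.leaf 0x303) (.leaf 0x144b)) (.node (.leaf 0x70d) (.leaf 0x0)))))) (.node (.node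 (.node (.node (.node (.leaf 0xf7) (.leaf 0x85b)) (.node (.leaf 0x1428) (.leaf 0x1730))) (.node (.node (.leaf 0x33a) (.leaf 0x1134)) (.node (.leaf 0x784) (.leaf 0x0)))) (.node (.node (.node (.leaf 0x97c) (.leaf 0x1279)) (.node (.leaf 0x67f) (.leaf 0x1b39))) (.node (.node (.leaf 0x7f2) (.leaf 0x15c2)) (.node (.leaf 0xb75) (.leaf 0x0))))) (.node (.node (.node (.node (.leaf 0x18e) (.leaf 0x9d6)) (.node (.leaf 0xd19) (.leaf 0x1731))) (.node (.node (.leaf 0x572) (.leaf 0x11d2)) (.node (.leaf 0x1870) (.leaf 0x0)))) (.node (.node (.node (.leaf 0x8ac) (.leaf 0xc5f)) (.node (.leaf 0xa81) (.leaf 0x1a90))) (.node (.node (.leaf 0xcc5) (.leaf 0x13e7)) (.node (.leaf 0x76c) (.leaf 0x0))))))) (.node (.node (.node (.node (.node (.node (.leaf 0x50) (.leaf 0x835)) (.node (.leaf 0x96a) (.leaf 0x1859))) (.node (.node (.leaf 0x42d) (.leaf 0x12d9)) (.node (.leaf 0x621) (.leaf 0x0)))) (.node (.node (.node (.leaf 0x86f) (.leaf 0xcae)) (.node (.leaf 0x4cb) (.leaf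 0x19a3))) (.node (.node (.leaf 0xc17) (.leaf 0x1544)) (.node (.leaf 0x164e) (.leaf 0x0))))) (.node (.node (.node (.node (.leaf 0x17d) (.leaf 0xaae)) (.node (.leaf 0x102c) (.leaf 0x1722))) (.node (.node (.leaf 0x7d0) (.leaf 0x1064)) (.node (.leaf 0x63c) (.leaf 0x0)))) (.node (.node (.node (.leaf 0x202) (.leaf 0xe8a)) (.node (.leaf 0x522) (.leaf 0x19b5))) (.node (.node (.leaf 0x7f0) (.leaf 0x169d)) (.node (.leaf 0x743) (.leaf 0x0)))))) (.node (.node (.node (.node (.node (.leaf 0x10e) (.leaf 0xc23)) (.node (.leaf 0xd69) (.leaf 0x17e7))) (.node (.node (.leaf 0x36f) (.leaf 0x123a)) (.node (.leaf 0x6a7) (.leaf 0x0)))) (.node (.node (.node (.leaf 0x97d) (.leaf 0xea8)) (.node (.leaf 0x64a) (.leaf 0x1add))) (.node (.node (.leaf 0x1466) (.leaf 0x15b1)) (.node (.leaf 0x1301) (.leaf 0x0))))) (.node (.node (.node (.node (.leaf 0x1f8) (.leaf 0xe63)) (.node (.leaf 0x104e) (.leaf 0x18f9))) (.node (.node (.leaf 0x2ab) (.leaf 0x12df)) (.node (.leaf 0x673)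 (.leaf 0x0)))) (.node (.node (.node (.leaf 0x3e4) (.leaf 0xe3e)) (.node (.leaf 0x502) (.leaf 0x1b73))) (.node (.node (.leaf 0x5ef) (.leaf 0x13a2)) (.node (.leaf 0x12f0) (.leaf 0x0))))))))

/-- Closure. -/
def clo18 : FTree := (.node (.node (.node (.node (.node (.node (.node (.leaf 0x1a) (.leaf 0x1343)) (.node (.leaf 0xfe3) (.leaf 0x174a))) (.node (.node (.leaf 0x423) (.leaf 0x12c7)) (.node (.leaf 0x668) (.leaf 0x0)))) (.node (.node (.node (.leaf 0x401) (.leaf 0xc50)) (.node (.leaf 0x1928) (.leaf 0x1b16))) (.node (.node (.leaf 0xdbf) (.leaf 0x1441)) (.node (.leaf 0x1674) (.leaf 0x0))))) (.node (.node (.node (.node (.leaf 0x110) (.leaf 0x831)) (.node (.leaf 0x716) (.leaf 0x1857))) (.node (.node (.leaf 0x107d) (.leaf 0x124a)) (.node (.leaf 0x5cf) (.leaf 0x0)))) (.node (.node (.node (.leaf 0x6f5) (.leaf 0xc77)) (.node (.leaf 0x1801) (.leaf 0x1b07))) (.node (.node (.leaf 0x390) (.leaf 0x18c5)) (.node (.leaf 0xfc1) (.leaf 0x0)))))) (.node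 (.node (.node (.node (.node (.leaf 0xaa) (.leaf 0xa5a)) (.node (.leaf 0x13ff) (.leaf 0x17e8))) (.node (.node (.leaf 0x57a) (.leaf 0x1329)) (.node (.leaf 0x657) (.leaf 0x0)))) (.node (.node (.node (.leaf 0x88d) (.leaf 0xc5a)) (.node (.leaf 0x52b) (.leaf 0x1b45))) (.node (.node (.leaf 0x398) (.leaf 0x136d)) (.node (.leaf 0x16dd) (.leaf 0x0))))) (.node (.node (.node (.node (.leaf 0x1ad) (.leaf 0x861)) (.node (.leaf 0x1400) (.leaf 0x1820))) (.node (.node (.leaf 0x1091) (.leaf 0x1335)) (.node (.leaf 0x147b) (.leaf 0x0)))) (.node (.node (.node (.leaf 0x6f4) (.leaf 0xccf)) (.node (.leaf 0x6a2) (.leaf 0x19a8))) (.node (.node (.leaf 0xcc7) (.leaf 0x162f)) (.node (.leaf 0x76a) (.leaf 0x0))))))) (.node (.node (.node (.node (.node (.node (.leaf 0x74) (.leaf 0xcd8)) (.node (.leaf 0x491) (.leaf 0x18e9))) (.node (.node (.leaf 0x37e) (.leaf 0x10de)) (.node (.leaf 0xb78) (.leaf 0x0)))) (.node (.node (.node (.leaf 0x9ad) (.leaf 0x14aa)) (.node (.leaf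 0x809) (.leaf 0x1ab8))) (.node (.node (.leaf 0x45e) (.leaf 0x1548)) (.node (.leaf 0xf36) (.leaf 0x0))))) (.node (.node (.node (.node (.leaf 0x1a2) (.leaf 0x1576)) (.node (.leaf 0xffe) (.leaf 0x1918))) (.node (.node (.leaf 0x560) (.leaf 0x110d)) (.node (.leaf 0x5e0) (.leaf 0x0)))) (.node (.node (.node (.leaf 0x8b3) (.leaf 0xe9b)) (.node (.leaf 0x4ed) (.leaf 0x1a14))) (.node (.node (.leaf 0x328) (.leaf 0x16b0)) (.node (.leaf 0xae6) (.leaf 0x0)))))) (.node (.node (.node (.node (.node (.leaf 0x124) (.leaf 0x92d)) (.node (.leaf 0x1420) (.leaf 0x1819))) (.node (.node (.leaf 0x1159) (.leaf 0x10b9)) (.node (.leaf 0x90f) (.leaf 0x0)))) (.node (.node (.node (.leaf 0x3ec) (.leaf 0xd0a)) (.node (.leaf 0x9dd) (.leaf 0x1b17))) (.node (.node (.leaf 0x3b0) (.leaf 0x157b)) (.node (.leaf 0x762) (.leaf 0x0))))) (.node (.node (.node (.node (.leaf 0x1ea) (.leaf 0x869)) (.node (.leaf 0x1424) (.leaf 0x17f3))) (.node (.node (.leaf 0x33e) (.leaf 0x120b)) (.node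 (.leaf 0x1483) (.leaf 0x0)))) (.node (.node (.node (.leaf 0x973) (.leaf 0x11e1)) (.node (.leaf 0x12ca) (.leaf 0x1ab6))) (.node (.node (.leaf 0x8f0) (.leaf 0x14f9)) (.node (.leaf 0xb56) (.leaf 0x0))))))))

/-- Closure. -/
def clo19 : FTree := (.node (.node (.node (.node (.node (.node (.node (.leaf 0x64) (.leaf 0x1587)) (.node (.leaf 0x142f) (.leaf 0x176f))) (.node (.node (.leaf 0xbd0) (.leaf 0x109f)) (.node (.leaf 0x924) (.leaf 0x0)))) (.node (.node (.node (.leaf 0xf6a) (.leaf 0x11f8)) (.node (.leaf 0x62f) (.leaf 0x1b1e))) (.node (.node (.leaf 0x394) (.leaf 0x14e3)) (.node (.leaf 0xb26) (.leaf 0x0))))) (.node (.node (.node (.node (.leaf 0x156) (.leaf 0xaab)) (.node (.leaf 0xd4f) (.leaf 0x193b))) (.node (.node (.leaf 0x1156) (.leaf 0x10ca)) (.node (.leaf 0x65c) (.leaf 0x0)))) (.node (.node (.node (.leaf 0x3f3) (.leaf 0x1431)) (.node (.leaf 0x66c) (.leaf 0x1aed))) (.node (.node (.leaf 0x7fd) (.leaf 0x15e9)) (.node (.leaf 0x16e3) (.leaf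 0x0)))))) (.node (.node (.node (.node (.node (.leaf 0xa0) (.leaf 0x85f)) (.node (.leaf 0x482) (.leaf 0x173e))) (.node (.node (.leaf 0x2bb) (.leaf 0x1832)) (.node (.leaf 0xa41) (.leaf 0x0)))) (.node (.node (.node (.leaf 0x1956) (.leaf 0xc9d)) (.node (.leaf 0xd96) (.leaf 0x1a52))) (.node (.node (.leaf 0xa14) (.leaf 0x15db)) (.node (.leaf 0x1655) (.leaf 0x0))))) (.node (.node (.node (.node (.leaf 0x1c5) (.leaf 0x96e)) (.node (.leaf 0x72d) (.leaf 0x1954))) (.node (.node (.leaf 0x29a) (.leaf 0x10c9)) (.node (.leaf 0x159a) (.leaf 0x0)))) (.node (.node (.node (.leaf 0xf55) (.leaf 0x125a)) (.node (.leaf 0x66e) (.leaf 0x1b19))) (.node (.node (.leaf 0x7f9) (.leaf 0x13b3)) (.node (.leaf 0x16cb) (.leaf 0x0))))))) (.node (.node (.node (.node (.node (.node (.leaf 0x5c) (.leaf 0x1312)) (.node (.leaf 0xb0a) (.leaf 0x17fd))) (.node (.node (.leaf 0x384) (.leaf 0x1137)) (.node (.leaf 0x586) (.leaf 0x0)))) (.node (.node (.node (.leaf 0x24f) (.leaf 0x11e5))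 (.node (.leaf 0x504) (.leaf 0x1a5a))) (.node (.node (.leaf 0x2eb) (.leaf 0x1afb)) (.node (.leaf 0xf08) (.leaf 0x0))))) (.node (.node (.node (.node (.leaf 0x15f) (.leaf 0xaf8)) (.node (.leaf 0x494) (.leaf 0x18af))) (.node (.node (.leaf 0x4b1) (.leaf 0x1378)) (.node (.leaf 0xed8) (.leaf 0x0)))) (.node (.node (.node (.leaf 0x992) (.leaf 0xf19)) (.node (.leaf 0x6ae) (.leaf 0x1a18))) (.node (.node (.leaf 0x4df) (.leaf 0x153d)) (.node (.leaf 0x16f1) (.leaf 0x0)))))) (.node (.node (.node (.node (.node (.leaf 0x142) (.leaf 0x9d5)) (.node (.leaf 0x13fc) (.leaf 0x18ec))) (.node (.node (.leaf 0x570) (.leaf 0x132e)) (.node (.leaf 0x613) (.leaf 0x0)))) (.node (.node (.node (.leaf 0x8a7) (.leaf 0xc52)) (.node (.leaf 0xb92) (.leaf 0x1aa4))) (.node (.node (.leaf 0x39d) (.leaf 0x144d)) (.node (.leaf 0x16d4) (.leaf 0x0))))) (.node (.node (.node (.node (.leaf 0x0) (.leaf 0x0)) (.node (.leaf 0x0) (.leaf 0x0))) (.node (.node (.leaf 0x0) (.leaf 0x0)) (.node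 (.leaf 0x0) (.leaf 0x0)))) (.node (.node (.node (.leaf 0x0) (.leaf 0x0)) (.node (.leaf 0x0) (.leaf 0x0))) (.node (.node (.leaf 0x0) (.leaf 0x0)) (.node (.leaf 0x0) (.leaf 0x0))))))))

/-- Closure. -/
def clo20 : FTree := (.node (.node (.node (.node (.node (.node (.node (.leaf 0x17) (.leaf 0x81c)) (.node (.leaf 0x416) (.leaf 0x1862))) (.node (.node (.leaf 0x8df) (.leaf 0x11c1)) (.node (.leaf 0x58a) (.leaf 0x0)))) (.node (.node (.node (.leaf 0x3c1) (.leaf 0xc25)) (.node (.leaf 0x810) (.leaf 0x1b70))) (.node (.node (.leaf 0x32b) (.leaf 0x1353)) (.node (.leaf 0xf09) (.leaf 0x0))))) (.node (.node (.node (.node (.leaf 0xe5) (.leaf 0x1073)) (.node (.leaf 0x7c3) (.leaf 0x18c0))) (.node (.node (.leaf 0x42e) (.leaf 0x1145)) (.node (.leaf 0x585) (.leaf 0x0)))) (.node (.node (.node (.leaf 0x241) (.leaf 0x15cd)) (.node (.leaf 0xd86) (.leaf 0x1a16))) (.node (.node (.leaf 0x316) (.leaf 0x1389)) (.node (.leaf 0x1300) (.leaf 0x0)))))) (.node (.node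 (.node (.node (.node (.leaf 0x71) (.leaf 0xa9a)) (.node (.leaf 0x41a) (.leaf 0x1789))) (.node (.node (.leaf 0x2a1) (.leaf 0x1216)) (.node (.leaf 0x151c) (.leaf 0x0)))) (.node (.node (.node (.leaf 0x255) (.leaf 0xe3c)) (.node (.leaf 0x53e) (.leaf 0x19f5))) (.node (.node (.leaf 0x460) (.leaf 0x139b)) (.node (.leaf 0x711) (.leaf 0x0))))) (.node (.node (.node (.node (.leaf 0x163) (.leaf 0x130c)) (.node (.leaf 0x406) (.leaf 0x1830))) (.node (.node (.leaf 0x26d) (.leaf 0x1290)) (.node (.leaf 0xdfd) (.leaf 0x0)))) (.node (.node (.node (.leaf 0x3d5) (.leaf 0xe1c)) (.node (.leaf 0x192c) (.leaf 0x19bd))) (.node (.node (.leaf 0x1223) (.leaf 0x14bc)) (.node (.leaf 0xfc6) (.leaf 0x0))))))) (.node (.node (.node (.node (.node (.node (.leaf 0x84) (.leaf 0x1532)) (.node (.leaf 0x41f) (.leaf 0x1748))) (.node (.node (.leaf 0x2ae) (.leaf 0x126c)) (.node (.leaf 0x6c3) (.leaf 0x0)))) (.node (.node (.node (.leaf 0x23f) (.leaf 0xd9d)) (.node (.leaf 0xb83)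 (.leaf 0x1b00))) (.node (.node (.leaf 0x4e2) (.leaf 0x1486)) (.node (.leaf 0x12f5) (.leaf 0x0))))) (.node (.node (.node (.node (.leaf 0x19f) (.leaf 0x1749)) (.node (.leaf 0xd5c) (.leaf 0x17c4))) (.node (.node (.leaf 0xbc9) (.leaf 0x1236)) (.node (.leaf 0xddb) (.leaf 0x0)))) (.node (.node (.node (.leaf 0x9cd) (.leaf 0xc98)) (.node (.leaf 0x1abb) (.leaf 0x1b1a))) (.node (.node (.leaf 0x3b5) (.leaf 0x14fe)) (.node (.leaf 0x163b) (.leaf 0x0)))))) (.node (.node (.node (.node (.node (.leaf 0x11a) (.leaf 0xac3)) (.node (.leaf 0x142e) (.leaf 0x1869))) (.node (.node (.leaf 0xbd1) (.leaf 0x10be)) (.node (.leaf 0x18b3) (.leaf 0x0)))) (.node (.node (.node (.leaf 0xf5f) (.leaf 0xd98)) (.node (.leaf 0x64b) (.leaf 0x1aa0))) (.node (.node (.leaf 0x4a5) (.leaf 0x18dc)) (.node (.leaf 0xb2f) (.leaf 0x0))))) (.node (.node (.node (.node (.leaf 0x1ac) (.leaf 0x133b)) (.node (.leaf 0x7c2) (.leaf 0x1725))) (.node (.node (.leaf 0x382) (.leaf 0x123c)) (.node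 (.leaf 0x584) (.leaf 0x0)))) (.node (.node (.node (.leaf 0x220) (.leaf 0x13ee)) (.node (.leaf 0x12d1) (.leaf 0x1a15))) (.node (.node (.leaf 0x313) (.leaf 0x1365)) (.node (.leaf 0xefe) (.leaf 0x0))))))))

/-- Closure. -/
def clo21 : FTree := (.node (.node (.node (.node (.node (.node (.node (.leaf 0x39) (.leaf 0xaa1)) (.node (.leaf 0x955) (.leaf 0x176e))) (.node (.node (.leaf 0x25c) (.leaf 0xfab)) (.node (.leaf 0x90c) (.leaf 0x0)))) (.node (.node (.node (.leaf 0x20c) (.leaf 0xcb2)) (.node (.leaf 0x53a) (.leaf 0x1a61))) (.node (.node (.leaf 0xbed) (.leaf 0x13b7)) (.node (.leaf 0x709) (.leaf 0x0))))) (.node (.node (.node (.node (.leaf 0x17f) (.leaf 0x1018)) (.node (.leaf 0x71f) (.leaf 0x17f4))) (.node (.node (.leaf 0x2e1) (.leaf 0x122f)) (.node (.leaf 0x915) (.leaf 0x0)))) (.node (.node (.node (.leaf 0xf6f) (.leaf 0x1260)) (.node (.leaf 0x6ba) (.leaf 0x1a57))) (.node (.node (.leaf 0x395) (.leaf 0x1513)) (.node (.leaf 0xb57) (.leaf 0x0))))))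 (.node (.node (.node (.node (.node (.leaf 0xd9) (.leaf 0xa8c)) (.node (.leaf 0x1005) (.leaf 0x1852))) (.node (.node (.leaf 0x55b) (.leaf 0x1371)) (.node (.leaf 0x6a5) (.leaf 0x0)))) (.node (.node (.node (.leaf 0xf4f) (.leaf 0xdce)) (.node (.leaf 0xd8d) (.leaf 0x19a6))) (.node (.node (.leaf 0xcf8) (.leaf 0x1639)) (.node (.leaf 0x1652) (.leaf 0x0))))) (.node (.node (.node (.node (.leaf 0x1c3) (.leaf 0xabd)) (.node (.leaf 0xfeb) (.leaf 0x18ad))) (.node (.node (.leaf 0x7a3) (.leaf 0x110b)) (.node (.leaf 0x6c2) (.leaf 0x0)))) (.node (.node (.node (.leaf 0x9c2) (.leaf 0xef4)) (.node (.leaf 0x81b) (.leaf 0x1a69))) (.node (.node (.leaf 0x1207) (.leaf 0x1638)) (.node (.leaf 0x164b) (.leaf 0x0))))))) (.node (.node (.node (.node (.node (.node (.leaf 0x9e) (.leaf 0xaa0)) (.node (.leaf 0x46b) (.leaf 0x17ea))) (.node (.node (.leaf 0x262) (.leaf 0x12bf)) (.node (.leaf 0x6aa) (.leaf 0x0)))) (.node (.node (.node (.leaf 0x251) (.leaf 0x15c9)) (.node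 (.leaf 0xa76) (.leaf 0x19d8))) (.node (.node (.leaf 0x3a1) (.leaf 0x13fd)) (.node (.leaf 0xefc) (.leaf 0x0))))) (.node (.node (.node (.node (.leaf 0x1d2) (.leaf 0xa7e)) (.node (.leaf 0x428) (.leaf 0x175b))) (.node (.node (.leaf 0x7e4) (.leaf 0x1218)) (.node (.leaf 0xad1) (.leaf 0x0)))) (.node (.node (.node (.leaf 0x231) (.leaf 0xc9b)) (.node (.leaf 0xeb2) (.leaf 0x19bc))) (.node (.node (.leaf 0x1458) (.leaf 0x1549)) (.node (.leaf 0xb62) (.leaf 0x0)))))) (.node (.node (.node (.node (.node (.leaf 0xd7) (.leaf 0xa65)) (.node (.leaf 0x1033) (.leaf 0x17d3))) (.node (.node (.leaf 0x798) (.leaf 0xfb5)) (.node (.leaf 0x68f) (.leaf 0x0)))) (.node (.node (.node (.leaf 0x208) (.leaf 0xec6)) (.node (.leaf 0xb84) (.leaf 0x1982))) (.node (.node (.leaf 0x4d4) (.leaf 0x136e)) (.node (.leaf 0xb11) (.leaf 0x0))))) (.node (.node (.node (.node (.leaf 0x1f3) (.leaf 0xa6b)) (.node (.leaf 0x457) (.leaf 0x1863))) (.node (.node (.leaf 0x7a5) (.leaf 0x12e4))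 (.node (.leaf 0x6bc) (.leaf 0x0)))) (.node (.node (.node (.leaf 0x3db) (.leaf 0xd03)) (.node (.leaf 0x4eb) (.leaf 0x19b2))) (.node (.node (.leaf 0x3a4) (.leaf 0x1644)) (.node (.leaf 0x74d) (.leaf 0x0))))))))

/-- Closure. -/
def clo22 : FTree := (.node (.node (.node (.node (.node (.node (.node (.leaf 0x21) (.leaf 0x101f)) (.node (.leaf 0x47c) (.leaf 0x17dc))) (.node (.node (.leaf 0x36b) (.leaf 0x10f7)) (.node (.leaf 0xdf9) (.leaf 0x0)))) (.node (.node (.node (.leaf 0x9b2) (.leaf 0xe6e)) (.node (.leaf 0x12d6) (.leaf 0x1a31))) (.node (.node (.leaf 0x3a6) (.leaf 0x1546)) (.node (.leaf 0x163e) (.leaf 0x0))))) (.node (.node (.node (.node (.leaf 0x140) (.leaf 0x1310)) (.node (.leaf 0x952) (.leaf 0x18bb))) (.node (.node (.leaf 0x340) (.leaf 0x10cb)) (.node (.leaf 0x159e) (.leaf 0x0)))) (.node (.node (.node (.leaf 0x8bf) (.leaf 0x13ec)) (.node (.leaf 0x17fe) (.leaf 0x1999))) (.node (.node (.leaf 0x1398) (.leaf 0x15bd)) (.node (.leaf 0xb21)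 (.leaf 0x0)))))) (.node (.node (.node (.node (.node (.leaf 0xaf) (.leaf 0xa24)) (.node (.leaf 0xd64) (.leaf 0x187a))) (.node (.node (.leaf 0x367) (.leaf 0x11e2)) (.node (.leaf 0x656) (.leaf 0x0)))) (.node (.node (.node (.leaf 0xf74) (.leaf 0xdcd)) (.node (.leaf 0xa64) (.leaf 0x19c6))) (.node (.node (.leaf 0x2f9) (.leaf 0x13c7)) (.node (.leaf 0x160b) (.leaf 0x0))))) (.node (.node (.node (.node (.leaf 0x185) (.leaf 0xa31)) (.node (.leaf 0xd55) (.leaf 0x1786))) (.node (.node (.leaf 0x354) (.leaf 0x11b2)) (.node (.leaf 0x151a) (.leaf 0x0)))) (.node (.node (.node (.leaf 0xfa5) (.leaf 0xcb4)) (.node (.leaf 0xebf) (.leaf 0x199c))) (.node (.node (.leaf 0x1350) (.leaf 0x14b1)) (.node (.leaf 0x76d) (.leaf 0x0))))))) (.node (.node (.node (.node (.node (.node (.leaf 0x61) (.leaf 0xa9c)) (.node (.leaf 0xff5) (.leaf 0x18aa))) (.node (.node (.leaf 0x559) (.leaf 0x14a5)) (.node (.leaf 0x1985) (.leaf 0x0)))) (.node (.node (.node (.leaf 0x8bd) (.leaf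 0xeac)) (.node (.leaf 0xa53) (.leaf 0x1a5e))) (.node (.node (.leaf 0x2fa) (.leaf 0x16e4)) (.node (.leaf 0x16d9) (.leaf 0x0))))) (.node (.node (.node (.node (.leaf 0x1a3) (.leaf 0xce2)) (.node (.leaf 0xd36) (.leaf 0x17b9))) (.node (.node (.leaf 0x2ff) (.leaf 0x1120)) (.node (.leaf 0x1481) (.leaf 0x0)))) (.node (.node (.node (.leaf 0x3ea) (.leaf 0x14a9)) (.node (.leaf 0x9e3) (.leaf 0x1af4))) (.node (.node (.leaf 0x4d8) (.leaf 0x1597)) (.node (.leaf 0x850) (.leaf 0x0)))))) (.node (.node (.node (.node (.node (.leaf 0xc3) (.leaf 0x938)) (.node (.leaf 0xd4e) (.leaf 0x1944))) (.node (.node (.leaf 0xb9f) (.leaf 0x1275)) (.node (.leaf 0x15e1) (.leaf 0x0)))) (.node (.node (.node (.leaf 0x3ee) (.leaf 0xdae)) (.node (.leaf 0x803) (.leaf 0x1b3e))) (.node (.node (.leaf 0xbf3) (.leaf 0x135c)) (.node (.leaf 0xb2b) (.leaf 0x0))))) (.node (.node (.node (.node (.leaf 0x1b2) (.leaf 0xfb4)) (.node (.leaf 0x43f) (.leaf 0x174b))) (.node (.node (.leaf 0x108d)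 (.leaf 0x11cb)) (.node (.leaf 0x5ac) (.leaf 0x0)))) (.node (.node (.node (.leaf 0x89a) (.leaf 0xc9c)) (.node (.leaf 0xd8c) (.leaf 0x1a3d))) (.node (.node (.leaf 0x5aa) (.leaf 0x15b3)) (.node (.leaf 0xf2e) (.leaf 0x0))))))))

/-- Closure. -/
def clo23 : FTree := (.node (.node (.node (.node (.node (.node (.node (.leaf 0x37) (.leaf 0xc44)) (.node (.leaf 0x719) (.leaf 0x17cb))) (.node (.node (.leaf 0x8ee) (.leaf 0x111b)) (.node (.leaf 0x583) (.leaf 0x0)))) (.node (.node (.node (.leaf 0x3d4) (.leaf 0xc6d)) (.node (.leaf 0x508) (.leaf 0x1b6d))) (.node (.node (.leaf 0x361) (.leaf 0x144c)) (.node (.leaf 0x12ef) (.leaf 0x0))))) (.node (.node (.node (.node (.leaf 0x157) (.leaf 0xe62)) (.node (.leaf 0xd63) (.leaf 0x17ed))) (.node (.node (.leaf 0x368) (.leaf 0x10f4)) (.node (.leaf 0x1883) (.leaf 0x0)))) (.node (.node (.node (.leaf 0xf71) (.leaf 0xc60)) (.node (.leaf 0x54b) (.leaf 0x1b0b))) (.node (.node (.leaf 0x4a7) (.leaf 0x1500)) (.node (.leaf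 0x16c0) (.leaf 0x0)))))) (.node (.node (.node (.node (.node (.leaf 0xa9) (.leaf 0x9fd)) (.node (.leaf 0x95d) (.leaf 0x1893))) (.node (.node (.leaf 0x1166) (.leaf 0x129d)) (.node (.leaf 0x65f) (.leaf 0x0)))) (.node (.node (.node (.leaf 0x880) (.leaf 0x16f7)) (.node (.leaf 0xec8) (.leaf 0x19fa))) (.node (.node (.leaf 0x54d) (.leaf 0x1504)) (.node (.leaf 0x1667) (.leaf 0x0))))) (.node (.node (.node (.node (.leaf 0x1cb) (.leaf 0x11a5)) (.node (.leaf 0x7b7) (.leaf 0x17bb))) (.node (.node (.leaf 0x2a0) (.leaf 0x1292)) (.node (.leaf 0x15d5) (.leaf 0x0)))) (.node (.node (.node (.leaf 0x892) (.leaf 0xe34)) (.node (.leaf 0x80f) (.leaf 0x1a91))) (.node (.node (.leaf 0xbf7) (.leaf 0x1635)) (.node (.leaf 0x15f6) (.leaf 0x0))))))) (.node (.node (.node (.node (.node (.node (.leaf 0xa3) (.leaf 0xe2a)) (.node (.leaf 0xd3b) (.leaf 0x1750))) (.node (.node (.leaf 0x2c1) (.leaf 0x129e)) (.node (.leaf 0x623) (.leaf 0x0)))) (.node (.node (.node (.leaf 0x8c1)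 (.leaf 0xe9e)) (.node (.leaf 0x64d) (.leaf 0x1a23))) (.node (.node (.leaf 0x8f8) (.leaf 0x14d0)) (.node (.leaf 0xb47) (.leaf 0x0))))) (.node (.node (.node (.node (.leaf 0x1c4) (.leaf 0x133f)) (.node (.leaf 0x442) (.leaf 0x189f))) (.node (.node (.leaf 0xbac) (.leaf 0x10ab)) (.node (.leaf 0x5a9) (.leaf 0x0)))) (.node (.node (.node (.leaf 0x877) (.leaf 0xcd3)) (.node (.leaf 0xa72) (.leaf 0x1a85))) (.node (.node (.leaf 0x324) (.leaf 0x1595)) (.node (.leaf 0x15f8) (.leaf 0x0)))))) (.node (.node (.node (.node (.node (.leaf 0x11e) (.leaf 0xab7)) (.node (.leaf 0x480) (.leaf 0x17a6))) (.node (.node (.leaf 0xbcc) (.leaf 0x1489)) (.node (.leaf 0x5d5) (.leaf 0x0)))) (.node (.node (.node (.leaf 0x9af) (.leaf 0xbf5)) (.node (.leaf 0x9ea) (.leaf 0x1a64))) (.node (.node (.leaf 0x901) (.leaf 0x14e9)) (.node (.leaf 0xfcb) (.leaf 0x0))))) (.node (.node (.node (.node (.leaf 0x0) (.leaf 0x0)) (.node (.leaf 0x0) (.leaf 0x0))) (.node (.node (.leaf 0x0) (.leaf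 0x0)) (.node (.leaf 0x0) (.leaf 0x0)))) (.node (.node (.node (.leaf 0x0) (.leaf 0x0)) (.node (.leaf 0x0) (.leaf 0x0))) (.node (.node (.leaf 0x0) (.leaf 0x0)) (.node (.leaf 0x0) (.leaf 0x0))))))))

/-- Closure. -/
def clo24 : FTree := (.node (.node (.node (.node (.node (.node (.node (.leaf 0x9) (.leaf 0x1534)) (.node (.leaf 0x1040) (.leaf 0x17e5))) (.node (.node (.leaf 0x8e4) (.leaf 0x10d0)) (.node (.leaf 0x686) (.leaf 0x0)))) (.node (.node (.node (.leaf 0xf46) (.leaf 0xd9b)) (.node (.leaf 0x696) (.leaf 0x19dd))) (.node (.node (.leaf 0xdbb) (.leaf 0x1577)) (.node (.leaf 0xf38) (.leaf 0x0))))) (.node (.node (.node (.node (.leaf 0xde) (.leaf 0x13cd)) (.node (.leaf 0xd67) (.leaf 0x18e3))) (.node (.node (.leaf 0x36e) (.leaf 0x10bb)) (.node (.leaf 0x60f) (.leaf 0x0)))) (.node (.node (.node (.leaf 0xf78) (.leaf 0xce5)) (.node (.leaf 0xb8b) (.leaf 0x1b1b))) (.node (.node (.leaf 0x4a9) (.leaf 0x158f)) (.node (.leaf 0x16bc) (.leaf 0x0)))))) (.node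 (.node (.node (.node (.node (.leaf 0x6e) (.leaf 0x106f)) (.node (.leaf 0x100c) (.leaf 0x1766))) (.node (.node (.leaf 0x2ca) (.leaf 0x118c)) (.node (.leaf 0x12be) (.leaf 0x0)))) (.node (.node (.node (.leaf 0x99b) (.leaf 0xc73)) (.node (.leaf 0xec7) (.leaf 0x1b2e))) (.node (.node (.leaf 0x5f2) (.leaf 0x1564)) (.node (.leaf 0x73b) (.leaf 0x0))))) (.node (.node (.node (.node (.leaf 0x1b8) (.leaf 0x1070)) (.node (.leaf 0x45c) (.leaf 0x17e1))) (.node (.node (.leaf 0x793) (.leaf 0x10a7)) (.node (.leaf 0x5af) (.leaf 0x0)))) (.node (.node (.node (.leaf 0x6f1) (.leaf 0x13f1)) (.node (.leaf 0x154b) (.leaf 0x1b28))) (.node (.node (.leaf 0x590) (.leaf 0x1359)) (.node (.leaf 0xae1) (.leaf 0x0))))))) (.node (.node (.node (.node (.node (.node (.leaf 0x51) (.leaf 0x84b)) (.node (.leaf 0x1000) (.leaf 0x1838))) (.node (.node (.leaf 0x2d1) (.leaf 0x11d3)) (.node (.leaf 0xa49) (.leaf 0x0)))) (.node (.node (.node (.leaf 0x9c9) (.leaf 0xd94)) (.node (.leaf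 0xb4f) (.leaf 0x1ab4))) (.node (.node (.leaf 0x1316) (.leaf 0x1687)) (.node (.leaf 0x746) (.leaf 0x0))))) (.node (.node (.node (.node (.leaf 0x139) (.leaf 0xe7d)) (.node (.leaf 0x958) (.leaf 0x171f))) (.node (.node (.leaf 0x261) (.leaf 0x1065)) (.node (.leaf 0x185d) (.leaf 0x0)))) (.node (.node (.node (.leaf 0x213) (.leaf 0xeaa)) (.node (.leaf 0xa75) (.leaf 0x197d))) (.node (.node (.leaf 0x7ef) (.leaf 0x1540)) (.node (.leaf 0xad9) (.leaf 0x0)))))) (.node (.node (.node (.node (.node (.leaf 0xd3) (.leaf 0xe94)) (.node (.leaf 0x1404) (.leaf 0x178b))) (.node (.node (.leaf 0x33c) (.leaf 0x1296)) (.node (.leaf 0xc33) (.leaf 0x0)))) (.node (.node (.node (.leaf 0x8a3) (.leaf 0xe21)) (.node (.leaf 0x15ad) (.leaf 0x1aa5))) (.node (.node (.leaf 0xcc9) (.leaf 0x15ec)) (.node (.leaf 0xf30) (.leaf 0x0))))) (.node (.node (.node (.node (.leaf 0x1d3) (.leaf 0x825)) (.node (.leaf 0x44b) (.leaf 0x1873))) (.node (.node (.leaf 0x8e2) (.leaf 0x11f6)) (.node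 (.leaf 0xde3) (.leaf 0x0)))) (.node (.node (.node (.leaf 0xfa9) (.leaf 0xdb3)) (.node (.leaf 0x9da) (.leaf 0x1acd))) (.node (.node (.leaf 0xc10) (.leaf 0x16be)) (.node (.leaf 0x1662) (.leaf 0x0))))))))

/-- Closure. -/
def clo25 : FTree := (.node (.node (.node (.node (.node (.node (.node (.leaf 0x43) (.leaf 0xa2d)) (.node (.leaf 0xfdf) (.leaf 0x1913))) (.node (.node (.leaf 0x42f) (.leaf 0x12c5)) (.node (.leaf 0xa39) (.leaf 0x0)))) (.node (.node (.node (.leaf 0x40a) (.leaf 0xc96)) (.node (.leaf 0x6a0) (.leaf 0x1a39))) (.node (.node (.leaf 0xa11) (.leaf 0x1542)) (.node (.leaf 0x1659) (.leaf 0x0))))) (.node (.node (.node (.node (.leaf 0x14a) (.leaf 0x9d4)) (.node (.leaf 0x105e) (.leaf 0x185a))) (.node (.node (.leaf 0x7c8) (.leaf 0x10e2)) (.node (.leaf 0x619) (.leaf 0x0)))) (.node (.node (.node (.leaf 0x3d2) (.leaf 0xcca)) (.node (.leaf 0x9f0) (.leaf 0x19bb))) (.node (.node (.leaf 0x3b6) (.leaf 0x1572)) (.node (.leaf 0x755) (.leaf 0x0))))))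 (.node (.node (.node (.node (.node (.leaf 0xd6) (.leaf 0xa68)) (.node (.leaf 0xd43) (.leaf 0x18d6))) (.node (.node (.leaf 0xbab) (.leaf 0x123b)) (.node (.leaf 0x681) (.leaf 0x0)))) (.node (.node (.node (.leaf 0x9b8) (.leaf 0xc56)) (.node (.leaf 0xa7d) (.leaf 0x19ce))) (.node (.node (.leaf 0xdbd) (.leaf 0x16aa)) (.node (.leaf 0x1634) (.leaf 0x0))))) (.node (.node (.node (.node (.leaf 0x1b5) (.leaf 0xe69)) (.node (.leaf 0xd4c) (.leaf 0x18bd))) (.node (.node (.leaf 0x8d1) (.leaf 0x1332)) (.node (.leaf 0x6a4) (.leaf 0x0)))) (.node (.node (.node (.leaf 0x98c) (.leaf 0xc53)) (.node (.leaf 0x671) (.leaf 0x1b38))) (.node (.node (.leaf 0xa08) (.leaf 0x15e4)) (.node (.leaf 0x164f) (.leaf 0x0))))))) (.node (.node (.node (.node (.node (.node (.leaf 0x68) (.leaf 0x93e)) (.node (.leaf 0xfdc) (.leaf 0x17c0))) (.node (.node (.leaf 0x8d0) (.leaf 0x1256)) (.node (.leaf 0xa3f) (.leaf 0x0)))) (.node (.node (.node (.leaf 0x9c8) (.leaf 0xc6a)) (.node (.leaf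 0x1925) (.leaf 0x19fe))) (.node (.node (.leaf 0x3a8) (.leaf 0x13c9)) (.node (.leaf 0xb41) (.leaf 0x0))))) (.node (.node (.node (.node (.leaf 0x1ae) (.leaf 0xe6f)) (.node (.leaf 0x7bc) (.leaf 0x179d))) (.node (.node (.leaf 0x29c) (.leaf 0x128e)) (.node (.leaf 0x693) (.leaf 0x0)))) (.node (.node (.node (.leaf 0x8aa) (.leaf 0xdb8)) (.node (.leaf 0x9ed) (.leaf 0x19d2))) (.node (.node (.leaf 0x31a) (.leaf 0x190e)) (.node (.leaf 0x1602) (.leaf 0x0)))))) (.node (.node (.node (.node (.node (.leaf 0x112) (.leaf 0x82b)) (.node (.leaf 0x7ba) (.leaf 0x18e4))) (.node (.node (.leaf 0x1097) (.leaf 0x11b5)) (.node (.leaf 0x925) (.leaf 0x0)))) (.node (.node (.node (.leaf 0x887) (.leaf 0xef6)) (.node (.leaf 0xd82) (.leaf 0x1aac))) (.node (.node (.leaf 0x112f) (.leaf 0x1530)) (.node (.leaf 0x16dc) (.leaf 0x0))))) (.node (.node (.node (.node (.leaf 0x1fb) (.leaf 0x90a)) (.node (.leaf 0x103d) (.leaf 0x17be))) (.node (.node (.leaf 0x8ec) (.leaf 0x1370))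 (.node (.leaf 0x138f) (.leaf 0x0)))) (.node (.node (.node (.leaf 0x6e3) (.leaf 0xc91)) (.node (.leaf 0x507) (.leaf 0x1a02))) (.node (.node (.leaf 0x355) (.leaf 0x1579)) (.node (.leaf 0x760) (.leaf 0x0))))))))

/-- Closure. -/
def clo26 : FTree := (.node (.node (.node (.node (.node (.node (.node (.leaf 0x1f) (.leaf 0x917)) (.node (.leaf 0x432) (.leaf 0x1905))) (.node (.node (.leaf 0x4ba) (.leaf 0x11cf)) (.node (.leaf 0x14ec) (.leaf 0x0)))) (.node (.node (.node (.leaf 0x870) (.leaf 0xc72)) (.node (.leaf 0x4cc) (.leaf 0x1a25))) (.node (.node (.leaf 0x9fe) (.leaf 0x1538)) (.node (.leaf 0x15fb) (.leaf 0x0))))) (.node (.node (.node (.node (.leaf 0x113) (.leaf 0x101a)) (.node (.leaf 0x490) (.leaf 0x17cf))) (.node (.node (.leaf 0xbb1) (.leaf 0x1284)) (.node (.leaf 0x15e0) (.leaf 0x0)))) (.node (.node (.node (.leaf 0x402) (.leaf 0xeab)) (.node (.leaf 0xd7e) (.leaf 0x1b46))) (.node (.node (.leaf 0xc02) (.leaf 0x1372)) (.node (.leaf 0x16e7) (.leaf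 0x0)))))) (.node (.node (.node (.node (.node (.leaf 0xcc) (.leaf 0xe77)) (.node (.leaf 0x43c) (.leaf 0x17af))) (.node (.node (.leaf 0x438) (.leaf 0x132d)) (.node (.leaf 0xed6) (.leaf 0x0)))) (.node (.node (.node (.leaf 0x882) (.leaf 0xe3b)) (.node (.leaf 0x63e) (.leaf 0x1a65))) (.node (.node (.leaf 0x4e7) (.leaf 0x15df)) (.node (.leaf 0x1603) (.leaf 0x0))))) (.node (.node (.node (.node (.leaf 0x1d1) (.leaf 0x79a)) (.node (.leaf 0x443) (.leaf 0x1932))) (.node (.node (.leaf 0x257) (.leaf 0x1074)) (.node (.leaf 0x59d) (.leaf 0x0)))) (.node (.node (.node (.leaf 0x1ff) (.leaf 0xed4)) (.node (.leaf 0x9d7) (.leaf 0x19b3))) (.node (.node (.leaf 0x2ef) (.leaf 0x14b9)) (.node (.leaf 0x73d) (.leaf 0x0))))))) (.node (.node (.node (.node (.node (.node (.leaf 0x5f) (.leaf 0x9fb)) (.node (.leaf 0xffd) (.leaf 0x193d))) (.node (.node (.leaf 0x305) (.leaf 0x123f)) (.node (.leaf 0x5fe) (.leaf 0x0)))) (.node (.node (.node (.leaf 0x895) (.leaf 0xc4d)) (.node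 (.leaf 0x4f9) (.leaf 0x1b55))) (.node (.node (.leaf 0x2f7) (.leaf 0x1afc)) (.node (.leaf 0xb3d) (.leaf 0x0))))) (.node (.node (.node (.node (.leaf 0x1b9) (.leaf 0xe2e)) (.node (.leaf 0x7c0) (.leaf 0x17b8))) (.node (.node (.leaf 0x29d) (.leaf 0x12c1)) (.node (.leaf 0x662) (.leaf 0x0)))) (.node (.node (.node (.leaf 0x246) (.leaf 0xca8)) (.node (.leaf 0x17fa) (.leaf 0x1a63))) (.node (.node (.leaf 0x7f1) (.leaf 0x1630)) (.node (.leaf 0xb6f) (.leaf 0x0)))))) (.node (.node (.node (.node (.node (.leaf 0xbe) (.leaf 0xbd9)) (.node (.leaf 0xd0d) (.leaf 0x18b2))) (.node (.node (.leaf 0x563) (.leaf 0x11ca)) (.node (.leaf 0x15d9) (.leaf 0x0)))) (.node (.node (.node (.leaf 0x897) (.leaf 0x15c5)) (.node (.leaf 0x4fd) (.leaf 0x19a2))) (.node (.node (.leaf 0xbea) (.leaf 0x1451)) (.node (.leaf 0x76f) (.leaf 0x0))))) (.node (.node (.node (.node (.leaf 0x1df) (.leaf 0xbe0)) (.node (.leaf 0x44c) (.leaf 0x1891))) (.node (.node (.leaf 0x8da) (.leaf 0x11b0))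 (.node (.leaf 0x61c) (.leaf 0x0)))) (.node (.node (.node (.leaf 0xf6b) (.leaf 0xca9)) (.node (.leaf 0x4c9) (.leaf 0x1b20))) (.node (.node (.leaf 0x1233) (.leaf 0x13ae)) (.node (.leaf 0x1668) (.leaf 0x0))))))))

/-- Closure. -/
def clo27 : FTree := (.node (.node (.node (.node (.node (.node (.node (.leaf 0x53) (.leaf 0xa0d)) (.node (.leaf 0x493) (.leaf 0x17f6))) (.node (.node (.leaf 0xbb6) (.leaf 0x125b)) (.node (.leaf 0x12b7) (.leaf 0x0)))) (.node (.node (.node (.leaf 0x1962) (.leaf 0xc66)) (.node (.leaf 0x1625) (.leaf 0x1a4f))) (.node (.node (.leaf 0xcf5) (.leaf 0x146f)) (.node (.leaf 0xf1e) (.leaf 0x0))))) (.node (.node (.node (.node (.leaf 0x130) (.leaf 0xac2)) (.node (.leaf 0xfe9) (.leaf 0x1781))) (.node (.node (.leaf 0xba1) (.leaf 0x113c)) (.node (.leaf 0x59a) (.leaf 0x0)))) (.node (.node (.node (.leaf 0x898) (.leaf 0xd97)) (.node (.leaf 0x632) (.leaf 0x1b56))) (.node (.node (.leaf 0x2fb) (.leaf 0x1594)) (.node (.leaf 0xf26) (.leaf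 0x0)))))) (.node (.node (.node (.node (.node (.leaf 0xbf) (.leaf 0x106a)) (.node (.leaf 0xd16) (.leaf 0x17d4))) (.node (.node (.leaf 0x2c9) (.leaf 0x10d3)) (.node (.leaf 0x91f) (.leaf 0x0)))) (.node (.node (.node (.leaf 0x899) (.leaf 0x14c0)) (.node (.leaf 0x66f) (.leaf 0x19c4))) (.node (.node (.leaf 0x4db) (.leaf 0x162e)) (.node (.leaf 0x84e) (.leaf 0x0))))) (.node (.node (.node (.node (.leaf 0x1d9) (.leaf 0xe27)) (.node (.leaf 0x7b1) (.leaf 0x1788))) (.node (.node (.leaf 0x2ad) (.leaf 0x1328)) (.node (.leaf 0x647) (.leaf 0x0)))) (.node (.node (.node (.leaf 0x8b1) (.leaf 0x11d8)) (.node (.leaf 0x1553) (.leaf 0x198a))) (.node (.node (.leaf 0x554) (.leaf 0x1698)) (.node (.leaf 0xb1a) (.leaf 0x0))))))) (.node (.node (.node (.node (.node (.node (.leaf 0x92) (.leaf 0xcd9)) (.node (.leaf 0xfe8) (.leaf 0x1937))) (.node (.node (.leaf 0xbad) (.leaf 0x109a)) (.node (.leaf 0x1984) (.leaf 0x0)))) (.node (.node (.node (.leaf 0x8b0) (.leaf 0x14d7))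 (.node (.leaf 0x1198) (.leaf 0x1a1b))) (.node (.node (.leaf 0x5a7) (.leaf 0x14b6)) (.node (.leaf 0xaf7) (.leaf 0x0))))) (.node (.node (.node (.node (.leaf 0x134) (.leaf 0xc3d)) (.node (.leaf 0xd56) (.leaf 0x1872))) (.node (.node (.leaf 0x349) (.leaf 0x1108)) (.node (.leaf 0x6ab) (.leaf 0x0)))) (.node (.node (.node (.leaf 0xf79) (.leaf 0xc51)) (.node (.leaf 0xd93) (.leaf 0x1a26))) (.node (.node (.leaf 0x464) (.leaf 0x14ce)) (.node (.leaf 0x74b) (.leaf 0x0)))))) (.node (.node (.node (.node (.node (.leaf 0x143) (.leaf 0x11a4)) (.node (.leaf 0x479) (.leaf 0x1784))) (.node (.node (.leaf 0x268) (.leaf 0x10c7)) (.node (.leaf 0x5dc) (.leaf 0x0)))) (.node (.node (.node (.leaf 0x40b) (.leaf 0x14d9)) (.node (.leaf 0x670) (.leaf 0x1af5))) (.node (.node (.leaf 0x3a0) (.leaf 0x1537)) (.node (.leaf 0xae0) (.leaf 0x0))))) (.node (.node (.node (.node (.leaf 0x0) (.leaf 0x0)) (.node (.leaf 0x0) (.leaf 0x0))) (.node (.node (.leaf 0x0) (.leaf 0x0)) (.node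 (.leaf 0x0) (.leaf 0x0)))) (.node (.node (.node (.leaf 0x0) (.leaf 0x0)) (.node (.leaf 0x0) (.leaf 0x0))) (.node (.node (.leaf 0x0) (.leaf 0x0)) (.node (.leaf 0x0) (.leaf 0x0))))))))

/-- Closure. -/
def clo28 : FTree := (.node (.node (.node (.node (.node (.node (.node (.leaf 0x1b) (.leaf 0xcde)) (.node (.leaf 0x3e5) (.leaf 0x1756))) (.node (.node (.leaf 0x1079) (.leaf 0x1013)) (.node (.leaf 0x5fb) (.leaf 0x0)))) (.node (.node (.node (.leaf 0x201) (.leaf 0x14c1)) (.node (.leaf 0x154a) (.leaf 0x1993))) (.node (.node (.leaf 0x2e9) (.leaf 0x15af)) (.node (.leaf 0xfb9) (.leaf 0x0))))) (.node (.node (.node (.node (.leaf 0xe9) (.leaf 0xe84)) (.node (.leaf 0x1423) (.leaf 0x18ed))) (.node (.node (.leaf 0x290) (.leaf 0x10c8)) (.node (.leaf 0x60e) (.leaf 0x0)))) (.node (.node (.node (.leaf 0xf83) (.leaf 0xeda)) (.node (.leaf 0x17fb) (.leaf 0x1af7))) (.node (.node (.leaf 0xc00) (.leaf 0x18fb)) (.node (.leaf 0x16d5) (.leaf 0x0)))))) (.node (.node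 (.node (.node (.node (.leaf 0x8d) (.leaf 0xbe2)) (.node (.leaf 0x46d) (.leaf 0x1768))) (.node (.node (.leaf 0x2a4) (.leaf 0x1220)) (.node (.leaf 0x6c6) (.leaf 0x0)))) (.node (.node (.node (.leaf 0x22b) (.leaf 0x14ac)) (.node (.leaf 0x806) (.leaf 0x1a5b))) (.node (.node (.leaf 0x1208) (.leaf 0x139a)) (.node (.leaf 0x12f1) (.leaf 0x0))))) (.node (.node (.node (.node (.leaf 0x194) (.leaf 0xe80)) (.node (.leaf 0x142b) (.leaf 0x1764))) (.node (.node (.leaf 0x347) (.leaf 0x113a)) (.node (.leaf 0x910) (.leaf 0x0)))) (.node (.node (.node (.leaf 0x986) (.leaf 0xe5d)) (.node (.leaf 0xb8e) (.leaf 0x1b2d))) (.node (.node (.leaf 0x4d9) (.leaf 0x1469)) (.node (.leaf 0xb71) (.leaf 0x0))))))) (.node (.node (.node (.node (.node (.node (.leaf 0x58) (.leaf 0x9f9)) (.node (.leaf 0x1401) (.leaf 0x1769))) (.node (.node (.leaf 0x337) (.leaf 0x1294)) (.node (.leaf 0x18b1) (.leaf 0x0)))) (.node (.node (.node (.leaf 0x8a0) (.leaf 0xdb6)) (.node (.leaf 0x534)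 (.leaf 0x1b47))) (.node (.node (.leaf 0xcba) (.leaf 0x13c3)) (.node (.leaf 0xf3c) (.leaf 0x0))))) (.node (.node (.node (.node (.leaf 0x171) (.leaf 0xac4)) (.node (.leaf 0x1044) (.leaf 0x1916))) (.node (.node (.leaf 0x115b) (.leaf 0x1148)) (.node (.leaf 0x5f8) (.leaf 0x0)))) (.node (.node (.node (.leaf 0xf7a) (.leaf 0xda7)) (.node (.leaf 0x639) (.leaf 0x1acf))) (.node (.node (.leaf 0x466) (.leaf 0x1691)) (.node (.leaf 0xb5d) (.leaf 0x0)))))) (.node (.node (.node (.node (.node (.leaf 0xb6) (.leaf 0xb17)) (.node (.leaf 0x1047) (.leaf 0x18ba))) (.node (.node (.leaf 0x568) (.leaf 0x14a2)) (.node (.leaf 0x68e) (.leaf 0x0)))) (.node (.node (.node (.leaf 0x6dc) (.leaf 0x11df)) (.node (.leaf 0x669) (.leaf 0x1b2a))) (.node (.node (.leaf 0xdc0) (.leaf 0x14cd)) (.node (.leaf 0xaea) (.leaf 0x0))))) (.node (.node (.node (.node (.leaf 0x1ef) (.leaf 0xab3)) (.node (.leaf 0xd2a) (.leaf 0x1778))) (.node (.node (.leaf 0x2b9) (.leaf 0x1491)) (.node (.leaf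 0x12bd) (.leaf 0x0)))) (.node (.node (.node (.leaf 0x987) (.leaf 0xe74)) (.node (.leaf 0x676) (.leaf 0x1a33))) (.node (.node (.leaf 0xcf3) (.leaf 0x148a)) (.node (.leaf 0x741) (.leaf 0x0))))))))

/-- Closure. -/
def clo29 : FTree := (.node (.node (.node (.node (.node (.node (.node (.leaf 0x4c) (.leaf 0xe32)) (.node (.leaf 0x437) (.leaf 0x194b))) (.node (.node (.leaf 0x7e6) (.leaf 0x1225)) (.node (.leaf 0x610) (.leaf 0x0)))) (.node (.node (.node (.leaf 0x236) (.leaf 0xe23)) (.node (.leaf 0xebe) (.leaf 0x1a41))) (.node (.node (.leaf 0x3b7) (.leaf 0x153f)) (.node (.leaf 0x1aa3) (.leaf 0x0))))) (.node (.node (.node (.node (.leaf 0x101) (.leaf 0xab1)) (.node (.leaf 0x1410) (.leaf 0x17f7))) (.node (.node (.leaf 0x329) (.leaf 0x1104)) (.node (.leaf 0x62b) (.leaf 0x0)))) (.node (.node (.node (.leaf 0x9a7) (.leaf 0xe56)) (.node (.leaf 0xd90) (.leaf 0x1a12))) (.node (.node (.leaf 0x38f) (.leaf 0x1641)) (.node (.leaf 0x74f) (.leaf 0x0)))))) (.node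 (.node (.node (.node (.node (.leaf 0xff) (.leaf 0x863)) (.node (.leaf 0x1403) (.leaf 0x17d8))) (.node (.node (.leaf 0x7cf) (.leaf 0x10b5)) (.node (.leaf 0x790) (.leaf 0x0)))) (.node (.node (.node (.leaf 0x990) (.leaf 0xc82)) (.node (.leaf 0x154c) (.leaf 0x1ab1))) (.node (.node (.leaf 0x8f4) (.leaf 0x1475)) (.node (.leaf 0x12fa) (.leaf 0x0))))) (.node (.node (.node (.node (.leaf 0x199) (.leaf 0xa00)) (.node (.leaf 0xd44) (.leaf 0x17d7))) (.node (.node (.leaf 0x115d) (.leaf 0x10d2)) (.node (.leaf 0x5b5) (.leaf 0x0)))) (.node (.node (.node (.leaf 0x88f) (.leaf 0xc6e)) (.node (.leaf 0xe52) (.leaf 0x19f3))) (.node (.node (.leaf 0x4a2) (.leaf 0x1582)) (.node (.leaf 0xae8) (.leaf 0x0))))))) (.node (.node (.node (.node (.node (.node (.leaf 0x57) (.leaf 0x8ce)) (.node (.leaf 0x1048) (.leaf 0x18d4))) (.node (.node (.leaf 0x8e5) (.leaf 0x149a)) (.node (.leaf 0xb7a) (.leaf 0x0)))) (.node (.node (.node (.leaf 0x6d2) (.leaf 0x1264)) (.node (.leaf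 0x118d) (.leaf 0x1b4f))) (.node (.node (.leaf 0x1229) (.leaf 0x13c2)) (.node (.leaf 0x15e8) (.leaf 0x0))))) (.node (.node (.node (.node (.leaf 0x155) (.leaf 0xa30)) (.node (.leaf 0x43e) (.leaf 0x172a))) (.node (.node (.leaf 0xbb9) (.leaf 0x1176)) (.node (.leaf 0x599) (.leaf 0x0)))) (.node (.node (.node (.leaf 0x872) (.leaf 0xec9)) (.node (.leaf 0xb42) (.leaf 0x1a27))) (.node (.node (.leaf 0x314) (.leaf 0x13b6)) (.node (.leaf 0x16d7) (.leaf 0x0)))))) (.node (.node (.node (.node (.node (.leaf 0x107) (.leaf 0x91c)) (.node (.leaf 0x7b0) (.leaf 0x1835))) (.node (.node (.leaf 0x1094) (.leaf 0x11e7)) (.node (.leaf 0x78c) (.leaf 0x0)))) (.node (.node (.node (.leaf 0x89d) (.leaf 0xca6)) (.node (.leaf 0x678) (.leaf 0x1a92))) (.node (.node (.leaf 0xbfa) (.leaf 0x13bb)) (.node (.leaf 0x77b) (.leaf 0x0))))) (.node (.node (.node (.node (.leaf 0x1f7) (.leaf 0xfaf)) (.node (.leaf 0xfed) (.leaf 0x1931))) (.node (.node (.leaf 0x2b3) (.leaf 0x11a3)) (.node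 (.leaf 0xace) (.leaf 0x0)))) (.node (.node (.node (.leaf 0xf7f) (.leaf 0x144a)) (.node (.leaf 0xa6f) (.leaf 0x19a4))) (.node (.node (.leaf 0x145b) (.leaf 0x156e)) (.node (.leaf 0xf39) (.leaf 0x0))))))))

/-- Closure. -/
def clo30 : FTree := (.node (.node (.node (.node (.node (.node (.node (.leaf 0x1c) (.leaf 0x916)) (.node (.leaf 0x95f) (.leaf 0x17bc))) (.node (.node (.leaf 0x108e) (.leaf 0x120a)) (.node (.leaf 0x927) (.leaf 0x0)))) (.node (.node (.node (.leaf 0x88a) (.leaf 0xe5e)) (.node (.leaf 0x804) (.leaf 0x1a56))) (.node (.node (.leaf 0x3b2) (.leaf 0x1478)) (.node (.leaf 0xf0e) (.leaf 0x0))))) (.node (.node (.node (.node (.leaf 0x141) (.leaf 0x82f)) (.node (.leaf 0xd17) (.leaf 0x1927))) (.node (.node (.leaf 0x1144) (.leaf 0x12ed)) (.node (.leaf 0xac6) (.leaf 0x0)))) (.node (.node (.node (.leaf 0x6fc) (.leaf 0xdb4)) (.node (.leaf 0x649) (.leaf 0x1a20))) (.node (.node (.leaf 0x943) (.leaf 0x148d)) (.node (.leaf 0x712) (.leaf 0x0))))))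 (.node (.node (.node (.node (.node (.leaf 0xe3) (.leaf 0xa8f)) (.node (.leaf 0x1426) (.leaf 0x186b))) (.node (.node (.leaf 0x37d) (.leaf 0x11ea)) (.node (.leaf 0x60b) (.leaf 0x0)))) (.node (.node (.node (.leaf 0xfa6) (.leaf 0x14f8)) (.node (.leaf 0x15a5) (.leaf 0x1af6))) (.node (.node (.leaf 0xbfe) (.leaf 0x1506)) (.node (.leaf 0x16cf) (.leaf 0x0))))) (.node (.node (.node (.node (.leaf 0x1b4) (.leaf 0xaa6)) (.node (.leaf 0x100e) (.leaf 0x1839))) (.node (.node (.leaf 0x7d9) (.leaf 0x10e4)) (.node (.leaf 0x14e8) (.leaf 0x0)))) (.node (.node (.node (.leaf 0x9c3) (.leaf 0xd6f)) (.node (.leaf 0x679) (.leaf 0x19cc))) (.node (.node (.leaf 0xdc7) (.leaf 0x18fc)) (.node (.leaf 0xb48) (.leaf 0x0))))))) (.node (.node (.node (.node (.node (.node (.leaf 0x7d) (.leaf 0xcd7)) (.node (.leaf 0x485) (.leaf 0x17a9))) (.node (.node (.leaf 0x379) (.leaf 0x10bf)) (.node (.leaf 0xac0) (.leaf 0x0)))) (.node (.node (.node (.leaf 0x9bb) (.leaf 0xe33)) (.node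 (.leaf 0xa69) (.leaf 0x1ad4))) (.node (.node (.leaf 0x35f) (.leaf 0x15b0)) (.node (.leaf 0x164c) (.leaf 0x0))))) (.node (.node (.node (.node (.leaf 0x1ce) (.leaf 0xc1c)) (.node (.leaf 0x968) (.leaf 0x17b1))) (.node (.node (.leaf 0x2d9) (.leaf 0x1136)) (.node (.leaf 0xb6d) (.leaf 0x0)))) (.node (.node (.node (.leaf 0x89b) (.leaf 0xea7)) (.node (.leaf 0xa56) (.leaf 0x1a8b))) (.node (.node (.leaf 0xc08) (.leaf 0x15dc)) (.node (.leaf 0xb36) (.leaf 0x0)))))) (.node (.node (.node (.node (.node (.leaf 0xc5) (.leaf 0x11a1)) (.node (.leaf 0xd41) (.leaf 0x1877))) (.node (.node (.leaf 0x376) (.leaf 0x112a)) (.node (.leaf 0x684) (.leaf 0x0)))) (.node (.node (.node (.leaf 0x977) (.leaf 0xc67)) (.node (.leaf 0x1199) (.leaf 0x1ae2))) (.node (.node (.leaf 0x94a) (.leaf 0x15d7)) (.node (.leaf 0xb55) (.leaf 0x0))))) (.node (.node (.node (.node (.leaf 0x1fa) (.leaf 0xaee)) (.node (.leaf 0xd20) (.leaf 0x172e))) (.node (.node (.leaf 0xb99) (.leaf 0x1130))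 (.node (.leaf 0x787) (.leaf 0x0)))) (.node (.node (.node (.leaf 0x3f5) (.leaf 0x14c8)) (.node (.leaf 0xa8e) (.leaf 0x19e9))) (.node (.node (.leaf 0x7f5) (.leaf 0x1621)) (.node (.leaf 0x1657) (.leaf 0x0))))))))

/-- Closure. -/
def clo31 : FTree := (.node (.node (.node (.node (.node (.node (.node (.leaf 0x4a) (.leaf 0xc24)) (.node (.leaf 0x1422) (.leaf 0x190c))) (.node (.node (.leaf 0x297) (.leaf 0x10bd)) (.node (.leaf 0xc2e) (.leaf 0x0)))) (.node (.node (.node (.leaf 0xf82) (.leaf 0x127e)) (.node (.leaf 0x1922) (.leaf 0x1ae6))) (.node (.node (.leaf 0x332) (.leaf 0x15be)) (.node (.leaf 0x75b) (.leaf 0x0))))) (.node (.node (.node (.node (.leaf 0x162) (.leaf 0x842)) (.node (.leaf 0xd72) (.leaf 0x183b))) (.node (.node (.leaf 0x378) (.leaf 0x1241)) (.node (.leaf 0xa44) (.leaf 0x0)))) (.node (.node (.node (.leaf 0x980) (.leaf 0xc65)) (.node (.leaf 0x1562) (.leaf 0x1a03))) (.node (.node (.leaf 0x170e) (.leaf 0x1571)) (.node (.leaf 0x12fe)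 (.leaf 0x0)))))) (.node (.node (.node (.node (.node (.leaf 0xe6) (.leaf 0xadd)) (.node (.leaf 0x434) (.leaf 0x180d))) (.node (.node (.leaf 0x7e8) (.leaf 0x122d)) (.node (.leaf 0x138d) (.leaf 0x0)))) (.node (.node (.node (.leaf 0x22d) (.leaf 0x14bd)) (.node (.leaf 0x6a1) (.leaf 0x1a6e))) (.node (.node (.leaf 0xa03) (.leaf 0x1612)) (.node (.leaf 0x1aa2) (.leaf 0x0))))) (.node (.node (.node (.node (.leaf 0x1cf) (.leaf 0x1027)) (.node (.leaf 0x44f) (.leaf 0x17b3))) (.node (.node (.leaf 0x2c0) (.leaf 0x111a)) (.node (.leaf 0xb79) (.leaf 0x0)))) (.node (.node (.node (.leaf 0x3c8) (.leaf 0xf3e)) (.node (.leaf 0xe50) (.leaf 0x1a06))) (.node (.node (.leaf 0xc13) (.leaf 0x1589)) (.node (.leaf 0x739) (.leaf 0x0))))))) (.node (.node (.node (.node (.node (.node (.leaf 0x99) (.leaf 0xa8a)) (.node (.leaf 0x478) (.leaf 0x179e))) (.node (.node (.leaf 0xb97) (.leaf 0x1177)) (.node (.leaf 0x785) (.leaf 0x0)))) (.node (.node (.node (.leaf 0x3f7) (.leaf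 0xcbc)) (.node (.leaf 0x526) (.leaf 0x1a6f))) (.node (.node (.leaf 0xc4a) (.leaf 0x16a8)) (.node (.leaf 0x778) (.leaf 0x0))))) (.node (.node (.node (.node (.leaf 0x16b) (.leaf 0xe68)) (.node (.leaf 0xd10) (.leaf 0x1824))) (.node (.node (.leaf 0x1149) (.leaf 0x12e5)) (.node (.leaf 0xdd5) (.leaf 0x0)))) (.node (.node (.node (.leaf 0x6f7) (.leaf 0xcb5)) (.node (.leaf 0x4cf) (.leaf 0x19db))) (.node (.node (.leaf 0xa19) (.leaf 0x1521)) (.node (.leaf 0x713) (.leaf 0x0)))))) (.node (.node (.node (.node (.node (.leaf 0x122) (.leaf 0xa99)) (.node (.leaf 0x105a) (.leaf 0x186a))) (.node (.node (.leaf 0x2bd) (.leaf 0x12e0)) (.node (.leaf 0x606) (.leaf 0x0)))) (.node (.node (.node (.leaf 0x3da) (.leaf 0x1505)) (.node (.leaf 0x12cf) (.leaf 0x1a83))) (.node (.node (.leaf 0xc16) (.leaf 0x13f7)) (.node (.leaf 0x12e9) (.leaf 0x0))))) (.node (.node (.node (.node (.leaf 0x0) (.leaf 0x0)) (.node (.leaf 0x0) (.leaf 0x0))) (.node (.node (.leaf 0x0) (.leaf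 0x0)) (.node (.leaf 0x0) (.leaf 0x0)))) (.node (.node (.node (.leaf 0x0) (.leaf 0x0)) (.node (.leaf 0x0) (.leaf 0x0))) (.node (.node (.leaf 0x0) (.leaf 0x0)) (.node (.leaf 0x0) (.leaf 0x0))))))))

/-- Closure. -/
def clo32 : FTree := (.node (.node (.node (.node (.node (.node (.node (.leaf 0x4) (.leaf 0x860)) (.node (.leaf 0x417) (.leaf 0x1727))) (.node (.node (.leaf 0x8eb) (.leaf 0x11c4)) (.node (.leaf 0x581) (.leaf 0x0)))) (.node (.node (.node (.leaf 0x3be) (.leaf 0xc89)) (.node (.leaf 0x12cc) (.leaf 0x1a86))) (.node (.node (.leaf 0x319) (.leaf 0x1452)) (.node (.leaf 0xeff) (.leaf 0x0))))) (.node (.node (.node (.node (.leaf 0x14f) (.leaf 0x908)) (.node (.leaf 0x71a) (.leaf 0x179c))) (.node (.node (.leaf 0x28d) (.leaf 0x10d9)) (.node (.leaf 0x18b6) (.leaf 0x0)))) (.node (.node (.node (.leaf 0x6e6) (.leaf 0xccc)) (.node (.leaf 0x53b) (.leaf 0x19ff))) (.node (.node (.leaf 0x7f4) (.leaf 0x1618)) (.node (.leaf 0x167f) (.leaf 0x0)))))) (.node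 (.node (.node (.node (.node (.leaf 0x9c) (.leaf 0x83a)) (.node (.leaf 0x1414) (.leaf 0x17a8))) (.node (.node (.leaf 0x1158) (.leaf 0x10f0)) (.node (.leaf 0x5b2) (.leaf 0x0)))) (.node (.node (.node (.leaf 0x3ef) (.leaf 0xd9f)) (.node (.leaf 0xa86) (.leaf 0x1a78))) (.node (.node (.leaf 0xbf9) (.leaf 0x16a6)) (.node (.leaf 0x76b) (.leaf 0x0))))) (.node (.node (.node (.node (.leaf 0x16f) (.leaf 0x972)) (.node (.leaf 0xd18) (.leaf 0x18d0))) (.node (.node (.leaf 0x2c2) (.leaf 0x1498)) (.node (.leaf 0x5f0) (.leaf 0x0)))) (.node (.node (.node (.leaf 0x97e) (.leaf 0x14bf)) (.node (.leaf 0x192a) (.leaf 0x1b30))) (.node (.node (.leaf 0xc0e) (.leaf 0x13a1)) (.node (.leaf 0x74c) (.leaf 0x0))))))) (.node (.node (.node (.node (.node (.node (.leaf 0x4d) (.leaf 0xa1e)) (.node (.leaf 0xd28) (.leaf 0x177e))) (.node (.node (.leaf 0x2ec) (.leaf 0x12a2)) (.node (.leaf 0x159c) (.leaf 0x0)))) (.node (.node (.node (.leaf 0x8b6) (.leaf 0x1265)) (.node (.leaf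 0x814) (.leaf 0x1a5f))) (.node (.node (.leaf 0x1124) (.leaf 0x1511)) (.node (.leaf 0xb45) (.leaf 0x0))))) (.node (.node (.node (.node (.leaf 0x136) (.leaf 0xb33)) (.node (.leaf 0x954) (.leaf 0x183d))) (.node (.node (.leaf 0x1086) (.leaf 0x123e)) (.node (.leaf 0x78a) (.leaf 0x0)))) (.node (.node (.node (.leaf 0x8bb) (.leaf 0xe1a)) (.node (.leaf 0x520) (.leaf 0x19ef))) (.node (.node (.leaf 0x800) (.leaf 0x1583)) (.node (.leaf 0xb31) (.leaf 0x0)))))) (.node (.node (.node (.node (.node (.leaf 0xae) (.leaf 0xe64)) (.node (.leaf 0x956) (.leaf 0x181d))) (.node (.node (.leaf 0x339) (.leaf 0x10a6)) (.node (.leaf 0x789) (.leaf 0x0)))) (.node (.node (.node (.leaf 0x8c7) (.leaf 0xc8f)) (.node (.leaf 0x666) (.leaf 0x1a28))) (.node (.node (.leaf 0xbf0) (.leaf 0x16a3)) (.node (.leaf 0xb15) (.leaf 0x0))))) (.node (.node (.node (.node (.leaf 0x1d0) (.leaf 0x130a)) (.node (.leaf 0xd23) (.leaf 0x186e))) (.node (.node (.leaf 0x2da) (.leaf 0x1110)) (.node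 (.leaf 0x604) (.leaf 0x0)))) (.node (.node (.node (.leaf 0x8c8) (.leaf 0x1183)) (.node (.leaf 0xd95) (.leaf 0x1a84))) (.node (.node (.leaf 0x1234) (.leaf 0x1439)) (.node (.leaf 0xaf1) (.leaf 0x0))))))))

/-- Closure. -/
def clo33 : FTree := (.node (.node (.node (.node (.node (.node (.node (.leaf 0x2f) (.leaf 0x83b)) (.node (.leaf 0xd07) (.leaf 0x17c2))) (.node (.node (.leaf 0x56b) (.leaf 0x1112)) (.node (.leaf 0x12bc) (.leaf 0x0)))) (.node (.node (.node (.leaf 0x6fb) (.leaf 0xdcf)) (.node (.leaf 0xec0) (.leaf 0x1a11))) (.node (.node (.leaf 0xcef) (.leaf 0x16a1)) (.node (.leaf 0x731) (.leaf 0x0))))) (.node (.node (.node (.node (.leaf 0x174) (.leaf 0xa15)) (.node (.leaf 0x47b) (.leaf 0x1946))) (.node (.node (.leaf 0x277) (.leaf 0x10c0)) (.node (.leaf 0x5b0) (.leaf 0x0)))) (.node (.node (.node (.leaf 0x248) (.leaf 0xda1)) (.node (.leaf 0xd85) (.leaf 0x1a7c))) (.node (.node (.leaf 0xc04) (.leaf 0x13b2)) (.node (.leaf 0xada) (.leaf 0x0))))))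 (.node (.node (.node (.node (.node (.leaf 0xd2) (.leaf 0x133d)) (.node (.leaf 0x446) (.leaf 0x1715))) (.node (.node (.leaf 0x1078) (.leaf 0x1010)) (.node (.leaf 0x5fa) (.leaf 0x0)))) (.node (.node (.node (.leaf 0x210) (.leaf 0xc4f)) (.node (.leaf 0x50a) (.leaf 0x19b4))) (.node (.node (.leaf 0x2e7) (.leaf 0x15c6)) (.node (.leaf 0xfbd) (.leaf 0x0))))) (.node (.node (.node (.node (.leaf 0x15d) (.leaf 0x7ec)) (.node (.leaf 0xd5d) (.leaf 0x189d))) (.node (.node (.leaf 0x8e0) (.leaf 0x1138)) (.node (.leaf 0xed3) (.leaf 0x0)))) (.node (.node (.node (.leaf 0x99d) (.leaf 0xcfd)) (.node (.leaf 0x80e) (.leaf 0x1ad3))) (.node (.node (.leaf 0x38c) (.leaf 0x1584)) (.node (.leaf 0x1647) (.leaf 0x0))))))) (.node (.node (.node (.node (.node (.node (.leaf 0x65) (.leaf 0xaad)) (.node (.leaf 0x967) (.leaf 0x17ce))) (.node (.node (.leaf 0x2dc) (.leaf 0x10ff)) (.node (.leaf 0x605) (.leaf 0x0)))) (.node (.node (.node (.leaf 0x86a) (.leaf 0xc76)) (.node (.leaf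 0xe42) (.leaf 0x1a59))) (.node (.node (.leaf 0x3bb) (.leaf 0x161b)) (.node (.leaf 0x15f5) (.leaf 0x0))))) (.node (.node (.node (.node (.leaf 0x17c) (.leaf 0x83c)) (.node (.leaf 0x1032) (.leaf 0x172b))) (.node (.node (.leaf 0x1167) (.leaf 0x10f1)) (.node (.leaf 0x628) (.leaf 0x0)))) (.node (.node (.node (.leaf 0xf97) (.leaf 0x16f5)) (.node (.leaf 0x154d) (.leaf 0x19cf))) (.node (.node (.leaf 0x1224) (.leaf 0x148f)) (.node (.leaf 0x166d) (.leaf 0x0)))))) (.node (.node (.node (.node (.node (.leaf 0xea) (.leaf 0x119f)) (.node (.leaf 0x441) (.leaf 0x184f))) (.node (.node (.leaf 0x108f) (.leaf 0x11c5)) (.node (.leaf 0x59c) (.leaf 0x0)))) (.node (.node (.node (.leaf 0x893) (.leaf 0x15bf)) (.node (.leaf 0x527) (.leaf 0x1a19))) (.node (.node (.leaf 0x1976) (.leaf 0x1357)) (.node (.leaf 0xf10) (.leaf 0x0))))) (.node (.node (.node (.node (.leaf 0x1f0) (.leaf 0x94e)) (.node (.leaf 0xb02) (.leaf 0x17c9))) (.node (.node (.leaf 0x289) (.leaf 0x1172))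 (.node (.leaf 0x12bb) (.leaf 0x0)))) (.node (.node (.node (.leaf 0x9d0) (.leaf 0xd7a)) (.node (.leaf 0x664) (.leaf 0x198c))) (.node (.node (.leaf 0xcf1) (.leaf 0x14ab)) (.node (.leaf 0x1677) (.leaf 0x0))))))))

/-- Closure. -/
def clo34 : FTree := (.node (.node (.node (.node (.node (.node (.node (.leaf 0x20) (.leaf 0xa6c)) (.node (.leaf 0x104a) (.leaf 0x175f))) (.node (.node (.leaf 0x8dc) (.leaf 0x10a9)) (.node (.leaf 0xde6) (.leaf 0x0)))) (.node (.node (.node (.leaf 0xf48) (.leaf 0xc4e)) (.node (.leaf 0xa59) (.leaf 0x19d9))) (.node (.node (.leaf 0x3b8) (.leaf 0x16a2)) (.node (.leaf 0xf20) (.leaf 0x0))))) (.node (.node (.node (.node (.leaf 0xeb) (.leaf 0xa8b)) (.node (.leaf 0xd08) (.leaf 0x190f))) (.node (.node (.leaf 0x7d8) (.leaf 0x10eb)) (.node (.leaf 0x6bf) (.leaf 0x0)))) (.node (.node (.node (.leaf 0x6f0) (.leaf 0xef1)) (.node (.leaf 0x66a) (.leaf 0x1ac3))) (.node (.node (.leaf 0x391) (.leaf 0x1434)) (.node (.leaf 0x15f3) (.leaf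 0x0)))))) (.node (.node (.node (.node (.node (.leaf 0x8f) (.leaf 0x1586)) (.node (.leaf 0x957) (.leaf 0x173f))) (.node (.node (.leaf 0x331) (.leaf 0x1278)) (.node (.leaf 0x18b4) (.leaf 0x0)))) (.node (.node (.node (.leaf 0x88b) (.leaf 0xe1b)) (.node (.leaf 0xa51) (.leaf 0x19e8))) (.node (.node (.leaf 0x3b4) (.leaf 0x1471)) (.node (.leaf 0xb44) (.leaf 0x0))))) (.node (.node (.node (.node (.leaf 0x17e) (.leaf 0x808)) (.node (.leaf 0x140d) (.leaf 0x1760))) (.node (.node (.leaf 0x7dc) (.leaf 0x10e8)) (.node (.leaf 0x5b8) (.leaf 0x0)))) (.node (.node (.node (.leaf 0x996) (.leaf 0x1444)) (.node (.leaf 0x6b4) (.leaf 0x1ad8))) (.node (.node (.leaf 0x4ac) (.leaf 0x1694)) (.node (.leaf 0x1303) (.leaf 0x0))))))) (.node (.node (.node (.node (.node (.node (.leaf 0x73) (.leaf 0xbd8)) (.node (.leaf 0xb07) (.leaf 0x194f))) (.node (.node (.leaf 0x1967) (.leaf 0x1259)) (.node (.leaf 0x5c5) (.leaf 0x0)))) (.node (.node (.node (.leaf 0x221) (.leaf 0xe1e))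 (.node (.leaf 0x4fa) (.leaf 0x19ca))) (.node (.node (.leaf 0x2f4) (.leaf 0x15e3)) (.node (.leaf 0x12f7) (.leaf 0x0))))) (.node (.node (.node (.node (.leaf 0x172) (.leaf 0xafe)) (.node (.leaf 0x1058) (.leaf 0x1762))) (.node (.node (.leaf 0x27a) (.leaf 0x116f)) (.node (.leaf 0x78d) (.leaf 0x0)))) (.node (.node (.node (.leaf 0xf6e) (.leaf 0xdd0)) (.node (.leaf 0xe49) (.leaf 0x19c9))) (.node (.node (.leaf 0x801) (.leaf 0x13e5)) (.node (.leaf 0x1601) (.leaf 0x0)))))) (.node (.node (.node (.node (.node (.leaf 0xfe) (.leaf 0x1022)) (.node (.leaf 0xd1f) (.leaf 0x1724))) (.node (.node (.leaf 0x1161) (.leaf 0x149c)) (.node (.leaf 0xeed) (.leaf 0x0)))) (.node (.node (.node (.leaf 0x6ee) (.leaf 0x1430)) (.node (.leaf 0x524) (.leaf 0x19b8))) (.node (.node (.leaf 0x4e6) (.leaf 0x1690)) (.node (.leaf 0x1672) (.leaf 0x0))))) (.node (.node (.node (.node (.leaf 0x182) (.leaf 0xc40)) (.node (.leaf 0x412) (.leaf 0x1940))) (.node (.node (.leaf 0x276) (.leaf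 0x117f)) (.node (.leaf 0xdff) (.leaf 0x0)))) (.node (.node (.node (.leaf 0x3c3) (.leaf 0x1446)) (.node (.leaf 0xd7c) (.leaf 0x1b71))) (.node (.node (.leaf 0x122c) (.leaf 0x14ca)) (.node (.leaf 0xf1d) (.leaf 0x0))))))))

/-- Closure. -/
def clo35 : FTree := (.node (.node (.node (.node (.node (.node (.node (.leaf 0x4f) (.leaf 0xbe3)) (.node (.leaf 0x963) (.leaf 0x1906))) (.node (.node (.leaf 0x2db) (.leaf 0x10d1)) (.node (.leaf 0xee7) (.leaf 0x0)))) (.node (.node (.node (.leaf 0x868) (.leaf 0x11fa)) (.node (.leaf 0x1558) (.leaf 0x19dc))) (.node (.node (.leaf 0x37c) (.leaf 0x139c)) (.node (.leaf 0x1606) (.leaf 0x0))))) (.node (.node (.node (.node (.leaf 0x129) (.leaf 0xe30)) (.node (.leaf 0x41c) (.leaf 0x171b))) (.node (.node (.leaf 0x7a2) (.leaf 0x183f)) (.node (.leaf 0x5de) (.leaf 0x0)))) (.node (.node (.node (.leaf 0x217) (.leaf 0xe37)) (.node (.leaf 0x9d8) (.leaf 0x1975))) (.node (.node (.leaf 0x5a0) (.leaf 0x15b5)) (.node (.leaf 0x85d)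 (.leaf 0x0)))))) (.node (.node (.node (.node (.node (.leaf 0x85) (.leaf 0xbe1)) (.node (.leaf 0x1427) (.leaf 0x17f0))) (.node (.node (.leaf 0xbce) (.leaf 0x10d6)) (.node (.leaf 0x5d9) (.leaf 0x0)))) (.node (.node (.node (.leaf 0xfa8) (.leaf 0xce7)) (.node (.leaf 0x156b) (.leaf 0x1a62))) (.node (.node (.leaf 0x393) (.leaf 0x13da)) (.node (.leaf 0x12eb) (.leaf 0x0))))) (.node (.node (.node (.node (.leaf 0x19b) (.leaf 0x1842)) (.node (.leaf 0xb01) (.leaf 0x1947))) (.node (.node (.leaf 0x7a7) (.leaf 0x10b6)) (.node (.leaf 0xdd7) (.leaf 0x0)))) (.node (.node (.node (.leaf 0x99c) (.leaf 0x1281)) (.node (.leaf 0x50c) (.leaf 0x19cb))) (.node (.node (.leaf 0xa0a) (.leaf 0x1636)) (.node (.leaf 0x16d3) (.leaf 0x0))))))) (.node (.node (.node (.node (.node (.node (.leaf 0x75) (.leaf 0xe7e)) (.node (.leaf 0x499) (.leaf 0x188c))) (.node (.node (.leaf 0x2d2) (.leaf 0x12a4)) (.node (.leaf 0x1517) (.leaf 0x0)))) (.node (.node (.node (.leaf 0x1958) (.leaf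 0x1448)) (.node (.leaf 0x540) (.leaf 0x1a7d))) (.node (.node (.leaf 0x134f) (.leaf 0x1615)) (.node (.leaf 0xf23) (.leaf 0x0))))) (.node (.node (.node (.node (.leaf 0x15e) (.leaf 0xa9f)) (.node (.leaf 0xff1) (.leaf 0x188b))) (.node (.node (.leaf 0x306) (.leaf 0x11ec)) (.node (.leaf 0x5fc) (.leaf 0x0)))) (.node (.node (.node (.leaf 0x886) (.leaf 0x15c7)) (.node (.leaf 0x15a6) (.leaf 0x1a4a))) (.node (.node (.leaf 0x58e) (.leaf 0x14ba)) (.node (.leaf 0xf2f) (.leaf 0x0)))))) (.node (.node (.node (.node (.node (.leaf 0x117) (.leaf 0xfb3)) (.node (.leaf 0xd57) (.leaf 0x1864))) (.node (.node (.leaf 0x283) (.leaf 0x1213)) (.node (.leaf 0x12b9) (.leaf 0x0)))) (.node (.node (.node (.leaf 0x9a9) (.leaf 0xca3)) (.node (.leaf 0x50e) (.leaf 0x1a49))) (.node (.node (.leaf 0x120d) (.leaf 0x168f)) (.node (.leaf 0xb4c) (.leaf 0x0))))) (.node (.node (.node (.node (.leaf 0x0) (.leaf 0x0)) (.node (.leaf 0x0) (.leaf 0x0))) (.node (.node (.leaf 0x0) (.leaf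 0x0)) (.node (.leaf 0x0) (.leaf 0x0)))) (.node (.node (.node (.leaf 0x0) (.leaf 0x0)) (.node (.leaf 0x0) (.leaf 0x0))) (.node (.node (.leaf 0x0) (.leaf 0x0)) (.node (.leaf 0x0) (.leaf 0x0))))))))

/-- Closure. -/
def clo36 : FTree := (.node (.node (.node (.node (.node (.node (.node (.leaf 0xe) (.leaf 0x838)) (.node (.leaf 0x71e) (.leaf 0x1945))) (.node (.node (.leaf 0x8e9) (.leaf 0x1119)) (.node (.leaf 0x588) (.leaf 0x0)))) (.node (.node (.node (.leaf 0x3cb) (.leaf 0xe72)) (.node (.leaf 0x1194) (.leaf 0x1b74))) (.node (.node (.leaf 0x318) (.leaf 0x135a)) (.node (.leaf 0x12e8) (.leaf 0x0))))) (.node (.node (.node (.node (.leaf 0xe4) (.leaf 0xb28)) (.node (.leaf 0xd62) (.leaf 0x18a4))) (.node (.node (.leaf 0x2d4) (.leaf 0x10c3)) (.node (.leaf 0x91b) (.leaf 0x0)))) (.node (.node (.node (.leaf 0xf5e) (.leaf 0xd79)) (.node (.leaf 0x6b7) (.leaf 0x1a81))) (.node (.node (.leaf 0x1122) (.leaf 0x168d)) (.node (.leaf 0x12fd) (.leaf 0x0)))))) (.node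 (.node (.node (.node (.node (.leaf 0x88) (.leaf 0x7f3)) (.node (.leaf 0x722) (.leaf 0x18f7))) (.node (.node (.leaf 0x25b) (.leaf 0xfd8)) (.node (.leaf 0x5cb) (.leaf 0x0)))) (.node (.node (.node (.leaf 0x20e) (.leaf 0xddc)) (.node (.leaf 0x4fb) (.leaf 0x197f))) (.node (.node (.leaf 0x2ea) (.leaf 0x16e1)) (.node (.leaf 0xad7) (.leaf 0x0))))) (.node (.node (.node (.node (.leaf 0x1a7) (.leaf 0x1026)) (.node (.leaf 0x141b) (.leaf 0x17a1))) (.node (.node (.leaf 0x372) (.leaf 0x11f1)) (.node (.leaf 0x186f) (.leaf 0x0)))) (.node (.node (.node (.leaf 0xfa3) (.leaf 0x13ef)) (.node (.leaf 0x67b) (.leaf 0x19bf))) (.node (.node (.leaf 0x7f7) (.leaf 0x1397)) (.node (.leaf 0x16c3) (.leaf 0x0))))))) (.node (.node (.node (.node (.node (.node (.leaf 0x6a) (.leaf 0xcdc)) (.node (.leaf 0xb08) (.leaf 0x17aa))) (.node (.node (.leaf 0x42b) (.leaf 0x10c5)) (.node (.leaf 0xa3c) (.leaf 0x0)))) (.node (.node (.node (.leaf 0x3f9) (.leaf 0x11d7)) (.node (.leaf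 0x53f) (.leaf 0x1990))) (.node (.node (.leaf 0x399) (.leaf 0x154f)) (.node (.leaf 0x76e) (.leaf 0x0))))) (.node (.node (.node (.node (.leaf 0x16d) (.leaf 0xb38)) (.node (.leaf 0xd40) (.leaf 0x1757))) (.node (.node (.leaf 0x115a) (.leaf 0x1381)) (.node (.leaf 0xc32) (.leaf 0x0)))) (.node (.node (.node (.leaf 0x8b8) (.leaf 0xea4)) (.node (.leaf 0x1abd) (.leaf 0x19a1))) (.node (.node (.leaf 0x4a3) (.leaf 0x16a4)) (.node (.leaf 0x1605) (.leaf 0x0)))))) (.node (.node (.node (.node (.node (.leaf 0xf6) (.leaf 0x8fb)) (.node (.leaf 0x459) (.leaf 0x1714))) (.node (.node (.leaf 0xbbd) (.leaf 0x1333)) (.node (.leaf 0x5e3) (.leaf 0x0)))) (.node (.node (.node (.leaf 0x6e1) (.leaf 0xe65)) (.node (.leaf 0xd91) (.leaf 0x1ac1))) (.node (.node (.leaf 0x321) (.leaf 0x1368)) (.node (.leaf 0x15f7) (.leaf 0x0))))) (.node (.node (.node (.node (.leaf 0x1ec) (.leaf 0xa95)) (.node (.leaf 0xb04) (.leaf 0x183c))) (.node (.node (.leaf 0x7aa) (.leaf 0x10ea)) (.node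 (.leaf 0x6c5) (.leaf 0x0)))) (.node (.node (.node (.leaf 0x99e) (.leaf 0xc85)) (.node (.leaf 0x192d) (.leaf 0x1b62))) (.node (.node (.leaf 0x4e0) (.leaf 0x14d1)) (.node (.leaf 0x16de) (.leaf 0x0))))))))

/-- Closure. -/
def clo37 : FTree := (.node (.node (.node (.node (.node (.node (.node (.leaf 0x2d) (.leaf 0x840)) (.node (.leaf 0x46a) (.leaf 0x178d))) (.node (.node (.leaf 0x2a9) (.leaf 0x10c6)) (.node (.leaf 0xeee) (.leaf 0x0)))) (.node (.node (.node (.leaf 0x237) (.leaf 0xc64)) (.node (.leaf 0x81e) (.leaf 0x1a42))) (.node (.node (.leaf 0x94c) (.leaf 0x1559)) (.node (.leaf 0x736) (.leaf 0x0))))) (.node (.node (.node (.node (.leaf 0x14d) (.leaf 0x96d)) (.node (.leaf 0xfec) (.leaf 0x17a7))) (.node (.node (.leaf 0x34d) (.leaf 0x10b1)) (.node (.leaf 0xdf3) (.leaf 0x0)))) (.node (.node (.node (.leaf 0xf68) (.leaf 0xc99)) (.node (.leaf 0x541) (.leaf 0x1b22))) (.node (.node (.leaf 0x1702) (.leaf 0x14ad)) (.node (.leaf 0x750) (.leaf 0x0))))))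 (.node (.node (.node (.node (.node (.leaf 0xb8) (.leaf 0x1844)) (.node (.leaf 0x1061) (.leaf 0x172c))) (.node (.node (.leaf 0xbb8) (.leaf 0x11bd)) (.node (.leaf 0x922) (.leaf 0x0)))) (.node (.node (.node (.leaf 0xf6d) (.leaf 0xeec)) (.node (.leaf 0x1628) (.leaf 0x19c7))) (.node (.node (.leaf 0x112e) (.leaf 0x13a3)) (.node (.leaf 0x166c) (.leaf 0x0))))) (.node (.node (.node (.node (.leaf 0x1bf) (.leaf 0xe6c)) (.node (.leaf 0x49b) (.leaf 0x1773))) (.node (.node (.leaf 0xbbc) (.leaf 0x10b8)) (.node (.leaf 0xe06) (.leaf 0x0)))) (.node (.node (.node (.leaf 0x1960) (.leaf 0xc54)) (.node (.leaf 0x500) (.leaf 0x1b48))) (.node (.node (.leaf 0x1701) (.leaf 0x14e6)) (.node (.leaf 0xf18) (.leaf 0x0))))))) (.node (.node (.node (.node (.node (.node (.leaf 0x9d) (.leaf 0x101b)) (.node (.leaf 0xff7) (.leaf 0x1793))) (.node (.node (.leaf 0x4b6) (.leaf 0x12ae)) (.node (.leaf 0x12b8) (.leaf 0x0)))) (.node (.node (.node (.leaf 0x9b6) (.leaf 0x1262)) (.node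 (.leaf 0xa70) (.leaf 0x1b37))) (.node (.node (.leaf 0x5f4) (.leaf 0x1501)) (.node (.leaf 0x1646) (.leaf 0x0))))) (.node (.node (.node (.node (.leaf 0x1a8) (.leaf 0xe96)) (.node (.leaf 0x45d) (.leaf 0x17c6))) (.node (.node (.leaf 0xbb2) (.leaf 0x12a3)) (.node (.leaf 0x5a1) (.leaf 0x0)))) (.node (.node (.node (.leaf 0x6ff) (.leaf 0x11c3)) (.node (.leaf 0x52c) (.leaf 0x1a50))) (.node (.node (.leaf 0x592) (.leaf 0x1593)) (.node (.leaf 0xfbe) (.leaf 0x0)))))) (.node (.node (.node (.node (.node (.leaf 0x114) (.leaf 0x833)) (.node (.leaf 0xff3) (.leaf 0x189a))) (.node (.node (.leaf 0xba8) (.leaf 0x1135)) (.node (.leaf 0x5e5) (.leaf 0x0)))) (.node (.node (.node (.leaf 0x8ad) (.leaf 0xe5b)) (.node (.leaf 0x811) (.leaf 0x1aa6))) (.node (.node (.leaf 0x317) (.leaf 0x1361)) (.node (.leaf 0xf32) (.leaf 0x0))))) (.node (.node (.node (.node (.leaf 0x1f4) (.leaf 0x9f3)) (.node (.leaf 0xfe2) (.leaf 0x1821))) (.node (.node (.leaf 0x8e1) (.leaf 0x1383))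 (.node (.leaf 0xede) (.leaf 0x0)))) (.node (.node (.node (.leaf 0x9ae) (.leaf 0x1248)) (.node (.leaf 0x15a8) (.leaf 0x1b63))) (.node (.node (.leaf 0x94b) (.leaf 0x1524)) (.node (.leaf 0xfc3) (.leaf 0x0))))))))

/-- Closure. -/
def clo38 : FTree := (.node (.node (.node (.node (.node (.node (.node (.leaf 0x31) (.leaf 0x102b)) (.node (.leaf 0x141f) (.leaf 0x188a))) (.node (.node (.leaf 0x345) (.leaf 0x1171)) (.node (.leaf 0x1484) (.leaf 0x0)))) (.node (.node (.node (.leaf 0x9c1) (.leaf 0x11db)) (.node (.leaf 0xa58) (.leaf 0x1a1a))) (.node (.node (.leaf 0xcc3) (.leaf 0x139f)) (.node (.leaf 0xf28) (.leaf 0x0))))) (.node (.node (.node (.node (.leaf 0x115) (.leaf 0x153b)) (.node (.leaf 0x1002) (.leaf 0x17e0))) (.node (.node (.leaf 0x55a) (.leaf 0x10ed)) (.node (.leaf 0x598) (.leaf 0x0)))) (.node (.node (.node (.leaf 0x8a4) (.leaf 0xda4)) (.node (.leaf 0x677) (.leaf 0x1a1c))) (.node (.node (.leaf 0x312) (.leaf 0x15c4)) (.node (.leaf 0xaf6)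 (.leaf 0x0)))))) (.node (.node (.node (.node (.node (.leaf 0x94) (.leaf 0x936)) (.node (.leaf 0x94f) (.leaf 0x18d9))) (.node (.node (.leaf 0x429) (.leaf 0x1075)) (.node (.leaf 0x1591) (.leaf 0x0)))) (.node (.node (.node (.leaf 0x20b) (.leaf 0xcaa)) (.node (.leaf 0x4b4) (.leaf 0x1980))) (.node (.node (.leaf 0x1121) (.leaf 0x1460)) (.node (.leaf 0xb12) (.leaf 0x0))))) (.node (.node (.node (.node (.leaf 0x152) (.leaf 0xc41)) (.node (.leaf 0xd3f) (.leaf 0x1738))) (.node (.node (.leaf 0x7d4) (.leaf 0x10fe)) (.node (.leaf 0x14eb) (.leaf 0x0)))) (.node (.node (.node (.leaf 0x97b) (.leaf 0x1508)) (.node (.leaf 0xa62) (.leaf 0x1a68))) (.node (.node (.leaf 0x1464) (.leaf 0x1619)) (.node (.leaf 0x1648) (.leaf 0x0))))))) (.node (.node (.node (.node (.node (.node (.leaf 0x93) (.leaf 0x158a)) (.node (.leaf 0x105d) (.leaf 0x192f))) (.node (.node (.leaf 0xbc0) (.leaf 0x1215)) (.node (.leaf 0x690) (.leaf 0x0)))) (.node (.node (.node (.leaf 0xf7d) (.leaf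 0x11c9)) (.node (.leaf 0x50d) (.leaf 0x1b0f))) (.node (.node (.leaf 0x1393) (.leaf 0x153c)) (.node (.leaf 0xb66) (.leaf 0x0))))) (.node (.node (.node (.node (.leaf 0x173) (.leaf 0xa6e)) (.node (.leaf 0x415) (.leaf 0x18f2))) (.node (.node (.leaf 0x79d) (.leaf 0x132b)) (.node (.leaf 0x6bb) (.leaf 0x0)))) (.node (.node (.node (.leaf 0x3ce) (.leaf 0xe5c)) (.node (.leaf 0xec3) (.leaf 0x19f1))) (.node (.node (.leaf 0x5bc) (.leaf 0x168c)) (.node (.leaf 0x16f0) (.leaf 0x0)))))) (.node (.node (.node (.node (.node (.leaf 0xe1) (.leaf 0x1718)) (.node (.leaf 0x1043) (.leaf 0x18c1))) (.node (.node (.leaf 0x273) (.leaf 0x10c2)) (.node (.leaf 0x14e7) (.leaf 0x0)))) (.node (.node (.node (.leaf 0x3df) (.leaf 0xdb0)) (.node (.leaf 0x1193) (.leaf 0x1a80))) (.node (.node (.leaf 0x145c) (.leaf 0x14ae)) (.node (.leaf 0x12f4) (.leaf 0x0))))) (.node (.node (.node (.node (.leaf 0x1e2) (.leaf 0x171d)) (.node (.leaf 0x462) (.leaf 0x1847))) (.node (.node (.leaf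 0x264) (.leaf 0x1140)) (.node (.leaf 0xb7c) (.leaf 0x0)))) (.node (.node (.node (.leaf 0x223) (.leaf 0x14f4)) (.node (.leaf 0x4c4) (.leaf 0x1a29))) (.node (.node (.leaf 0x1228) (.leaf 0x15b2)) (.node (.leaf 0xfd6) (.leaf 0x0))))))))

/-- Closure. -/
def clo39 : FTree := (.node (.node (.node (.node (.node (.node (.node (.leaf 0x2b) (.leaf 0xa20)) (.node (.leaf 0x1407) (.leaf 0x188d))) (.node (.node (.leaf 0xb9d) (.leaf 0x118f)) (.node (.leaf 0xc2a) (.leaf 0x0)))) (.node (.node (.node (.leaf 0x989) (.leaf 0xd02)) (.node (.leaf 0x4f5) (.leaf 0x1b57))) (.node (.node (.leaf 0x112d) (.leaf 0x136b)) (.node (.leaf 0xb72) (.leaf 0x0))))) (.node (.node (.node (.node (.leaf 0x12a) (.leaf 0x9f2)) (.node (.leaf 0x436) (.leaf 0x187d))) (.node (.node (.leaf 0xba5) (.leaf 0x1170)) (.node (.leaf 0x5e6) (.leaf 0x0)))) (.node (.node (.node (.leaf 0x86e) (.leaf 0xdd6)) (.node (.leaf 0x816) (.leaf 0x1a01))) (.node (.node (.leaf 0x1973) (.leaf 0x14b2)) (.node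 (.leaf 0x16da) (.leaf 0x0)))))) (.node (.node (.node (.node (.node (.leaf 0xc7) (.leaf 0x11ab)) (.node (.leaf 0xb0c) (.leaf 0x186c))) (.node (.node (.leaf 0x383) (.leaf 0x113b)) (.node (.leaf 0x5c9) (.leaf 0x0)))) (.node (.node (.node (.leaf 0x24e) (.leaf 0x13e2)) (.node (.leaf 0x807) (.leaf 0x1b06))) (.node (.node (.leaf 0x363) (.leaf 0x135e)) (.node (.leaf 0xf1a) (.leaf 0x0))))) (.node (.node (.node (.node (.leaf 0x1ca) (.leaf 0xa32)) (.node (.leaf 0x46c) (.leaf 0x1755))) (.node (.node (.leaf 0x282) (.leaf 0x1244)) (.node (.leaf 0x15d1) (.leaf 0x0)))) (.node (.node (.node (.leaf 0x232) (.leaf 0x16fc)) (.node (.leaf 0x644) (.leaf 0x1996))) (.node (.node (.leaf 0xbf4) (.leaf 0x15c1)) (.node (.leaf 0xfc5) (.leaf 0x0))))))) (.node (.node (.node (.node (.node (.node (.leaf 0x95) (.leaf 0x905)) (.node (.leaf 0x1425) (.leaf 0x179f))) (.node (.node (.leaf 0x30a) (.leaf 0x127a)) (.node (.leaf 0x15de) (.leaf 0x0)))) (.node (.node (.node (.leaf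 0x979) (.leaf 0xdf2)) (.node (.leaf 0xa55) (.leaf 0x1ab7))) (.node (.node (.leaf 0xbe8) (.leaf 0x165c)) (.node (.leaf 0x1307) (.leaf 0x0))))) (.node (.node (.node (.node (.leaf 0x197) (.leaf 0xa28)) (.node (.leaf 0xd47) (.leaf 0x194d))) (.node (.node (.leaf 0x2d8) (.leaf 0x10df)) (.node (.leaf 0x630) (.leaf 0x0)))) (.node (.node (.node (.leaf 0xf7c) (.leaf 0xe75)) (.node (.leaf 0x1563) (.leaf 0x199d))) (.node (.node (.leaf 0x333) (.leaf 0x1514)) (.node (.leaf 0x167d) (.leaf 0x0)))))) (.node (.node (.node (.node (.node (.leaf 0xfa) (.leaf 0x846)) (.node (.leaf 0x725) (.leaf 0x178f))) (.node (.node (.leaf 0x2d5) (.leaf 0x1238)) (.node (.leaf 0x185e) (.leaf 0x0)))) (.node (.node (.node (.leaf 0xf6c) (.leaf 0x11f3)) (.node (.leaf 0xb4d) (.leaf 0x1b21))) (.node (.node (.leaf 0x3af) (.leaf 0x162b)) (.node (.leaf 0xb60) (.leaf 0x0))))) (.node (.node (.node (.node (.leaf 0x0) (.leaf 0x0)) (.node (.leaf 0x0) (.leaf 0x0))) (.node (.node (.leaf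 0x0) (.leaf 0x0)) (.node (.leaf 0x0) (.leaf 0x0)))) (.node (.node (.node (.leaf 0x0) (.leaf 0x0)) (.node (.leaf 0x0) (.leaf 0x0))) (.node (.node (.leaf 0x0) (.leaf 0x0)) (.node (.leaf 0x0) (.leaf 0x0))))))))

/-- Closure. -/
def clo40 : FTree := (.node (.node (.node (.node (.node (.node (.node (.leaf 0xd) (.leaf 0x9f4)) (.node (.leaf 0xd6b) (.leaf 0x17d6))) (.node (.node (.leaf 0x1164) (.leaf 0x10bc)) (.node (.leaf 0x14ef) (.leaf 0x0)))) (.node (.node (.node (.leaf 0xf51) (.leaf 0x124c)) (.node (.leaf 0x521) (.leaf 0x19c2))) (.node (.node (.leaf 0xa05) (.leaf 0x1689)) (.node (.leaf 0x12f6) (.leaf 0x0))))) (.node (.node (.node (.node (.leaf 0xbc) (.leaf 0xbdc)) (.node (.leaf 0x1038) (.leaf 0x1733))) (.node (.node (.leaf 0x79c) (.leaf 0x106c)) (.node (.leaf 0x159f) (.leaf 0x0)))) (.node (.node (.node (.leaf 0x20f) (.leaf 0x117c)) (.node (.leaf 0x4da) (.leaf 0x19f9))) (.node (.node (.leaf 0x111c) (.leaf 0x13d8)) (.node (.leaf 0xfb7) (.leaf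 0x0)))))) (.node (.node (.node (.node (.node (.leaf 0x6d) (.leaf 0x1020)) (.node (.leaf 0x1409) (.leaf 0x173b))) (.node (.node (.leaf 0x29e) (.leaf 0x127d)) (.node (.leaf 0x15d2) (.leaf 0x0)))) (.node (.node (.node (.leaf 0x890) (.leaf 0xef7)) (.node (.leaf 0x697) (.leaf 0x1a2f))) (.node (.node (.leaf 0xbf8) (.leaf 0x13bf)) (.node (.leaf 0x164a) (.leaf 0x0))))) (.node (.node (.node (.node (.leaf 0x18b) (.leaf 0x971)) (.node (.leaf 0xd32) (.leaf 0x1871))) (.node (.node (.leaf 0x265) (.leaf 0x11b4)) (.node (.leaf 0xad4) (.leaf 0x0)))) (.node (.node (.node (.leaf 0x89c) (.leaf 0x14de)) (.node (.leaf 0x528) (.leaf 0x19ad))) (.node (.node (.leaf 0xdb9) (.leaf 0x13d3)) (.node (.leaf 0x15fa) (.leaf 0x0))))))) (.node (.node (.node (.node (.node (.node (.leaf 0x3f) (.leaf 0x1345)) (.node (.leaf 0x483) (.leaf 0x1783))) (.node (.node (.leaf 0xb98) (.leaf 0x117b)) (.node (.leaf 0xc29) (.leaf 0x0)))) (.node (.node (.node (.leaf 0x3fe) (.leaf 0xc95))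 (.node (.leaf 0x62e) (.leaf 0x1b31))) (.node (.node (.leaf 0x54f) (.leaf 0x1575)) (.node (.leaf 0x767) (.leaf 0x0))))) (.node (.node (.node (.node (.leaf 0x10f) (.leaf 0x1344)) (.node (.leaf 0x726) (.leaf 0x178e))) (.node (.node (.leaf 0x2df) (.leaf 0x11f7)) (.node (.leaf 0x633) (.leaf 0x0)))) (.node (.node (.node (.leaf 0xf86) (.leaf 0x14b0)) (.node (.leaf 0x52a) (.leaf 0x1b3f))) (.node (.node (.leaf 0x5d3) (.leaf 0x14d6)) (.node (.leaf 0xb2e) (.leaf 0x0)))))) (.node (.node (.node (.node (.node (.leaf 0xe2) (.leaf 0x9f7)) (.node (.leaf 0x47a) (.leaf 0x189c))) (.node (.node (.leaf 0xba6) (.leaf 0x12a5)) (.node (.leaf 0x6be) (.leaf 0x0)))) (.node (.node (.node (.leaf 0x195b) (.leaf 0xcc4)) (.node (.leaf 0xe48) (.leaf 0x1b1c))) (.node (.node (.leaf 0x461) (.leaf 0x1487)) (.node (.leaf 0x1649) (.leaf 0x0))))) (.node (.node (.node (.node (.leaf 0x1c1) (.leaf 0xa22)) (.node (.leaf 0x48c) (.leaf 0x1914))) (.node (.node (.leaf 0xbb0) (.leaf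 0x1490)) (.node (.leaf 0xc28) (.leaf 0x0)))) (.node (.node (.node (.leaf 0x9a1) (.leaf 0x1245)) (.node (.leaf 0xeb0) (.leaf 0x1b4d))) (.node (.node (.leaf 0x553) (.leaf 0x13e1)) (.node (.leaf 0xfd1) (.leaf 0x0))))))))

/-- Closure. -/
def clo41 : FTree := (.node (.node (.node (.node (.node (.node (.node (.leaf 0x33) (.leaf 0x1341)) (.node (.leaf 0xd6d) (.leaf 0x1851))) (.node (.node (.leaf 0x115c) (.leaf 0x109e)) (.node (.leaf 0x5f6) (.leaf 0x0)))) (.node (.node (.node (.leaf 0xf4c) (.leaf 0x11d9)) (.node (.leaf 0xa4e) (.leaf 0x1b24))) (.node (.node (.leaf 0xa0f) (.leaf 0x151f)) (.node (.leaf 0x12f8) (.leaf 0x0))))) (.node (.node (.node (.node (.leaf 0x148) (.leaf 0xa9b)) (.node (.leaf 0xaff) (.leaf 0x177f))) (.node (.node (.leaf 0x288) (.leaf 0x11e9)) (.node (.leaf 0x5e9) (.leaf 0x0)))) (.node (.node (.node (.leaf 0x98d) (.leaf 0xdb2)) (.node (.leaf 0x52d) (.leaf 0x1b68))) (.node (.node (.leaf 0xa1c) (.leaf 0x1496)) (.node (.leaf 0xfc8)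 (.leaf 0x0)))))) (.node (.node (.node (.node (.node (.leaf 0xb5) (.leaf 0xaa4)) (.node (.leaf 0x1053) (.leaf 0x17bd))) (.node (.node (.leaf 0x1152) (.leaf 0x11c6)) (.node (.leaf 0xeea) (.leaf 0x0)))) (.node (.node (.node (.leaf 0x6d0) (.leaf 0xc9f)) (.node (.leaf 0x9df) (.leaf 0x19e1))) (.node (.node (.leaf 0x1462) (.leaf 0x16b9)) (.node (.leaf 0x1671) (.leaf 0x0))))) (.node (.node (.node (.node (.leaf 0x1bc) (.leaf 0x8fd)) (.node (.leaf 0x7af) (.leaf 0x1704))) (.node (.node (.leaf 0x420) (.leaf 0x100f)) (.node (.leaf 0x5bd) (.leaf 0x0)))) (.node (.node (.node (.leaf 0x21a) (.leaf 0xdcc)) (.node (.leaf 0xe46) (.leaf 0x1978))) (.node (.node (.leaf 0x2e4) (.leaf 0x1386)) (.node (.leaf 0x70c) (.leaf 0x0))))))) (.node (.node (.node (.node (.node (.node (.leaf 0x80) (.leaf 0x7e9)) (.node (.leaf 0x47f) (.leaf 0x191f))) (.node (.node (.leaf 0x79b) (.leaf 0x12ab)) (.node (.leaf 0xc39) (.leaf 0x0)))) (.node (.node (.node (.leaf 0x245) (.leaf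 0xea0)) (.node (.leaf 0x15ab) (.leaf 0x1a47))) (.node (.node (.leaf 0xcbe) (.leaf 0x1373)) (.node (.leaf 0xb6a) (.leaf 0x0))))) (.node (.node (.node (.node (.leaf 0x180) (.leaf 0x834)) (.node (.leaf 0x1421) (.leaf 0x18b9))) (.node (.node (.leaf 0x1162) (.leaf 0x12c6)) (.node (.leaf 0x65a) (.leaf 0x0)))) (.node (.node (.node (.leaf 0x3e9) (.leaf 0x14ff)) (.node (.leaf 0x51e) (.leaf 0x1af8))) (.node (.node (.leaf 0x397) (.leaf 0x14d4)) (.node (.leaf 0xb1f) (.leaf 0x0)))))) (.node (.node (.node (.node (.node (.leaf 0xed) (.leaf 0x82d)) (.node (.leaf 0x140c) (.leaf 0x18f1))) (.node (.node (.leaf 0x348) (.leaf 0x11be)) (.node (.leaf 0x782) (.leaf 0x0)))) (.node (.node (.node (.leaf 0x9b3) (.leaf 0xc18)) (.node (.leaf 0x549) (.leaf 0x1a74))) (.node (.node (.leaf 0x8f7) (.leaf 0x15e7)) (.node (.leaf 0xfd0) (.leaf 0x0))))) (.node (.node (.node (.node (.leaf 0x1f2) (.leaf 0xc1e)) (.node (.leaf 0x447) (.leaf 0x17ad))) (.node (.node (.leaf 0x8e8)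 (.leaf 0x11f0)) (.node (.leaf 0x688) (.leaf 0x0)))) (.node (.node (.node (.leaf 0xfa1) (.leaf 0xc93)) (.node (.leaf 0x6ac) (.leaf 0x1a93))) (.node (.node (.leaf 0xdb7) (.leaf 0x13f2)) (.node (.leaf 0x1656) (.leaf 0x0))))))))

/-- Closure. -/
def clo42 : FTree := (.node (.node (.node (.node (.node (.node (.node (.leaf 0x1d) (.leaf 0x152e)) (.node (.leaf 0x1039) (.leaf 0x182d))) (.node (.node (.leaf 0x272) (.leaf 0x10d7)) (.node (.leaf 0xe00) (.leaf 0x0)))) (.node (.node (.node (.leaf 0x3d3) (.leaf 0xe04)) (.node (.leaf 0x6b0) (.leaf 0x19f6))) (.node (.node (.leaf 0x3a7) (.leaf 0x168a)) (.node (.leaf 0x738) (.leaf 0x0))))) (.node (.node (.node (.node (.leaf 0x16e) (.leaf 0xbdd)) (.node (.leaf 0x1063) (.leaf 0x194a))) (.node (.node (.leaf 0xbcf) (.leaf 0x11b8)) (.node (.leaf 0x18b5) (.leaf 0x0)))) (.node (.node (.node (.leaf 0xf77) (.leaf 0xe99)) (.node (.leaf 0x63f) (.leaf 0x1a79))) (.node (.node (.leaf 0x3ae) (.leaf 0x1369)) (.node (.leaf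 0x167c) (.leaf 0x0)))))) (.node (.node (.node (.node (.node (.leaf 0xac) (.leaf 0xe97)) (.node (.leaf 0x7c1) (.leaf 0x1880))) (.node (.node (.leaf 0x385) (.leaf 0x1212)) (.node (.leaf 0x57c) (.leaf 0x0)))) (.node (.node (.node (.leaf 0x247) (.leaf 0xce3)) (.node (.leaf 0xeb8) (.leaf 0x1ab9))) (.node (.node (.leaf 0x32c) (.leaf 0x1387)) (.node (.leaf 0xb19) (.leaf 0x0))))) (.node (.node (.node (.node (.leaf 0x1b1) (.leaf 0xac7)) (.node (.leaf 0xd51) (.leaf 0x1787))) (.node (.node (.leaf 0x115f) (.leaf 0x10c4)) (.node (.leaf 0x625) (.leaf 0x0)))) (.node (.node (.node (.leaf 0xfaa) (.leaf 0xe7c)) (.node (.leaf 0x545) (.leaf 0x1ade))) (.node (.node (.leaf 0x3bc) (.leaf 0x1565)) (.node (.leaf 0xf3a) (.leaf 0x0))))))) (.node (.node (.node (.node (.node (.node (.leaf 0x5e) (.leaf 0xaaa)) (.node (.leaf 0x715) (.leaf 0x187c))) (.node (.node (.leaf 0x1089) (.leaf 0x124d)) (.node (.leaf 0x77f) (.leaf 0x0)))) (.node (.node (.node (.leaf 0x6f6)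 (.leaf 0xd58)) (.node (.leaf 0x9e1) (.leaf 0x1b13))) (.node (.node (.leaf 0xcc0) (.leaf 0x1474)) (.node (.leaf 0xfcc) (.leaf 0x0))))) (.node (.node (.node (.node (.leaf 0x18c) (.leaf 0xa37)) (.node (.leaf 0x458) (.leaf 0x1809))) (.node (.node (.leaf 0xba0) (.leaf 0x12aa)) (.node (.leaf 0x58f) (.leaf 0x0)))) (.node (.node (.node (.leaf 0x6fd) (.leaf 0xbe4)) (.node (.leaf 0x15ac) (.leaf 0x1aba))) (.node (.node (.leaf 0x1972) (.leaf 0x15a4)) (.node (.leaf 0xfba) (.leaf 0x0)))))) (.node (.node (.node (.node (.node (.leaf 0xbd) (.leaf 0xcdd)) (.node (.leaf 0xb06) (.leaf 0x176d))) (.node (.node (.leaf 0x2a7) (.leaf 0x12d4)) (.node (.leaf 0xa43) (.leaf 0x0)))) (.node (.node (.node (.leaf 0x195f) (.leaf 0xc80)) (.node (.leaf 0xa4c) (.leaf 0x1b3a))) (.node (.node (.leaf 0x1319) (.leaf 0x1442)) (.node (.leaf 0xf0b) (.leaf 0x0))))) (.node (.node (.node (.node (.leaf 0x1da) (.leaf 0x1017)) (.node (.leaf 0xfd9) (.leaf 0x1822))) (.node (.node (.leaf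 0x1080) (.leaf 0x126a)) (.node (.leaf 0x1299) (.leaf 0x0)))) (.node (.node (.node (.leaf 0x40c) (.leaf 0xdad)) (.node (.leaf 0x665) (.leaf 0x1a46))) (.node (.node (.leaf 0xcea) (.leaf 0x146e)) (.node (.leaf 0x1675) (.leaf 0x0))))))))

/-- Closure. -/
def clo43 : FTree := (.node (.node (.node (.node (.node (.node (.node (.leaf 0x41) (.leaf 0x8fc)) (.node (.leaf 0x72c) (.leaf 0x177c))) (.node (.node (.leaf 0x28e) (.leaf 0x12c4)) (.node (.leaf 0x1860) (.leaf 0x0)))) (.node (.node (.node (.leaf 0xfa7) (.leaf 0xc83)) (.node (.leaf 0x1560) (.leaf 0x1b05))) (.node (.node (.leaf 0x3b3) (.leaf 0x1535)) (.node (.leaf 0xf0a) (.leaf 0x0))))) (.node (.node (.node (.node (.leaf 0x108) (.leaf 0xa04)) (.node (.leaf 0x456) (.leaf 0x18d2))) (.node (.node (.leaf 0x2a5) (.leaf 0x1330)) (.node (.leaf 0x67d) (.leaf 0x0)))) (.node (.node (.node (.leaf 0x3cf) (.leaf 0xe10)) (.node (.leaf 0xa63) (.leaf 0x1b65))) (.node (.node (.leaf 0x946) (.leaf 0x13ac)) (.node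 (.leaf 0xf0c) (.leaf 0x0)))))) (.node (.node (.node (.node (.node (.leaf 0xa5) (.leaf 0xc20)) (.node (.leaf 0x468) (.leaf 0x17c8))) (.node (.node (.leaf 0x2a3) (.leaf 0x10a3)) (.node (.leaf 0x151b) (.leaf 0x0)))) (.node (.node (.node (.leaf 0x230) (.leaf 0xe76)) (.node (.leaf 0x50f) (.leaf 0x1a36))) (.node (.node (.leaf 0x3a2) (.leaf 0x1692)) (.node (.leaf 0x732) (.leaf 0x0))))) (.node (.node (.node (.node (.leaf 0x1c8) (.leaf 0xa97)) (.node (.leaf 0xd31) (.leaf 0x17b7))) (.node (.node (.leaf 0x4b7) (.leaf 0x10b7)) (.node (.leaf 0x5ea) (.leaf 0x0)))) (.node (.node (.node (.leaf 0x8b7) (.leaf 0xcce)) (.node (.leaf 0x533) (.leaf 0x1b4b))) (.node (.node (.leaf 0xa1b) (.leaf 0x146c)) (.node (.leaf 0xaf5) (.leaf 0x0))))))) (.node (.node (.node (.node (.node (.node (.leaf 0x91) (.leaf 0xe26)) (.node (.leaf 0xd75) (.leaf 0x1936))) (.node (.node (.leaf 0x2a6) (.leaf 0x11b1)) (.node (.leaf 0xe0b) (.leaf 0x0)))) (.node (.node (.node (.leaf 0xf5c)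 (.leaf 0x14dc)) (.node (.leaf 0x1abc) (.leaf 0x1a88))) (.node (.node (.leaf 0x131e) (.leaf 0x143a)) (.node (.leaf 0xb23) (.leaf 0x0))))) (.node (.node (.node (.node (.leaf 0x193) (.leaf 0x92b)) (.node (.leaf 0xd09) (.leaf 0x177d))) (.node (.node (.leaf 0x2dd) (.leaf 0x1175)) (.node (.leaf 0xb77) (.leaf 0x0)))) (.node (.node (.node (.leaf 0x889) (.leaf 0x14db)) (.node (.leaf 0x63d) (.leaf 0x19ae))) (.node (.node (.leaf 0x1226) (.leaf 0x13b9)) (.node (.leaf 0x773) (.leaf 0x0)))))) (.node (.node (.node (.node (.node (.leaf 0x119) (.leaf 0x157e)) (.node (.leaf 0x969) (.leaf 0x17c3))) (.node (.node (.leaf 0x2de) (.leaf 0x1131)) (.node (.leaf 0x69d) (.leaf 0x0)))) (.node (.node (.node (.leaf 0x894) (.leaf 0xe31)) (.node (.leaf 0xe55) (.leaf 0x19d3))) (.node (.node (.leaf 0x1459) (.leaf 0x1570)) (.node (.leaf 0xb30) (.leaf 0x0))))) (.node (.node (.node (.node (.leaf 0x0) (.leaf 0x0)) (.node (.leaf 0x0) (.leaf 0x0))) (.node (.node (.leaf 0x0)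 (.leaf 0x0)) (.node (.leaf 0x0) (.leaf 0x0)))) (.node (.node (.node (.leaf 0x0) (.leaf 0x0)) (.node (.leaf 0x0) (.leaf 0x0))) (.node (.node (.leaf 0x0) (.leaf 0x0)) (.node (.leaf 0x0) (.leaf 0x0))))))))

/-- Closure. -/
def clo44 : FTree := (.node (.node (.node (.node (.node (.node (.node (.leaf 0x15) (.leaf 0x8ca)) (.node (.leaf 0x1003) (.leaf 0x17d0))) (.node (.node (.leaf 0x2cc) (.leaf 0x11d5)) (.node (.leaf 0xee5) (.leaf 0x0)))) (.node (.node (.node (.leaf 0x9c0) (.leaf 0x1449)) (.node (.leaf 0x516) (.leaf 0x1ac2))) (.node (.node (.leaf 0x941) (.leaf 0x13c5)) (.node (.leaf 0x756) (.leaf 0x0))))) (.node (.node (.node (.node (.leaf 0x10b) (.leaf 0x1066)) (.node (.leaf 0x489) (.leaf 0x193e))) (.node (.node (.leaf 0x381) (.leaf 0x10b0)) (.node (.leaf 0x682) (.leaf 0x0)))) (.node (.node (.node (.leaf 0x99f) (.leaf 0xc8b)) (.node (.leaf 0x4d3) (.leaf 0x1aca))) (.node (.node (.leaf 0x1200) (.leaf 0x14e4)) (.node (.leaf 0xf2a) (.leaf 0x0))))))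 (.node (.node (.node (.node (.node (.leaf 0xa1) (.leaf 0x152d)) (.node (.leaf 0xd53) (.leaf 0x1858))) (.node (.node (.leaf 0x114c) (.leaf 0x10fc)) (.node (.leaf 0x622) (.leaf 0x0)))) (.node (.node (.node (.leaf 0x3fc) (.leaf 0xc92)) (.node (.leaf 0x536) (.leaf 0x1b66))) (.node (.node (.leaf 0x39c) (.leaf 0x1360)) (.node (.leaf 0x16e5) (.leaf 0x0))))) (.node (.node (.node (.node (.leaf 0x1cd) (.leaf 0x7a8)) (.node (.leaf 0x3e8) (.leaf 0x1903))) (.node (.node (.leaf 0x704) (.leaf 0xfb6)) (.node (.leaf 0x5e7) (.leaf 0x0)))) (.node (.node (.node (.leaf 0x20a) (.leaf 0x16f9)) (.node (.leaf 0x17ff) (.leaf 0x19f8))) (.node (.node (.leaf 0x5a2) (.leaf 0x16ab)) (.node (.leaf 0x73e) (.leaf 0x0))))))) (.node (.node (.node (.node (.node (.node (.leaf 0x46) (.leaf 0x1533)) (.node (.leaf 0x103f) (.leaf 0x1813))) (.node (.node (.leaf 0x351) (.leaf 0x121f)) (.node (.leaf 0xdf6) (.leaf 0x0)))) (.node (.node (.node (.leaf 0xf4e) (.leaf 0x125f)) (.node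 (.leaf 0x6b2) (.leaf 0x1a82))) (.node (.node (.leaf 0x122a) (.leaf 0x155b)) (.node (.leaf 0xf00) (.leaf 0x0))))) (.node (.node (.node (.node (.leaf 0x170) (.leaf 0x7ea)) (.node (.leaf 0x7ac) (.leaf 0x18b8))) (.node (.node (.leaf 0x72f) (.leaf 0xfae)) (.node (.leaf 0x58b) (.leaf 0x0)))) (.node (.node (.node (.leaf 0x219) (.leaf 0xe9c)) (.node (.leaf 0x4bd) (.leaf 0x1979))) (.node (.node (.leaf 0x2f3) (.leaf 0x150d)) (.node (.leaf 0x85c) (.leaf 0x0)))))) (.node (.node (.node (.node (.node (.leaf 0xfb) (.leaf 0x7fb)) (.node (.leaf 0xd25) (.leaf 0x1818))) (.node (.node (.leaf 0x263) (.leaf 0x1201)) (.node (.leaf 0xad2) (.leaf 0x0)))) (.node (.node (.node (.leaf 0x8bc) (.leaf 0xed0)) (.node (.leaf 0x9ec) (.leaf 0x19d5))) (.node (.node (.leaf 0x942) (.leaf 0x1355)) (.node (.leaf 0x166f) (.leaf 0x0))))) (.node (.node (.node (.node (.leaf 0x1ee) (.leaf 0x9e8)) (.node (.leaf 0x103a) (.leaf 0x1875))) (.node (.node (.leaf 0x1160) (.leaf 0x110f))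 (.node (.leaf 0xedc) (.leaf 0x0)))) (.node (.node (.node (.leaf 0xf94) (.leaf 0xe71)) (.node (.leaf 0xec1) (.leaf 0x198e))) (.node (.node (.leaf 0x37b) (.leaf 0x16bd)) (.node (.leaf 0x1678) (.leaf 0x0))))))))

/-- Closure. -/
def clo45 : FTree := (.node (.node (.node (.node (.node (.node (.node (.leaf 0x3c) (.leaf 0xa67)) (.node (.leaf 0x102e) (.leaf 0x18a3))) (.node (.node (.leaf 0x7d7) (.leaf 0x101d)) (.node (.leaf 0xc26) (.leaf 0x0)))) (.node (.node (.node (.leaf 0x212) (.leaf 0xcb7)) (.node (.leaf 0x17f9) (.leaf 0x1a77))) (.node (.node (.leaf 0xcc8) (.leaf 0x1473)) (.node (.leaf 0x70a) (.leaf 0x0))))) (.node (.node (.node (.node (.leaf 0xdd) (.leaf 0xa3b)) (.node (.leaf 0xd60) (.leaf 0x1729))) (.node (.node (.leaf 0x8d6) (.leaf 0x12de)) (.node (.leaf 0xee1) (.leaf 0x0)))) (.node (.node (.node (.leaf 0x998) (.leaf 0xc4c)) (.node (.leaf 0x1552) (.leaf 0x1b34))) (.node (.node (.leaf 0x1455) (.leaf 0x13f4)) (.node (.leaf 0xb68) (.leaf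 0x0)))))) (.node (.node (.node (.node (.node (.leaf 0xdc) (.leaf 0xa2b)) (.node (.leaf 0xd54) (.leaf 0x1794))) (.node (.node (.leaf 0x114e) (.leaf 0x10a2)) (.node (.leaf 0xedf) (.leaf 0x0)))) (.node (.node (.node (.leaf 0xfa4) (.leaf 0xc7d)) (.node (.leaf 0x161c) (.leaf 0x1a94))) (.node (.node (.leaf 0xcfb) (.leaf 0x1494)) (.node (.leaf 0xf29) (.leaf 0x0))))) (.node (.node (.node (.node (.leaf 0x1e4) (.leaf 0x827)) (.node (.leaf 0x72a) (.leaf 0x1782))) (.node (.node (.leaf 0x2d0) (.leaf 0x11f5)) (.node (.leaf 0x147f) (.leaf 0x0)))) (.node (.node (.node (.leaf 0xf70) (.leaf 0xcfe)) (.node (.leaf 0x817) (.leaf 0x1aa9))) (.node (.node (.leaf 0x8ff) (.leaf 0x160d)) (.node (.leaf 0xb1b) (.leaf 0x0))))))) (.node (.node (.node (.node (.node (.node (.leaf 0x56) (.leaf 0x904)) (.node (.leaf 0x95e) (.leaf 0x1948))) (.node (.node (.leaf 0x114d) (.leaf 0x11ce)) (.node (.leaf 0x5b4) (.leaf 0x0)))) (.node (.node (.node (.leaf 0x8b5) (.leaf 0xc88))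 (.node (.leaf 0x9e0) (.leaf 0x1a3a))) (.node (.node (.leaf 0x4ab) (.leaf 0x15eb)) (.node (.leaf 0x16e9) (.leaf 0x0))))) (.node (.node (.node (.node (.leaf 0x127) (.leaf 0x7fc)) (.node (.leaf 0xd3c) (.leaf 0x191c))) (.node (.node (.leaf 0x260) (.leaf 0x11bb)) (.node (.leaf 0xdec) (.leaf 0x0)))) (.node (.node (.node (.leaf 0x88c) (.leaf 0x16fd)) (.node (.leaf 0x62d) (.leaf 0x1a2d))) (.node (.node (.leaf 0xa18) (.leaf 0x13f9)) (.node (.leaf 0x1609) (.leaf 0x0)))))) (.node (.node (.node (.node (.node (.leaf 0x116) (.leaf 0xa80)) (.node (.leaf 0x95a) (.leaf 0x1790))) (.node (.node (.leaf 0x1093) (.leaf 0x1243)) (.node (.leaf 0xc36) (.leaf 0x0)))) (.node (.node (.node (.leaf 0x8c3) (.leaf 0xecf)) (.node (.leaf 0x530) (.leaf 0x1a30))) (.node (.node (.leaf 0x551) (.leaf 0x18da)) (.node (.leaf 0xb20) (.leaf 0x0))))) (.node (.node (.node (.node (.leaf 0x1fe) (.leaf 0xb3a)) (.node (.leaf 0x44d) (.leaf 0x1853))) (.node (.node (.leaf 0x353) (.leaf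 0x10da)) (.node (.leaf 0x680) (.leaf 0x0)))) (.node (.node (.node (.leaf 0xf59) (.leaf 0xea5)) (.node (.leaf 0x51d) (.leaf 0x1b40))) (.node (.node (.leaf 0xdc8) (.leaf 0x169e)) (.node (.leaf 0x1600) (.leaf 0x0))))))))

/-- Closure. -/
def clo46 : FTree := (.node (.node (.node (.node (.node (.node (.node (.leaf 0x35) (.leaf 0xe8f)) (.node (.leaf 0x1009) (.leaf 0x18c3))) (.node (.node (.leaf 0x7dd) (.leaf 0x10d8)) (.node (.leaf 0x620) (.leaf 0x0)))) (.node (.node (.node (.leaf 0x9b9) (.leaf 0xf40)) (.node (.leaf 0x6b5) (.leaf 0x1ad7))) (.node (.node (.leaf 0x1706) (.leaf 0x161a)) (.node (.leaf 0xf0f) (.leaf 0x0))))) (.node (.node (.node (.node (.leaf 0x11b) (.leaf 0xbde)) (.node (.leaf 0xd4a) (.leaf 0x191e))) (.node (.node (.leaf 0xbd4) (.leaf 0x1270)) (.node (.leaf 0xac9) (.leaf 0x0)))) (.node (.node (.node (.leaf 0x9c5) (.leaf 0xd26)) (.node (.leaf 0xeb1) (.leaf 0x1b15))) (.node (.node (.leaf 0x38a) (.leaf 0x146b)) (.node (.leaf 0xfc4)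 (.leaf 0x0)))))) (.node (.node (.node (.node (.node (.leaf 0xc1) (.leaf 0x1527)) (.node (.leaf 0x495) (.leaf 0x1827))) (.node (.node (.leaf 0x4b9) (.leaf 0x11d0)) (.node (.leaf 0x611) (.leaf 0x0)))) (.node (.node (.node (.leaf 0x98b) (.leaf 0xdaf)) (.node (.leaf 0x4e3) (.leaf 0x1ad9))) (.node (.node (.leaf 0x5bf) (.leaf 0x18fe)) (.node (.leaf 0x16ce) (.leaf 0x0))))) (.node (.node (.node (.node (.leaf 0x187) (.leaf 0xe98)) (.node (.leaf 0x72b) (.leaf 0x188e))) (.node (.node (.leaf 0x294) (.leaf 0x10a5)) (.node (.leaf 0x612) (.leaf 0x0)))) (.node (.node (.node (.leaf 0xf62) (.leaf 0x14c3)) (.node (.leaf 0xd89) (.leaf 0x1b18))) (.node (.node (.leaf 0x900) (.leaf 0x1645)) (.node (.leaf 0x16cd) (.leaf 0x0))))))) (.node (.node (.node (.node (.node (.node (.leaf 0x89) (.leaf 0x812)) (.node (.leaf 0xd49) (.leaf 0x180c))) (.node (.node (.leaf 0xbaa) (.leaf 0x1115)) (.node (.leaf 0x788) (.leaf 0x0)))) (.node (.node (.node (.leaf 0xf9b) (.leaf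 0xc6f)) (.node (.leaf 0x819) (.leaf 0x1ae4))) (.node (.node (.leaf 0xbf1) (.leaf 0x157c)) (.node (.leaf 0x758) (.leaf 0x0))))) (.node (.node (.node (.node (.leaf 0x1a4) (.leaf 0x92c)) (.node (.leaf 0x408) (.leaf 0x17eb))) (.node (.node (.leaf 0x564) (.leaf 0x1325)) (.node (.leaf 0x597) (.leaf 0x0)))) (.node (.node (.node (.leaf 0x86d) (.leaf 0x11de)) (.node (.leaf 0x66b) (.leaf 0x1a7f))) (.node (.node (.leaf 0x2fc) (.leaf 0x16e2)) (.node (.leaf 0x15fe) (.leaf 0x0)))))) (.node (.node (.node (.node (.node (.leaf 0x105) (.leaf 0x853)) (.node (.leaf 0x1050) (.leaf 0x1826))) (.node (.node (.leaf 0x7c9) (.leaf 0x1173)) (.node (.leaf 0x1391) (.leaf 0x0)))) (.node (.node (.node (.leaf 0x3e2) (.leaf 0x1271)) (.node (.leaf 0x548) (.leaf 0x19b0))) (.node (.node (.leaf 0xa06) (.leaf 0x156d)) (.node (.leaf 0x16ec) (.leaf 0x0))))) (.node (.node (.node (.node (.leaf 0x1e7) (.leaf 0x1314)) (.node (.leaf 0xd59) (.leaf 0x193c))) (.node (.node (.leaf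 0x7da) (.leaf 0x10ce)) (.node (.leaf 0xdfa) (.leaf 0x0)))) (.node (.node (.node (.leaf 0x978) (.leaf 0x1186)) (.node (.leaf 0x1808) (.leaf 0x1ae9))) (.node (.node (.leaf 0x122b) (.leaf 0x1685)) (.node (.leaf 0x165e) (.leaf 0x0))))))))

/-- Closure. -/
def clo47 : FTree := (.node (.node (.node (.node (.node (.node (.node (.leaf 0x3a) (.leaf 0x1315)) (.node (.leaf 0x496) (.leaf 0x18a7))) (.node (.node (.leaf 0xbc3) (.leaf 0x1253)) (.node (.leaf 0x6bd) (.leaf 0x0)))) (.node (.node (.node (.leaf 0x1963) (.leaf 0x14c2)) (.node (.leaf 0x531) (.leaf 0x1af2))) (.node (.node (.leaf 0x5c3) (.leaf 0x13cf)) (.node (.leaf 0xf24) (.leaf 0x0))))) (.node (.node (.node (.node (.leaf 0x133) (.leaf 0x933)) (.node (.leaf 0xfe4) (.leaf 0x1815))) (.node (.node (.leaf 0x2ac) (.leaf 0x11a8)) (.node (.leaf 0xa48) (.leaf 0x0)))) (.node (.node (.node (.leaf 0xf8e) (.leaf 0xcd0)) (.node (.leaf 0x4fe) (.leaf 0x19da))) (.node (.node (.leaf 0xa0e) (.leaf 0x13f3))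 (.node (.leaf 0xf25) (.leaf 0x0)))))) (.node (.node (.node (.node (.node (.leaf 0xcb) (.leaf 0x7ee)) (.node (.leaf 0x7c5) (.leaf 0x17d2))) (.node (.node (.leaf 0x42c) (.leaf 0x1142)) (.node (.leaf 0x587) (.leaf 0x0)))) (.node (.node (.node (.leaf 0x23d) (.leaf 0xca7)) (.node (.leaf 0xa61) (.leaf 0x1b04))) (.node (.node (.leaf 0x32a) (.leaf 0x1356)) (.node (.leaf 0x1304) (.leaf 0x0))))) (.node (.node (.node (.node (.leaf 0x1f1) (.leaf 0xe8c)) (.node (.leaf 0xd46) (.leaf 0x1803))) (.node (.node (.leaf 0x1154) (.leaf 0x137a)) (.node (.leaf 0x65d) (.leaf 0x0)))) (.node (.node (.node (.leaf 0x8c5) (.leaf 0xe22)) (.node (.leaf 0xec5) (.leaf 0x1a8e))) (.node (.node (.leaf 0x396) (.leaf 0x14cb)) (.node (.leaf 0x15fd) (.leaf 0x0))))))) (.node (.node (.node (.node (.node (.node (.leaf 0x7f) (.leaf 0x964)) (.node (.leaf 0xd39) (.leaf 0x1737))) (.node (.node (.leaf 0x267) (.leaf 0x1209)) (.node (.leaf 0xde9) (.leaf 0x0)))) (.node (.node (.node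 (.leaf 0x8be) (.leaf 0x11d1)) (.node (.leaf 0xa87) (.leaf 0x1a8c))) (.node (.node (.leaf 0x1707) (.leaf 0x15aa)) (.node (.leaf 0x165b) (.leaf 0x0))))) (.node (.node (.node (.node (.leaf 0x19c) (.leaf 0xe66)) (.node (.leaf 0xd0c) (.leaf 0x17de))) (.node (.node (.leaf 0x7de) (.leaf 0x110c)) (.node (.leaf 0x6a9) (.leaf 0x0)))) (.node (.node (.node (.leaf 0x6fa) (.leaf 0xc7e)) (.node (.leaf 0xa52) (.leaf 0x1b53))) (.node (.node (.leaf 0xceb) (.leaf 0x13bd)) (.node (.leaf 0x15ee) (.leaf 0x0)))))) (.node (.node (.node (.node (.node (.leaf 0xfd) (.leaf 0x1068)) (.node (.leaf 0x7b2) (.leaf 0x1836))) (.node (.node (.leaf 0x2b1) (.leaf 0x137b)) (.node (.leaf 0x159b) (.leaf 0x0)))) (.node (.node (.node (.leaf 0x8b9) (.leaf 0x11fb)) (.node (.leaf 0xb88) (.leaf 0x1a9d))) (.node (.node (.leaf 0x7fa) (.leaf 0x147d)) (.node (.leaf 0xf3d) (.leaf 0x0))))) (.node (.node (.node (.node (.leaf 0x0) (.leaf 0x0)) (.node (.leaf 0x0) (.leaf 0x0))) (.node (.node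 (.leaf 0x0) (.leaf 0x0)) (.node (.leaf 0x0) (.leaf 0x0)))) (.node (.node (.node (.leaf 0x0) (.leaf 0x0)) (.node (.leaf 0x0) (.leaf 0x0))) (.node (.node (.leaf 0x0) (.leaf 0x0)) (.node (.leaf 0x0) (.leaf 0x0))))))))

/-- Closure. -/
def clo48 : FTree := (.node (.node (.node (.node (.node (.node (.node (.leaf 0xa) (.leaf 0x91e)) (.node (.leaf 0xd0b) (.leaf 0x18c4))) (.node (.node (.leaf 0x55d) (.leaf 0x1113)) (.node (.leaf 0xdf1) (.leaf 0x0)))) (.node (.node (.node (.leaf 0x6f3) (.leaf 0xead)) (.node (.leaf 0x69a) (.leaf 0x1a24))) (.node (.node (.leaf 0x170c) (.leaf 0x169a)) (.node (.leaf 0x733) (.leaf 0x0))))) (.node (.node (.node (.node (.leaf 0x146) (.leaf 0xe25)) (.node (.leaf 0xfee) (.leaf 0x177b))) (.node (.node (.leaf 0x2be) (.leaf 0x128a)) (.node (.leaf 0xee8) (.leaf 0x0)))) (.node (.node (.node (.leaf 0xf66) (.leaf 0x13ea)) (.node (.leaf 0xa83) (.leaf 0x1b42))) (.node (.node (.leaf 0xcf0) (.leaf 0x13be)) (.node (.leaf 0x167a)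 (.leaf 0x0)))))) (.node (.node (.node (.node (.node (.leaf 0xbb) (.leaf 0x8f3)) (.node (.leaf 0x48a) (.leaf 0x18a9))) (.node (.node (.leaf 0x36a) (.leaf 0x128d)) (.node (.leaf 0xa42) (.leaf 0x0)))) (.node (.node (.node (.leaf 0x9a5) (.leaf 0xdac)) (.node (.leaf 0x529) (.leaf 0x1acb))) (.node (.node (.leaf 0x3a9) (.leaf 0x16ad)) (.node (.leaf 0x751) (.leaf 0x0))))) (.node (.node (.node (.node (.leaf 0x18f) (.leaf 0x903)) (.node (.leaf 0x104f) (.leaf 0x17a2))) (.node (.node (.leaf 0x26f) (.leaf 0x10a1)) (.node (.leaf 0xe02) (.leaf 0x0)))) (.node (.node (.node (.leaf 0x3e3) (.leaf 0x16fb)) (.node (.leaf 0x805) (.leaf 0x1b64))) (.node (.node (.leaf 0x1317) (.leaf 0x148b)) (.node (.leaf 0x12f3) (.leaf 0x0))))))) (.node (.node (.node (.node (.node (.node (.leaf 0x63) (.leaf 0x11a2)) (.node (.leaf 0x966) (.leaf 0x174f))) (.node (.node (.leaf 0x439) (.leaf 0x12d3)) (.node (.leaf 0xed9) (.leaf 0x0)))) (.node (.node (.node (.leaf 0x86b) (.leaf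 0x15ce)) (.node (.leaf 0x51b) (.leaf 0x1a8f))) (.node (.node (.leaf 0x1463) (.leaf 0x143c)) (.node (.leaf 0x166e) (.leaf 0x0))))) (.node (.node (.node (.node (.leaf 0x167) (.leaf 0xe83)) (.node (.leaf 0xd22) (.leaf 0x190b))) (.node (.node (.leaf 0x304) (.leaf 0x1128)) (.node (.leaf 0x61a) (.leaf 0x0)))) (.node (.node (.node (.leaf 0x3ed) (.leaf 0xd8b)) (.node (.leaf 0x515) (.leaf 0x1b3d))) (.node (.node (.leaf 0x49e) (.leaf 0x160c)) (.node (.leaf 0x856) (.leaf 0x0)))))) (.node (.node (.node (.node (.node (.leaf 0xd0) (.leaf 0xa5c)) (.node (.leaf 0x41e) (.leaf 0x1775))) (.node (.node (.leaf 0x2a2) (.leaf 0x121d)) (.node (.leaf 0xeef) (.leaf 0x0)))) (.node (.node (.node (.leaf 0x235) (.leaf 0xccd)) (.node (.leaf 0x1926) (.leaf 0x1a38))) (.node (.node (.leaf 0x38b) (.leaf 0x18fd)) (.node (.leaf 0x70e) (.leaf 0x0))))) (.node (.node (.node (.node (.leaf 0x1b3) (.leaf 0x93d)) (.node (.leaf 0x7b5) (.leaf 0x17e9))) (.node (.node (.leaf 0x1092)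 (.leaf 0x11af)) (.node (.leaf 0x5b7) (.leaf 0x0)))) (.node (.node (.node (.leaf 0x87d) (.leaf 0xcac)) (.node (.leaf 0x4d2) (.leaf 0x1b6a))) (.node (.node (.leaf 0xc05) (.leaf 0x1358)) (.node (.leaf 0x16cc) (.leaf 0x0))))))))

/-- Closure. -/
def clo49 : FTree := (.node (.node (.node (.node (.node (.node (.node (.leaf 0x3e) (.leaf 0xe79)) (.node (.leaf 0x1402) (.leaf 0x184e))) (.node (.node (.leaf 0x29b) (.leaf 0x10c1)) (.node (.leaf 0xc2f) (.leaf 0x0)))) (.node (.node (.node (.leaf 0x881) (.leaf 0xdab)) (.node (.leaf 0x51c) (.leaf 0x1a3b))) (.node (.node (.leaf 0x1127) (.leaf 0x152f)) (.node (.leaf 0xaf0) (.leaf 0x0))))) (.node (.node (.node (.node (.leaf 0x11d) (.leaf 0x907)) (.node (.leaf 0x721) (.leaf 0x1791))) (.node (.node (.leaf 0x278) (.leaf 0x11e3)) (.node (.leaf 0x78f) (.leaf 0x0)))) (.node (.node (.node (.leaf 0xf91) (.leaf 0xcab)) (.node (.leaf 0xa85) (.leaf 0x1aaa))) (.node (.node (.leaf 0x8f6) (.leaf 0x1354)) (.node (.leaf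 0x77c) (.leaf 0x0)))))) (.node (.node (.node (.node (.node (.leaf 0x98) (.leaf 0xaa2)) (.node (.leaf 0x486) (.leaf 0x1850))) (.node (.node (.leaf 0xbc2) (.leaf 0x129f)) (.node (.leaf 0x12b1) (.leaf 0x0)))) (.node (.node (.node (.leaf 0x1957) (.leaf 0x13db)) (.node (.leaf 0x9e4) (.leaf 0x1b50))) (.node (.node (.leaf 0x93a) (.leaf 0x16af)) (.node (.leaf 0x1664) (.leaf 0x0))))) (.node (.node (.node (.node (.leaf 0x1ba) (.leaf 0xe86)) (.node (.leaf 0x448) (.leaf 0x1825))) (.node (.node (.leaf 0x346) (.leaf 0x1237)) (.node (.leaf 0x6ad) (.leaf 0x0)))) (.node (.node (.node (.leaf 0xf9e) (.leaf 0xda8)) (.node (.leaf 0xa4b) (.leaf 0x1ac5))) (.node (.node (.leaf 0x5c1) (.leaf 0x1569)) (.node (.leaf 0xf1c) (.leaf 0x0))))))) (.node (.node (.node (.node (.node (.node (.leaf 0x66) (.leaf 0x937)) (.node (.leaf 0x487) (.leaf 0x1902))) (.node (.node (.leaf 0xbbb) (.leaf 0x1196)) (.node (.leaf 0x6c0) (.leaf 0x0)))) (.node (.node (.node (.leaf 0x195a)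 (.leaf 0xeca)) (.node (.leaf 0x518) (.leaf 0x1a51))) (.node (.node (.leaf 0x501) (.leaf 0x13f5)) (.node (.leaf 0x163f) (.leaf 0x0))))) (.node (.node (.node (.node (.leaf 0x1ab) (.leaf 0x11ad)) (.node (.leaf 0xd27) (.leaf 0x18e0))) (.node (.node (.leaf 0x7e1) (.leaf 0x10e5)) (.node (.leaf 0x624) (.leaf 0x0)))) (.node (.node (.node (.leaf 0x9d1) (.leaf 0x14cf)) (.node (.leaf 0x192b) (.leaf 0x1adb))) (.node (.node (.leaf 0xc0d) (.leaf 0x1536)) (.node (.leaf 0xb53) (.leaf 0x0)))))) (.node (.node (.node (.node (.node (.leaf 0xc8) (.leaf 0x133a)) (.node (.leaf 0xd68) (.leaf 0x1804))) (.node (.node (.leaf 0x8d5) (.leaf 0x132c)) (.node (.leaf 0xa3d) (.leaf 0x0)))) (.node (.node (.node (.leaf 0x984) (.leaf 0x11da)) (.node (.leaf 0x546) (.leaf 0x199f))) (.node (.node (.leaf 0x1709) (.leaf 0x16c5)) (.node (.leaf 0x166a) (.leaf 0x0))))) (.node (.node (.node (.node (.leaf 0x1f5) (.leaf 0x174e)) (.node (.leaf 0x1405) (.leaf 0x1716))) (.node (.node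 (.leaf 0x1084) (.leaf 0x1337)) (.node (.leaf 0x61b) (.leaf 0x0)))) (.node (.node (.node (.leaf 0x6ed) (.leaf 0xc57)) (.node (.leaf 0x667) (.leaf 0x19b7))) (.node (.node (.leaf 0x49d) (.leaf 0x152a)) (.node (.leaf 0x777) (.leaf 0x0))))))))

/-- Closure. -/
def clo50 : FTree := (.node (.node (.node (.node (.node (.node (.node (.leaf 0x22) (.leaf 0x174c)) (.node (.leaf 0x411) (.leaf 0x182a))) (.node (.node (.leaf 0x557) (.leaf 0x1251)) (.node (.leaf 0x1987) (.leaf 0x0)))) (.node (.node (.node (.leaf 0x883) (.leaf 0xe11)) (.node (.leaf 0xa7a) (.leaf 0x1b2c))) (.node (.node (.leaf 0x5a8) (.leaf 0x1366)) (.node (.leaf 0xf31) (.leaf 0x0))))) (.node (.node (.node (.node (.leaf 0x111) (.leaf 0x7db)) (.node (.leaf 0x1413) (.leaf 0x1938))) (.node (.node (.leaf 0x422) (.leaf 0x1492)) (.node (.leaf 0x929) (.leaf 0x0)))) (.node (.node (.node (.leaf 0x6df) (.leaf 0xc70)) (.node (.leaf 0xeaf) (.leaf 0x19b6))) (.node (.node (.leaf 0xbf2) (.leaf 0x14f3))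 (.node (.leaf 0x1673) (.leaf 0x0)))))) (.node (.node (.node (.node (.node (.leaf 0xab) (.leaf 0x843)) (.node (.leaf 0x102d) (.leaf 0x1829))) (.node (.node (.leaf 0x25e) (.leaf 0x1024)) (.node (.leaf 0x185c) (.leaf 0x0)))) (.node (.node (.node (.leaf 0x209) (.leaf 0xdf5)) (.node (.leaf 0xeae) (.leaf 0x1981))) (.node (.node (.leaf 0x5cc) (.leaf 0x15ba)) (.node (.leaf 0xade) (.leaf 0x0))))) (.node (.node (.node (.node (.leaf 0x1d7) (.leaf 0xc3f)) (.node (.leaf 0x7b3) (.leaf 0x17c1))) (.node (.node (.leaf 0x286) (.leaf 0x113f)) (.node (.leaf 0x60a) (.leaf 0x0)))) (.node (.node (.node (.leaf 0x250) (.leaf 0xe07)) (.node (.leaf 0x1561) (.leaf 0x19fc))) (.node (.node (.leaf 0x111d) (.leaf 0x13e0)) (.node (.leaf 0xfca) (.leaf 0x0))))))) (.node (.node (.node (.node (.node (.node (.leaf 0x49) (.leaf 0xa50)) (.node (.leaf 0xb0f) (.leaf 0x17ef))) (.node (.node (.leaf 0x1968) (.leaf 0x1255)) (.node (.leaf 0x5c6) (.leaf 0x0)))) (.node (.node (.node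 (.leaf 0x225) (.leaf 0xc59)) (.node (.leaf 0x9eb) (.leaf 0x1b08))) (.node (.node (.leaf 0x35e) (.leaf 0x1512)) (.node (.leaf 0x1305) (.leaf 0x0))))) (.node (.node (.node (.node (.leaf 0x15b) (.leaf 0xc3c)) (.node (.leaf 0xd5a) (.leaf 0x17bf))) (.node (.node (.leaf 0x375) (.leaf 0x113e)) (.node (.leaf 0x129b) (.leaf 0x0)))) (.node (.node (.node (.leaf 0x98a) (.leaf 0xe0e)) (.node (.leaf 0x15a3) (.leaf 0x1a5c))) (.node (.node (.leaf 0xcf2) (.leaf 0x14e5)) (.node (.leaf 0x73c) (.leaf 0x0)))))) (.node (.node (.node (.node (.node (.leaf 0x11c) (.leaf 0xaba)) (.node (.leaf 0x424) (.leaf 0x1743))) (.node (.node (.leaf 0x4c7) (.leaf 0x1499)) (.node (.leaf 0xddd) (.leaf 0x0)))) (.node (.node (.node (.leaf 0x87b) (.leaf 0xdd3)) (.node (.leaf 0x1555) (.leaf 0x19e2))) (.node (.node (.leaf 0x134e) (.leaf 0x1468)) (.node (.leaf 0x772) (.leaf 0x0))))) (.node (.node (.node (.node (.leaf 0x1ed) (.leaf 0xc45)) (.node (.leaf 0xfea) (.leaf 0x189e))) (.node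 (.node (.leaf 0x8d9) (.leaf 0x137e)) (.node (.leaf 0xa2f) (.leaf 0x0)))) (.node (.node (.node (.leaf 0x9a0) (.leaf 0xc79)) (.node (.leaf 0x1800) (.leaf 0x1b54))) (.node (.node (.leaf 0x170b) (.leaf 0x16a0)) (.node (.leaf 0xfc9) (.leaf 0x0))))))))

/-- Closure. -/
def clo51 : FTree := (.node (.node (.node (.node (.node (.node (.node (.leaf 0x32) (.leaf 0x845)) (.node (.leaf 0x476) (.leaf 0x1754))) (.node (.node (.leaf 0x7d2) (.leaf 0x10dd)) (.node (.leaf 0x5b9) (.leaf 0x0)))) (.node (.node (.node (.leaf 0x9ba) (.leaf 0xe70)) (.node (.leaf 0x155c) (.leaf 0x1a54))) (.node (.node (.leaf 0xbfb) (.leaf 0x14c6)) (.node (.leaf 0x742) (.leaf 0x0))))) (.node (.node (.node (.node (.leaf 0x12c) (.leaf 0x911)) (.node (.leaf 0x484) (.leaf 0x187b))) (.node (.node (.leaf 0xba3) (.leaf 0x1283)) (.node (.leaf 0x18a0) (.leaf 0x0)))) (.node (.node (.node (.leaf 0x409) (.leaf 0x16fe)) (.node (.leaf 0x119c) (.leaf 0x1af3))) (.node (.node (.leaf 0xcc6) (.leaf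 0x147a)) (.node (.leaf 0x16e6) (.leaf 0x0)))))) (.node (.node (.node (.node (.node (.leaf 0xa2) (.leaf 0xa21)) (.node (.leaf 0x71d) (.leaf 0x1876))) (.node (.node (.leaf 0x30b) (.leaf 0x1291)) (.node (.leaf 0x580) (.leaf 0x0)))) (.node (.node (.node (.leaf 0x3c6) (.leaf 0xd81)) (.node (.leaf 0xb85) (.leaf 0x1a7e))) (.node (.node (.leaf 0x2ee) (.leaf 0x15e2)) (.node (.leaf 0xf05) (.leaf 0x0))))) (.node (.node (.node (.node (.leaf 0x19d) (.leaf 0x79f)) (.node (.leaf 0x105c) (.leaf 0x1912))) (.node (.node (.leaf 0x7ce) (.leaf 0x117a)) (.node (.leaf 0x615) (.leaf 0x0)))) (.node (.node (.node (.leaf 0x3dc) (.leaf 0xde8)) (.node (.leaf 0x15a1) (.leaf 0x1a09))) (.node (.node (.leaf 0x1703) (.leaf 0x1438)) (.node (.leaf 0x16f3) (.leaf 0x0))))))) (.node (.node (.node (.node (.node (.node (.leaf 0x76) (.leaf 0x158d)) (.node (.leaf 0x43b) (.leaf 0x191a))) (.node (.node (.leaf 0x4c0) (.leaf 0x11c8)) (.node (.leaf 0x5ed) (.leaf 0x0)))) (.node (.node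 (.node (.leaf 0x86c) (.leaf 0xd77)) (.node (.leaf 0x517) (.leaf 0x1a17))) (.node (.node (.leaf 0x465) (.leaf 0x18db)) (.node (.leaf 0x15f9) (.leaf 0x0))))) (.node (.node (.node (.node (.leaf 0x188) (.leaf 0xa9d)) (.node (.leaf 0xd38) (.leaf 0x18a6))) (.node (.node (.leaf 0x1165) (.leaf 0x1146)) (.node (.leaf 0x914) (.leaf 0x0)))) (.node (.node (.node (.leaf 0x3fa) (.leaf 0xca4)) (.node (.leaf 0x4e9) (.leaf 0x19e7))) (.node (.node (.leaf 0x111f) (.leaf 0x14fb)) (.node (.leaf 0x1658) (.leaf 0x0)))))) (.node (.node (.node (.node (.node (.leaf 0xe7) (.leaf 0xa66)) (.node (.leaf 0xd12) (.leaf 0x172f))) (.node (.node (.leaf 0x2cb) (.leaf 0x117d)) (.node (.leaf 0x698) (.leaf 0x0)))) (.node (.node (.node (.leaf 0x891) (.leaf 0xc58)) (.node (.leaf 0x51f) (.leaf 0x1a2e))) (.node (.node (.leaf 0xcf7) (.leaf 0x160f)) (.node (.leaf 0x779) (.leaf 0x0))))) (.node (.node (.node (.node (.leaf 0x0) (.leaf 0x0)) (.node (.leaf 0x0) (.leaf 0x0))) (.node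 (.node (.leaf 0x0) (.leaf 0x0)) (.node (.leaf 0x0) (.leaf 0x0)))) (.node (.node (.node (.leaf 0x0) (.leaf 0x0)) (.node (.leaf 0x0) (.leaf 0x0))) (.node (.node (.leaf 0x0) (.leaf 0x0)) (.node (.leaf 0x0) (.leaf 0x0))))))))

/-- Closure. -/
def clo52 : FTree := (.node (.node (.node (.node (.node (.node (.node (.leaf 0x14) (.leaf 0xb3c)) (.node (.leaf 0x1416) (.leaf 0x180e))) (.node (.node (.leaf 0x28f) (.leaf 0x10f6)) (.node (.leaf 0x1865) (.leaf 0x0)))) (.node (.node (.node (.leaf 0xf80) (.leaf 0xecb)) (.node (.leaf 0x119e) (.leaf 0x1a72))) (.node (.node (.leaf 0xcb9) (.leaf 0x1631)) (.node (.leaf 0x754) (.leaf 0x0))))) (.node (.node (.node (.node (.leaf 0x104) (.leaf 0x81f)) (.node (.leaf 0x40f) (.leaf 0x18ee))) (.node (.node (.leaf 0x1085) (.leaf 0x118e)) (.node (.leaf 0x59b) (.leaf 0x0)))) (.node (.node (.node (.leaf 0x884) (.leaf 0x150a)) (.node (.leaf 0xd84) (.leaf 0x1b6b))) (.node (.node (.leaf 0x31b) (.leaf 0x15c0)) (.node (.leaf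 0xb3f) (.leaf 0x0)))))) (.node (.node (.node (.node (.node (.leaf 0x8b) (.leaf 0xb27)) (.node (.leaf 0x497) (.leaf 0x1779))) (.node (.node (.leaf 0x4ae) (.leaf 0x137f)) (.node (.leaf 0xdf0) (.leaf 0x0)))) (.node (.node (.node (.leaf 0x9a4) (.leaf 0xe19)) (.node (.leaf 0xa5f) (.leaf 0x1b5d))) (.node (.node (.leaf 0x3aa) (.leaf 0x1470)) (.node (.leaf 0x16ea) (.leaf 0x0))))) (.node (.node (.node (.node (.leaf 0x1cc) (.leaf 0xa2a)) (.node (.leaf 0xd2c) (.leaf 0x1856))) (.node (.node (.leaf 0x566) (.leaf 0x12d2)) (.node (.leaf 0x655) (.leaf 0x0)))) (.node (.node (.node (.leaf 0x8af) (.leaf 0xe6a)) (.node (.leaf 0xa88) (.leaf 0x19f7))) (.node (.node (.leaf 0x7fe) (.leaf 0x13c8)) (.node (.leaf 0xf01) (.leaf 0x0))))))) (.node (.node (.node (.node (.node (.node (.leaf 0x36) (.leaf 0x152c)) (.node (.leaf 0x47e) (.leaf 0x18ea))) (.node (.node (.leaf 0x369) (.leaf 0x1288)) (.node (.leaf 0x6a8) (.leaf 0x0)))) (.node (.node (.node (.leaf 0x993) (.leaf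 0xc55)) (.node (.leaf 0x6b8) (.leaf 0x1aab))) (.node (.node (.leaf 0xa07) (.leaf 0x143b)) (.node (.leaf 0x757) (.leaf 0x0))))) (.node (.node (.node (.node (.leaf 0x1c9) (.leaf 0x832)) (.node (.leaf 0x7b4) (.leaf 0x1772))) (.node (.node (.leaf 0x109b) (.leaf 0x11ed)) (.node (.leaf 0xc34) (.leaf 0x0)))) (.node (.node (.node (.leaf 0x8ae) (.leaf 0x1187)) (.node (.leaf 0xe57) (.leaf 0x198d))) (.node (.node (.leaf 0x334) (.leaf 0x162d)) (.node (.leaf 0x768) (.leaf 0x0)))))) (.node (.node (.node (.node (.node (.leaf 0xb3) (.leaf 0x13d6)) (.node (.leaf 0x469) (.leaf 0x1901))) (.node (.node (.leaf 0x25f) (.leaf 0x12c0)) (.node (.leaf 0x6a6) (.leaf 0x0)))) (.node (.node (.node (.leaf 0x259) (.leaf 0x13ed)) (.node (.leaf 0x503) (.leaf 0x1b03))) (.node (.node (.leaf 0xcec) (.leaf 0x1347)) (.node (.leaf 0xefb) (.leaf 0x0))))) (.node (.node (.node (.node (.leaf 0x1d5) (.leaf 0xabc)) (.node (.leaf 0x7b6) (.leaf 0x18a2))) (.node (.node (.leaf 0x2cd)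 (.leaf 0x1375)) (.node (.leaf 0x627) (.leaf 0x0)))) (.node (.node (.node (.leaf 0x8c2) (.leaf 0xe81)) (.node (.leaf 0xd8e) (.leaf 0x1b32))) (.node (.node (.leaf 0xbff) (.leaf 0x1613)) (.node (.leaf 0xf33) (.leaf 0x0))))))))

/-- Closure. -/
def clo53 : FTree := (.node (.node (.node (.node (.node (.node (.node (.leaf 0x2e) (.leaf 0x1719)) (.node (.leaf 0x473) (.leaf 0x1942))) (.node (.node (.leaf 0x37f) (.leaf 0x11b6)) (.node (.leaf 0xdd4) (.leaf 0x0)))) (.node (.node (.node (.leaf 0x994) (.leaf 0xca5)) (.node (.leaf 0x1807) (.leaf 0x1a1d))) (.node (.node (.leaf 0x134d) (.leaf 0x1346)) (.node (.leaf 0x748) (.leaf 0x0))))) (.node (.node (.node (.node (.leaf 0x147) (.leaf 0x11a7)) (.node (.leaf 0xd1b) (.leaf 0x175a))) (.node (.node (.leaf 0x1155) (.leaf 0x14a3)) (.node (.leaf 0x608) (.leaf 0x0)))) (.node (.node (.node (.leaf 0x6e8) (.leaf 0x14b7)) (.node (.leaf 0xa8d) (.leaf 0x19a9))) (.node (.node (.leaf 0xc0a) (.leaf 0x156f)) (.node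 (.leaf 0x165a) (.leaf 0x0)))))) (.node (.node (.node (.node (.node (.leaf 0xb9) (.leaf 0xe91)) (.node (.leaf 0x959) (.leaf 0x1728))) (.node (.node (.leaf 0x1157) (.leaf 0x129a)) (.node (.leaf 0xc30) (.leaf 0x0)))) (.node (.node (.node (.leaf 0x874) (.leaf 0xe95)) (.node (.leaf 0x1624) (.leaf 0x19ed))) (.node (.node (.leaf 0x1126) (.leaf 0x1367)) (.node (.leaf 0x1661) (.leaf 0x0))))) (.node (.node (.node (.node (.leaf 0x195) (.leaf 0xfb1)) (.node (.leaf 0x46f) (.leaf 0x18f5))) (.node (.node (.leaf 0x266) (.leaf 0x10a4)) (.node (.leaf 0x792) (.leaf 0x0)))) (.node (.node (.node (.leaf 0x403) (.leaf 0xe14)) (.node (.leaf 0x192e) (.leaf 0x1b43))) (.node (.node (.leaf 0xbfc) (.leaf 0x13b4)) (.node (.leaf 0xae3) (.leaf 0x0))))))) (.node (.node (.node (.node (.node (.node (.leaf 0x6c) (.leaf 0x865)) (.node (.leaf 0xb0d) (.leaf 0x18bf))) (.node (.node (.leaf 0x2ba) (.leaf 0x12db)) (.node (.leaf 0x138c) (.leaf 0x0)))) (.node (.node (.node (.leaf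 0x1964) (.leaf 0xe89)) (.node (.leaf 0xa79) (.leaf 0x1b5c))) (.node (.node (.leaf 0x11fd) (.leaf 0x1616)) (.node (.leaf 0xf2b) (.leaf 0x0))))) (.node (.node (.node (.node (.leaf 0x100) (.leaf 0x93f)) (.node (.leaf 0xd15) (.leaf 0x17f8))) (.node (.node (.leaf 0x571) (.leaf 0x11c7)) (.node (.leaf 0x68d) (.leaf 0x0)))) (.node (.node (.node (.leaf 0x6e0) (.leaf 0xe88)) (.node (.leaf 0x64c) (.leaf 0x1abe))) (.node (.node (.leaf 0x1203) (.leaf 0x13c4)) (.node (.leaf 0xae9) (.leaf 0x0)))))) (.node (.node (.node (.node (.node (.leaf 0xce) (.leaf 0xc3e)) (.node (.leaf 0x1001) (.leaf 0x1785))) (.node (.node (.leaf 0x350) (.leaf 0x11f2)) (.node (.leaf 0xa40) (.leaf 0x0)))) (.node (.node (.node (.leaf 0xf56) (.leaf 0xc7c)) (.node (.leaf 0x538) (.leaf 0x1b44))) (.node (.node (.leaf 0xa13) (.leaf 0x14c7)) (.node (.leaf 0x15f2) (.leaf 0x0))))) (.node (.node (.node (.node (.leaf 0x1fc) (.leaf 0xce1)) (.node (.leaf 0x103b) (.leaf 0x18f4))) (.node (.node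 (.leaf 0x1169) (.leaf 0x1150)) (.node (.leaf 0x14ed) (.leaf 0x0)))) (.node (.node (.node (.leaf 0xf76) (.leaf 0x15cb)) (.node (.leaf 0xe58) (.leaf 0x1a70))) (.node (.node (.leaf 0xdc3) (.leaf 0x143f)) (.node (.leaf 0xb70) (.leaf 0x0))))))))

/-- Closure. -/
def clo54 : FTree := (.node (.node (.node (.node (.node (.node (.node (.leaf 0x29) (.leaf 0xa23)) (.node (.leaf 0xd06) (.leaf 0x1895))) (.node (.node (.leaf 0x7d5) (.leaf 0x10af)) (.node (.leaf 0x151d) (.leaf 0x0)))) (.node (.node (.node (.leaf 0x6dd) (.leaf 0xdb1)) (.node (.leaf 0x4c2) (.leaf 0x1a00))) (.node (.node (.leaf 0x134a) (.leaf 0x1574)) (.node (.leaf 0x75e) (.leaf 0x0))))) (.node (.node (.node (.node (.leaf 0x12d) (.leaf 0x849)) (.node (.leaf 0x7be) (.leaf 0x190a))) (.node (.node (.leaf 0x298) (.leaf 0x10f5)) (.node (.leaf 0x650) (.leaf 0x0)))) (.node (.node (.node (.leaf 0x8b2) (.leaf 0xd99)) (.node (.leaf 0x1623) (.leaf 0x19c0))) (.node (.node (.leaf 0x54e) (.leaf 0x15b7))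 (.node (.leaf 0x16ed) (.leaf 0x0)))))) (.node (.node (.node (.node (.node (.leaf 0xb0) (.leaf 0x102a)) (.node (.leaf 0x426) (.leaf 0x18eb))) (.node (.node (.leaf 0x107b) (.leaf 0x12b5)) (.node (.leaf 0x14f0) (.leaf 0x0)))) (.node (.node (.node (.leaf 0x222) (.leaf 0x11dc)) (.node (.leaf 0x4c5) (.leaf 0x1a22))) (.node (.node (.leaf 0x145d) (.leaf 0x146a)) (.node (.leaf 0xf03) (.leaf 0x0))))) (.node (.node (.node (.node (.leaf 0x153) (.leaf 0x83e)) (.node (.leaf 0xd0e) (.leaf 0x1953))) (.node (.node (.leaf 0x56e) (.leaf 0x11c2)) (.node (.leaf 0xa47) (.leaf 0x0)))) (.node (.node (.node (.leaf 0x6d6) (.leaf 0xe20)) (.node (.leaf 0x1627) (.leaf 0x1b51))) (.node (.node (.leaf 0xa10) (.leaf 0x169f)) (.node (.leaf 0xadc) (.leaf 0x0))))))) (.node (.node (.node (.node (.node (.node (.leaf 0x7c) (.leaf 0x130f)) (.node (.leaf 0x142d) (.leaf 0x184c))) (.node (.node (.leaf 0x299) (.leaf 0x10fb)) (.node (.leaf 0x1599) (.leaf 0x0)))) (.node (.node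 (.node (.leaf 0xf90) (.leaf 0xf43)) (.node (.leaf 0x535) (.leaf 0x1a4c))) (.node (.node (.leaf 0x1123) (.leaf 0x16b1)) (.node (.leaf 0x16c8) (.leaf 0x0))))) (.node (.node (.node (.node (.leaf 0x160) (.leaf 0xcdb)) (.node (.leaf 0x407) (.leaf 0x17db))) (.node (.node (.leaf 0x1088) (.leaf 0x118b)) (.node (.leaf 0x5ad) (.leaf 0x0)))) (.node (.node (.node (.leaf 0x879) (.leaf 0xcda)) (.node (.leaf 0xb90) (.leaf 0x1aaf))) (.node (.node (.leaf 0x591) (.leaf 0x13c0)) (.node (.leaf 0xb43) (.leaf 0x0)))))) (.node (.node (.node (.node (.node (.leaf 0xc4) (.leaf 0xe8d)) (.node (.leaf 0x7ad) (.leaf 0x18ae))) (.node (.node (.leaf 0x41b) (.leaf 0x1015)) (.node (.leaf 0x55e) (.leaf 0x0)))) (.node (.node (.node (.leaf 0x21c) (.leaf 0xc06)) (.node (.leaf 0x4ec) (.leaf 0x1a8a))) (.node (.node (.leaf 0x358) (.leaf 0x131a)) (.node (.leaf 0x707) (.leaf 0x0))))) (.node (.node (.node (.node (.leaf 0x1e5) (.leaf 0x8cc)) (.node (.leaf 0x70f) (.leaf 0x17b5)))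 (.node (.node (.leaf 0x1081) (.leaf 0x1382)) (.node (.leaf 0x1477) (.leaf 0x0)))) (.node (.node (.node (.leaf 0x6f8) (.leaf 0xda6)) (.node (.leaf 0x1929) (.leaf 0x198f))) (.node (.node (.leaf 0x4d7) (.leaf 0x13e6)) (.node (.leaf 0x761) (.leaf 0x0))))))))

/-- Closure. -/
def clo55 : FTree := (.node (.node (.node (.node (.node (.node (.node (.leaf 0x38) (.leaf 0xb34)) (.node (.leaf 0x48f) (.leaf 0x18e1))) (.node (.node (.leaf 0x2b4) (.leaf 0x12ac)) (.node (.leaf 0x689) (.leaf 0x0)))) (.node (.node (.node (.leaf 0x195c) (.leaf 0xea2)) (.node (.leaf 0x4f4) (.leaf 0x1ae7))) (.node (.node (.leaf 0xdbe) (.leaf 0x1566)) (.node (.leaf 0xf07) (.leaf 0x0))))) (.node (.node (.node (.node (.leaf 0x158) (.leaf 0x906)) (.node (.leaf 0xd2d) (.leaf 0x1885))) (.node (.node (.leaf 0x1163) (.leaf 0x10aa)) (.node (.leaf 0x634) (.leaf 0x0)))) (.node (.node (.node (.leaf 0x8a8) (.leaf 0xc8c)) (.node (.leaf 0x80d) (.leaf 0x19c3))) (.node (.node (.leaf 0x5d2)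 (.leaf 0x145f)) (.node (.leaf 0xae5) (.leaf 0x0)))))) (.node (.node (.node (.node (.node (.leaf 0xc9) (.leaf 0xe2c)) (.node (.leaf 0x141e) (.leaf 0x1951))) (.node (.node (.leaf 0xbb4) (.leaf 0x1250)) (.node (.leaf 0x18a1) (.leaf 0x0)))) (.node (.node (.node (.leaf 0x9b4) (.leaf 0xd14)) (.node (.leaf 0xa78) (.leaf 0x1ada))) (.node (.node (.leaf 0x7f6) (.leaf 0x16ac)) (.node (.leaf 0xb6e) (.leaf 0x0))))) (.node (.node (.node (.node (.leaf 0x1e8) (.leaf 0xbdf)) (.node (.leaf 0xd1e) (.leaf 0x18f8))) (.node (.node (.leaf 0x4b8) (.leaf 0x10ec)) (.node (.leaf 0x14ea) (.leaf 0x0)))) (.node (.node (.node (.leaf 0x8c4) (.leaf 0xd3d)) (.node (.leaf 0xd83) (.leaf 0x1a89))) (.node (.node (.leaf 0xdc2) (.leaf 0x14fc)) (.node (.leaf 0xafb) (.leaf 0x0))))))) (.node (.node (.node (.node (.node (.node (.leaf 0xb1) (.leaf 0xb29)) (.node (.leaf 0x1429) (.leaf 0x1921))) (.node (.node (.leaf 0x341) (.leaf 0x1178)) (.node (.leaf 0x65b) (.leaf 0x0)))) (.node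 (.node (.node (.leaf 0x9ce) (.leaf 0xd7b)) (.node (.leaf 0xb7d) (.leaf 0x1ae0))) (.node (.node (.leaf 0x2f8) (.leaf 0x16a7)) (.node (.leaf 0xf37) (.leaf 0x0))))) (.node (.node (.node (.node (.leaf 0x138) (.leaf 0x84c)) (.node (.leaf 0x714) (.leaf 0x1798))) (.node (.node (.leaf 0x1090) (.leaf 0x1384)) (.node (.leaf 0x61f) (.leaf 0x0)))) (.node (.node (.node (.leaf 0x6ef) (.leaf 0xe78)) (.node (.leaf 0x161e) (.leaf 0x1994))) (.node (.node (.leaf 0x112b) (.leaf 0x1578)) (.node (.leaf 0x766) (.leaf 0x0)))))) (.node (.node (.node (.node (.node (.leaf 0x11f) (.leaf 0x821)) (.node (.leaf 0xb05) (.leaf 0x17ae))) (.node (.node (.leaf 0x287) (.leaf 0x116d)) (.node (.leaf 0xded) (.leaf 0x0)))) (.node (.node (.node (.leaf 0x9d2) (.leaf 0xea3)) (.node (.leaf 0xb4e) (.leaf 0x1b52))) (.node (.node (.leaf 0x1348) (.leaf 0x1683)) (.node (.leaf 0x1660) (.leaf 0x0))))) (.node (.node (.node (.node (.leaf 0x0) (.leaf 0x0)) (.node (.leaf 0x0) (.leaf 0x0)))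 (.node (.node (.leaf 0x0) (.leaf 0x0)) (.node (.leaf 0x0) (.leaf 0x0)))) (.node (.node (.node (.leaf 0x0) (.leaf 0x0)) (.node (.leaf 0x0) (.leaf 0x0))) (.node (.node (.leaf 0x0) (.leaf 0x0)) (.node (.leaf 0x0) (.leaf 0x0))))))))

/-- Closure. -/
def clo56 : FTree := (.node (.node (.node (.node (.node (.node (.node (.leaf 0xf) (.leaf 0xfb2)) (.node (.leaf 0xd6c) (.leaf 0x1904))) (.node (.node (.leaf 0x27b) (.leaf 0x1276)) (.node (.leaf 0x5e8) (.leaf 0x0)))) (.node (.node (.node (.leaf 0x98e) (.leaf 0xe01)) (.node (.leaf 0x156a) (.leaf 0x1b5f))) (.node (.node (.leaf 0xc0f) (.leaf 0x14b3)) (.node (.leaf 0xb59) (.leaf 0x0))))) (.node (.node (.node (.node (.leaf 0x103) (.leaf 0x909)) (.node (.leaf 0x100d) (.leaf 0x18cb))) (.node (.node (.leaf 0x2cf) (.leaf 0x1190)) (.node (.leaf 0x5ec) (.leaf 0x0)))) (.node (.node (.node (.leaf 0x9ab) (.leaf 0x1267)) (.node (.leaf 0x547) (.leaf 0x1a58))) (.node (.node (.leaf 0xa0c) (.leaf 0x1531)) (.node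 (.leaf 0x735) (.leaf 0x0)))))) (.node (.node (.node (.node (.node (.leaf 0x86) (.leaf 0x13d5)) (.node (.leaf 0x472) (.leaf 0x1874))) (.node (.node (.leaf 0x7e7) (.leaf 0x10f2)) (.node (.leaf 0x614) (.leaf 0x0)))) (.node (.node (.node (.leaf 0x24b) (.leaf 0xcb3)) (.node (.leaf 0x4f6) (.leaf 0x19ec))) (.node (.node (.leaf 0x1758) (.leaf 0x15d8)) (.node (.leaf 0x852) (.leaf 0x0))))) (.node (.node (.node (.node (.leaf 0x1de) (.leaf 0x1021)) (.node (.leaf 0x7bb) (.leaf 0x17f1))) (.node (.node (.leaf 0x293) (.leaf 0x1111)) (.node (.leaf 0xc2d) (.leaf 0x0)))) (.node (.node (.node (.leaf 0x8a2) (.leaf 0xe13)) (.node (.leaf 0x512) (.leaf 0x1a60))) (.node (.node (.leaf 0x4a4) (.leaf 0x16b6)) (.node (.leaf 0x16e8) (.leaf 0x0))))))) (.node (.node (.node (.node (.node (.node (.leaf 0x52) (.leaf 0x8cb)) (.node (.leaf 0x71b) (.leaf 0x17da))) (.node (.node (.leaf 0x271) (.leaf 0x11a9)) (.node (.leaf 0x5db) (.leaf 0x0)))) (.node (.node (.node (.leaf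 0xf96) (.leaf 0xcad)) (.node (.leaf 0xb7e) (.leaf 0x1b02))) (.node (.node (.leaf 0x8f5) (.leaf 0x13b5)) (.node (.leaf 0x16c6) (.leaf 0x0))))) (.node (.node (.node (.node (.leaf 0x16a) (.leaf 0x970)) (.node (.leaf 0xd6e) (.leaf 0x17f5))) (.node (.node (.leaf 0x33b) (.leaf 0x10e3)) (.node (.leaf 0x12a7) (.leaf 0x0)))) (.node (.node (.node (.leaf 0xf75) (.leaf 0xe15)) (.node (.leaf 0xa7b) (.leaf 0x1b26))) (.node (.node (.leaf 0xcf4) (.leaf 0x16bf)) (.node (.leaf 0x759) (.leaf 0x0)))))) (.node (.node (.node (.node (.node (.leaf 0xf4) (.leaf 0x813)) (.node (.leaf 0xd2f) (.leaf 0x175e))) (.node (.node (.leaf 0xbb7) (.leaf 0x14a0)) (.node (.leaf 0x923) (.leaf 0x0)))) (.node (.node (.node (.leaf 0xf81) (.leaf 0xe5a)) (.node (.leaf 0x15a7) (.leaf 0x1b0e))) (.node (.node (.leaf 0xbee) (.leaf 0x16a9)) (.node (.leaf 0x16d8) (.leaf 0x0))))) (.node (.node (.node (.node (.leaf 0x18d) (.leaf 0x82e)) (.node (.leaf 0xd3a) (.leaf 0x18cf))) (.node (.node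 (.leaf 0x34c) (.leaf 0x11b9)) (.node (.leaf 0x67c) (.leaf 0x0)))) (.node (.node (.node (.leaf 0xf9a) (.leaf 0xed1)) (.node (.leaf 0x695) (.leaf 0x1a66))) (.node (.node (.leaf 0x5f7) (.leaf 0x1435)) (.node (.leaf 0x77d) (.leaf 0x0))))))))

/-- Closure. -/
def clo57 : FTree := (.node (.node (.node (.node (.node (.node (.node (.leaf 0x23) (.leaf 0x919)) (.node (.leaf 0x142a) (.leaf 0x18ac))) (.node (.node (.leaf 0xbd3) (.leaf 0x10ac)) (.node (.leaf 0x692) (.leaf 0x0)))) (.node (.node (.node (.leaf 0xfa0) (.leaf 0x1280)) (.node (.leaf 0x80b) (.leaf 0x1ae5))) (.node (.node (.leaf 0x322) (.leaf 0x13e3)) (.node (.leaf 0x12fc) (.leaf 0x0))))) (.node (.node (.node (.node (.leaf 0x121) (.leaf 0x934)) (.node (.leaf 0x7b8) (.leaf 0x17ba))) (.node (.node (.leaf 0x279) (.leaf 0x113d)) (.node (.leaf 0x15d0) (.leaf 0x0)))) (.node (.node (.node (.leaf 0x253) (.leaf 0x127f)) (.node (.leaf 0x1550) (.leaf 0x1989))) (.node (.node (.leaf 0x32e) (.leaf 0x1581))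 (.node (.leaf 0xfd4) (.leaf 0x0)))))) (.node (.node (.node (.node (.node (.leaf 0x9a) (.leaf 0x171c)) (.node (.leaf 0x1035) (.leaf 0x1915))) (.node (.node (.leaf 0x33f) (.leaf 0x10e7)) (.node (.leaf 0x1388) (.leaf 0x0)))) (.node (.node (.node (.leaf 0xf7e) (.leaf 0x1433)) (.node (.leaf 0x1626) (.leaf 0x198b))) (.node (.node (.leaf 0x35b) (.leaf 0x14b8)) (.node (.leaf 0x771) (.leaf 0x0))))) (.node (.node (.node (.node (.leaf 0x1c6) (.leaf 0xab6)) (.node (.leaf 0x1034) (.leaf 0x182e))) (.node (.node (.leaf 0x8e7) (.leaf 0x1374)) (.node (.leaf 0x5f1) (.leaf 0x0)))) (.node (.node (.node (.leaf 0x6d9) (.leaf 0x16f4)) (.node (.leaf 0xa82) (.leaf 0x19e3))) (.node (.node (.leaf 0xc07) (.leaf 0x16b8)) (.node (.leaf 0x765) (.leaf 0x0))))))) (.node (.node (.node (.node (.node (.node (.leaf 0x82) (.leaf 0x96c)) (.node (.leaf 0xd74) (.leaf 0x1881))) (.node (.node (.leaf 0x8d4) (.leaf 0x10b4)) (.node (.leaf 0xed5) (.leaf 0x0)))) (.node (.node (.node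 (.leaf 0x9bc) (.leaf 0xc90)) (.node (.leaf 0xb7f) (.leaf 0x199e))) (.node (.node (.leaf 0x93c) (.leaf 0x151e)) (.node (.leaf 0x16df) (.leaf 0x0))))) (.node (.node (.node (.node (.leaf 0x181) (.leaf 0x829)) (.node (.leaf 0x40d) (.leaf 0x1763))) (.node (.node (.leaf 0x26c) (.leaf 0x1295)) (.node (.leaf 0xad5) (.leaf 0x0)))) (.node (.node (.node (.leaf 0x3cd) (.leaf 0xc81)) (.node (.leaf 0x1551) (.leaf 0x1992))) (.node (.node (.leaf 0x35c) (.leaf 0x1688)) (.node (.leaf 0xfbb) (.leaf 0x0)))))) (.node (.node (.node (.node (.node (.leaf 0x13d) (.leaf 0xc47)) (.node (.leaf 0x1060) (.leaf 0x184d))) (.node (.node (.leaf 0xbbf) (.leaf 0x137d)) (.node (.leaf 0x660) (.leaf 0x0)))) (.node (.node (.node (.leaf 0xf95) (.leaf 0xe0a)) (.node (.leaf 0x537) (.leaf 0x1aea))) (.node (.node (.leaf 0x556) (.leaf 0x13d9)) (.node (.leaf 0x16c7) (.leaf 0x0))))) (.node (.node (.node (.node (.leaf 0x1e0) (.leaf 0xafc)) (.node (.leaf 0x452) (.leaf 0x17cd))) (.node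 (.node (.leaf 0x562) (.leaf 0x110e)) (.node (.leaf 0xde1) (.leaf 0x0)))) (.node (.node (.node (.leaf 0xf53) (.leaf 0x13f0)) (.node (.leaf 0xd92) (.leaf 0x1a76))) (.node (.node (.leaf 0x1700) (.leaf 0x163a)) (.node (.leaf 0xb61) (.leaf 0x0))))))))

/-- Closure. -/
def clo58 : FTree := (.node (.node (.node (.node (.node (.node (.node (.leaf 0x26) (.leaf 0xfb0)) (.node (.leaf 0xd73) (.leaf 0x178a))) (.node (.node (.leaf 0x2b7) (.leaf 0x11aa)) (.node (.leaf 0xeeb) (.leaf 0x0)))) (.node (.node (.node (.leaf 0xf67) (.leaf 0x16ff)) (.node (.leaf 0x9ef) (.leaf 0x199b))) (.node (.node (.leaf 0x4e4) (.leaf 0x13ce)) (.node (.leaf 0xb16) (.leaf 0x0))))) (.node (.node (.node (.node (.leaf 0x13f) (.leaf 0xb39)) (.node (.leaf 0xfef) (.leaf 0x1736))) (.node (.node (.leaf 0xba4) (.leaf 0x1116)) (.node (.leaf 0x5a4) (.leaf 0x0)))) (.node (.node (.node (.leaf 0x6d8) (.leaf 0xc69)) (.node (.leaf 0xb95) (.leaf 0x1b2b))) (.node (.node (.leaf 0x5a3) (.leaf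 0x15b4)) (.node (.leaf 0x747) (.leaf 0x0)))))) (.node (.node (.node (.node (.node (.leaf 0xcd) (.leaf 0x11b3)) (.node (.leaf 0xfe1) (.leaf 0x1849))) (.node (.node (.leaf 0x8cd) (.leaf 0x124f)) (.node (.leaf 0x69e) (.leaf 0x0)))) (.node (.node (.node (.leaf 0x9b7) (.leaf 0xf3f)) (.node (.leaf 0xec4) (.leaf 0x1ac9))) (.node (.node (.leaf 0x1456) (.leaf 0x1573)) (.node (.leaf 0xb4b) (.leaf 0x0))))) (.node (.node (.node (.node (.leaf 0x125) (.leaf 0x913)) (.node (.leaf 0x717) (.leaf 0x1811))) (.node (.node (.leaf 0x8d8) (.leaf 0x1012)) (.node (.leaf 0x5c8) (.leaf 0x0)))) (.node (.node (.node (.leaf 0x206) (.leaf 0xe16)) (.node (.leaf 0xa54) (.leaf 0x197a))) (.node (.node (.leaf 0x2f5) (.leaf 0x144f)) (.node (.leaf 0xb18) (.leaf 0x0))))))) (.node (.node (.node (.node (.node (.node (.leaf 0x79) (.leaf 0x7ed)) (.node (.leaf 0xd6a) (.leaf 0x18cd))) (.node (.node (.leaf 0x8dd) (.leaf 0x10e6)) (.node (.leaf 0x1510) (.leaf 0x0)))) (.node (.node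 (.node (.leaf 0x9b0) (.leaf 0xdb5)) (.node (.leaf 0xec2) (.leaf 0x1b61))) (.node (.node (.leaf 0x45f) (.leaf 0x16ba)) (.node (.leaf 0x16db) (.leaf 0x0))))) (.node (.node (.node (.node (.leaf 0x145) (.leaf 0xa74)) (.node (.leaf 0x7c4) (.leaf 0x18c8))) (.node (.node (.leaf 0x296) (.leaf 0x12c3)) (.node (.leaf 0x661) (.leaf 0x0)))) (.node (.node (.node (.leaf 0x244) (.leaf 0xe73)) (.node (.leaf 0x638) (.leaf 0x19b9))) (.node (.node (.leaf 0x2f0) (.leaf 0x1610)) (.node (.leaf 0xb65) (.leaf 0x0)))))) (.node (.node (.node (.node (.node (.leaf 0xdf) (.leaf 0x1071)) (.node (.leaf 0xfda) (.leaf 0x18c2))) (.node (.node (.leaf 0x1087) (.leaf 0x126f)) (.node (.leaf 0xe05) (.leaf 0x0)))) (.node (.node (.node (.leaf 0x404) (.leaf 0xe28)) (.node (.leaf 0x1620) (.leaf 0x1b09))) (.node (.node (.leaf 0x1231) (.leaf 0x1503)) (.node (.leaf 0x1669) (.leaf 0x0))))) (.node (.node (.node (.node (.leaf 0x1bb) (.leaf 0x862)) (.node (.leaf 0x1408) (.leaf 0x18ca)))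 (.node (.node (.leaf 0x108c) (.leaf 0x12ee)) (.node (.leaf 0x77e) (.leaf 0x0)))) (.node (.node (.node (.leaf 0x6ec) (.leaf 0xcee)) (.node (.leaf 0x1554) (.leaf 0x1ab5))) (.node (.node (.leaf 0xbfd) (.leaf 0x13ad)) (.node (.leaf 0x740) (.leaf 0x0))))))))

/-- Closure. -/
def clo59 : FTree := (.node (.node (.node (.node (.node (.node (.node (.leaf 0x54) (.leaf 0x867)) (.node (.leaf 0xb0b) (.leaf 0x1837))) (.node (.node (.leaf 0x2bf) (.leaf 0x124e)) (.node (.leaf 0x1518) (.leaf 0x0)))) (.node (.node (.node (.leaf 0x1959) (.leaf 0xd78)) (.node (.leaf 0x6af) (.leaf 0x1b3c))) (.node (.node (.leaf 0x3ac) (.leaf 0x139d)) (.node (.leaf 0x164d) (.leaf 0x0))))) (.node (.node (.node (.node (.leaf 0x109) (.leaf 0xaa5)) (.node (.leaf 0x7bd) (.leaf 0x181f))) (.node (.node (.leaf 0x371) (.leaf 0x1240)) (.node (.leaf 0x5ca) (.leaf 0x0)))) (.node (.node (.node (.leaf 0x21d) (.leaf 0xe1d)) (.node (.leaf 0x119b) (.leaf 0x1b01))) (.node (.node (.leaf 0x30d)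 (.leaf 0x150e)) (.node (.leaf 0xf04) (.leaf 0x0)))))) (.node (.node (.node (.node (.node (.leaf 0xa6) (.leaf 0xe9a)) (.node (.leaf 0x47d) (.leaf 0x173c))) (.node (.node (.leaf 0x373) (.leaf 0x11ba)) (.node (.leaf 0x12a0) (.leaf 0x0)))) (.node (.node (.node (.leaf 0x9a6) (.leaf 0xe9d)) (.node (.leaf 0x155f) (.leaf 0x1b5b))) (.node (.node (.leaf 0x120c) (.leaf 0x1440)) (.node (.leaf 0x745) (.leaf 0x0))))) (.node (.node (.node (.node (.leaf 0x1b7) (.leaf 0x1752)) (.node (.leaf 0xd13) (.leaf 0x18f0))) (.node (.node (.leaf 0x2c3) (.leaf 0x10f3)) (.node (.leaf 0xee4) (.leaf 0x0)))) (.node (.node (.node (.leaf 0x8c6) (.leaf 0xdcb)) (.node (.leaf 0xb89) (.leaf 0x1b5a))) (.node (.node (.leaf 0xced) (.leaf 0x1543)) (.node (.leaf 0xafa) (.leaf 0x0))))))) (.node (.node (.node (.node (.node (.node (.leaf 0xad) (.leaf 0xc1a)) (.node (.leaf 0x1051) (.leaf 0x1899))) (.node (.node (.leaf 0x281) (.leaf 0x10cc)) (.node (.leaf 0xc37) (.leaf 0x0)))) (.node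 (.node (.node (.leaf 0xf72) (.leaf 0x14f2)) (.node (.leaf 0xa4f) (.leaf 0x1aef))) (.node (.node (.leaf 0x552) (.leaf 0x139e)) (.node (.leaf 0x16d6) (.leaf 0x0))))) (.node (.node (.node (.node (.leaf 0x164) (.leaf 0x1840)) (.node (.leaf 0xd1d) (.leaf 0x1792))) (.node (.node (.leaf 0x4bb) (.leaf 0x125d)) (.node (.leaf 0xacc) (.leaf 0x0)))) (.node (.node (.node (.leaf 0x87f) (.leaf 0xde5)) (.node (.leaf 0xeb6) (.leaf 0x1a8d))) (.node (.node (.leaf 0x940) (.leaf 0x153e)) (.node (.leaf 0xb2c) (.leaf 0x0)))))) (.node (.node (.node (.node (.node (.leaf 0x144) (.leaf 0x7cd)) (.node (.leaf 0x961) (.leaf 0x1908))) (.node (.node (.leaf 0x258) (.leaf 0x106d)) (.node (.leaf 0x589) (.leaf 0x0)))) (.node (.node (.node (.leaf 0x211) (.leaf 0xecc)) (.node (.leaf 0xe51) (.leaf 0x197b))) (.node (.node (.leaf 0x360) (.leaf 0x1352)) (.node (.leaf 0xad8) (.leaf 0x0))))) (.node (.node (.node (.node (.leaf 0x0) (.leaf 0x0)) (.node (.leaf 0x0) (.leaf 0x0)))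 (.node (.node (.leaf 0x0) (.leaf 0x0)) (.node (.leaf 0x0) (.leaf 0x0)))) (.node (.node (.node (.leaf 0x0) (.leaf 0x0)) (.node (.leaf 0x0) (.leaf 0x0))) (.node (.node (.leaf 0x0) (.leaf 0x0)) (.node (.leaf 0x0) (.leaf 0x0))))))))

/-- Closure. -/
def clo60 : FTree := (.node (.node (.node (.node (.node (.node (.node (.leaf 0x12) (.leaf 0xabf)) (.node (.leaf 0x71c) (.leaf 0x181e))) (.node (.node (.leaf 0x8db) (.leaf 0x1077)) (.node (.leaf 0x579) (.leaf 0x0)))) (.node (.node (.node (.leaf 0x205) (.leaf 0xccb)) (.node (.leaf 0x4f2) (.leaf 0x1a99))) (.node (.node (.leaf 0x311) (.leaf 0x1321)) (.node (.leaf 0x857) (.leaf 0x0))))) (.node (.node (.node (.node (.leaf 0x10d) (.leaf 0xabe)) (.node (.leaf 0x43d) (.leaf 0x193a))) (.node (.node (.leaf 0xb9c) (.leaf 0x10d4)) (.node (.leaf 0x1983) (.leaf 0x0)))) (.node (.node (.node (.leaf 0x87a) (.leaf 0xc49)) (.node (.leaf 0x64e) (.leaf 0x1b25))) (.node (.node (.leaf 0x3bd) (.leaf 0x15b6)) (.node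 (.leaf 0x15f0) (.leaf 0x0)))))) (.node (.node (.node (.node (.node (.leaf 0x8e) (.leaf 0x158c)) (.node (.leaf 0xd0f) (.leaf 0x177a))) (.node (.node (.leaf 0x4bf) (.leaf 0x1257)) (.node (.leaf 0xde0) (.leaf 0x0)))) (.node (.node (.node (.leaf 0x873) (.leaf 0xe2d)) (.node (.leaf 0x543) (.leaf 0x19d7))) (.node (.node (.leaf 0x1705) (.leaf 0x18c7)) (.node (.leaf 0xb35) (.leaf 0x0))))) (.node (.node (.node (.node (.leaf 0x1a9) (.leaf 0xe6d)) (.node (.leaf 0x1056) (.leaf 0x1797))) (.node (.node (.leaf 0x114b) (.leaf 0x11cd)) (.node (.leaf 0x60c) (.leaf 0x0)))) (.node (.node (.node (.leaf 0x6d4) (.leaf 0xc9a)) (.node (.leaf 0x62c) (.leaf 0x19cd))) (.node (.node (.leaf 0x5ba) (.leaf 0x1686)) (.node (.leaf 0x1653) (.leaf 0x0))))))) (.node (.node (.node (.node (.node (.node (.leaf 0x47) (.leaf 0x1528)) (.node (.leaf 0xd48) (.leaf 0x1930))) (.node (.node (.leaf 0x2b6) (.leaf 0x10f9)) (.node (.leaf 0x1861) (.leaf 0x0)))) (.node (.node (.node (.leaf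 0xf69) (.leaf 0xee6)) (.node (.leaf 0x4f7) (.leaf 0x1ad1))) (.node (.node (.leaf 0x4aa) (.leaf 0x1617)) (.node (.leaf 0x12f9) (.leaf 0x0))))) (.node (.node (.node (.node (.leaf 0x159) (.leaf 0xe67)) (.node (.leaf 0x471) (.leaf 0x172d))) (.node (.node (.leaf 0x28b) (.leaf 0x1242)) (.node (.leaf 0x607) (.leaf 0x0)))) (.node (.node (.node (.leaf 0x239) (.leaf 0xcf6)) (.node (.leaf 0x6b9) (.leaf 0x1a2b))) (.node (.node (.leaf 0x38e) (.leaf 0x1697)) (.node (.leaf 0xfd3) (.leaf 0x0)))))) (.node (.node (.node (.node (.node (.leaf 0xd8) (.leaf 0xa2e)) (.node (.leaf 0x728) (.leaf 0x18f3))) (.node (.node (.leaf 0x295) (.leaf 0x12c8)) (.node (.leaf 0xc2c) (.leaf 0x0)))) (.node (.node (.node (.leaf 0xfa2) (.leaf 0xea9)) (.node (.leaf 0x66d) (.leaf 0x19c8))) (.node (.node (.leaf 0xcbb) (.leaf 0x16b4)) (.node (.leaf 0xf0d) (.leaf 0x0))))) (.node (.node (.node (.node (.leaf 0x1f9) (.leaf 0xce4)) (.node (.leaf 0x1418) (.leaf 0x1845))) (.node (.node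 (.leaf 0x343) (.leaf 0x1214)) (.node (.leaf 0x659) (.leaf 0x0)))) (.node (.node (.node (.leaf 0x975) (.leaf 0x14dd)) (.node (.leaf 0xd87) (.leaf 0x1acc))) (.node (.node (.leaf 0xbeb) (.leaf 0x13af)) (.node (.leaf 0xb5c) (.leaf 0x0))))))))

/-- Closure. -/
def clo61 : FTree := (.node (.node (.node (.node (.node (.node (.node (.leaf 0x3d) (.leaf 0x841)) (.node (.leaf 0xd21) (.leaf 0x1834))) (.node (.node (.leaf 0x2fd) (.leaf 0x117e)) (.node (.leaf 0x1482) (.leaf 0x0)))) (.node (.node (.node (.leaf 0x3fb) (.leaf 0xddf)) (.node (.leaf 0x1556) (.leaf 0x1b33))) (.node (.node (.leaf 0xcc1) (.leaf 0x160e)) (.node (.leaf 0xadb) (.leaf 0x0))))) (.node (.node (.node (.node (.leaf 0x102) (.leaf 0x11a0)) (.node (.leaf 0xd29) (.leaf 0x178c))) (.node (.node (.leaf 0x37a) (.leaf 0x1273)) (.node (.leaf 0xdfc) (.leaf 0x0)))) (.node (.node (.node (.leaf 0x991) (.leaf 0xc7f)) (.node (.leaf 0x9ee) (.leaf 0x19d0))) (.node (.node (.leaf 0x1222) (.leaf 0x16ae))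 (.node (.leaf 0xb50) (.leaf 0x0)))))) (.node (.node (.node (.node (.node (.leaf 0xd4) (.leaf 0x82a)) (.node (.leaf 0x100a) (.leaf 0x1900))) (.node (.node (.leaf 0x4af) (.leaf 0x12dd)) (.node (.leaf 0xedb) (.leaf 0x0)))) (.node (.node (.node (.leaf 0x99a) (.leaf 0x1182)) (.node (.leaf 0x699) (.leaf 0x1a5d))) (.node (.node (.leaf 0xcfa) (.leaf 0x1539)) (.node (.leaf 0xfcd) (.leaf 0x0))))) (.node (.node (.node (.node (.leaf 0x168) (.leaf 0xaf9)) (.node (.leaf 0xd2e) (.leaf 0x1740))) (.node (.node (.leaf 0x2e0) (.leaf 0x1106)) (.node (.leaf 0x147c) (.leaf 0x0)))) (.node (.node (.node (.leaf 0xf8b) (.leaf 0x15b8)) (.node (.leaf 0x514) (.leaf 0x1a6a))) (.node (.node (.leaf 0x8fe) (.leaf 0x1479)) (.node (.leaf 0x1670) (.leaf 0x0))))))) (.node (.node (.node (.node (.node (.node (.leaf 0x59) (.leaf 0xab8)) (.node (.leaf 0xd24) (.leaf 0x1828))) (.node (.node (.leaf 0x2c7) (.leaf 0x1100)) (.node (.leaf 0x651) (.leaf 0x0)))) (.node (.node (.node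 (.leaf 0x88e) (.leaf 0xed2)) (.node (.leaf 0x119d) (.leaf 0x1a3c))) (.node (.node (.leaf 0xbe9) (.leaf 0x1611)) (.node (.leaf 0x84d) (.leaf 0x0))))) (.node (.node (.node (.node (.leaf 0x18a) (.leaf 0x1526)) (.node (.leaf 0x453) (.leaf 0x18d1))) (.node (.node (.leaf 0x561) (.leaf 0x14a8)) (.node (.leaf 0x6a3) (.leaf 0x0)))) (.node (.node (.node (.leaf 0xf4b) (.leaf 0xc87)) (.node (.leaf 0x4d0) (.leaf 0x1ae8))) (.node (.node (.leaf 0x1465) (.leaf 0x16a5)) (.node (.leaf 0xf2d) (.leaf 0x0)))))) (.node (.node (.node (.node (.node (.leaf 0x12e) (.leaf 0x921)) (.node (.leaf 0xd34) (.leaf 0x17c7))) (.node (.node (.leaf 0xb9e) (.leaf 0x1129)) (.node (.leaf 0xc2b) (.leaf 0x0)))) (.node (.node (.node (.leaf 0x3fd) (.leaf 0xdbc)) (.node (.leaf 0xb94) (.leaf 0x19ac))) (.node (.node (.leaf 0x330) (.leaf 0x13d7)) (.node (.leaf 0x1640) (.leaf 0x0))))) (.node (.node (.node (.node (.leaf 0x0) (.leaf 0x0)) (.node (.leaf 0x0) (.leaf 0x0))) (.node (.node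 (.leaf 0x0) (.leaf 0x0)) (.node (.leaf 0x0) (.leaf 0x0)))) (.node (.node (.node (.leaf 0x0) (.leaf 0x0)) (.node (.leaf 0x0) (.leaf 0x0))) (.node (.node (.leaf 0x0) (.leaf 0x0)) (.node (.leaf 0x0) (.leaf 0x0))))))))

/-- Closure. -/
def clo62 : FTree := (.node (.node (.node (.node (.node (.node (.node (.leaf 0x24) (.leaf 0xe7a)) (.node (.leaf 0x1054) (.leaf 0x1889))) (.node (.node (.leaf 0x1151) (.leaf 0x1249)) (.node (.leaf 0xdd8) (.leaf 0x0)))) (.node (.node (.node (.leaf 0x6cf) (.leaf 0xdeb)) (.node (.leaf 0x815) (.leaf 0x1a1e))) (.node (.node (.leaf 0x1708) (.leaf 0x1488)) (.node (.leaf 0x1aa1) (.leaf 0x0))))) (.node (.node (.node (.node (.leaf 0x16c) (.leaf 0x9e6)) (.node (.leaf 0x141a) (.leaf 0x1896))) (.node (.node (.leaf 0x366) (.leaf 0x116a)) (.node (.leaf 0x1480) (.leaf 0x0)))) (.node (.node (.node (.leaf 0xf88) (.leaf 0xcb1)) (.node (.leaf 0x4ea) (.leaf 0x1b1f))) (.node (.node (.leaf 0xcc2) (.leaf 0x1592)) (.node (.leaf 0x774)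 (.leaf 0x0)))))) (.node (.node (.node (.node (.node (.leaf 0xd1) (.leaf 0xa5b)) (.node (.leaf 0xd1a) (.leaf 0x1949))) (.node (.node (.leaf 0x575) (.leaf 0x12cd)) (.node (.leaf 0x617) (.leaf 0x0)))) (.node (.node (.node (.leaf 0x89e) (.leaf 0xe61)) (.node (.leaf 0x631) (.leaf 0x1a34))) (.node (.node (.leaf 0x8fa) (.leaf 0x136a)) (.node (.leaf 0xf14) (.leaf 0x0))))) (.node (.node (.node (.node (.leaf 0x1b6) (.leaf 0xc1b)) (.node (.leaf 0xd42) (.leaf 0x1890))) (.node (.node (.leaf 0x2c5) (.leaf 0x12ad)) (.node (.leaf 0xa4a) (.leaf 0x0)))) (.node (.node (.node (.leaf 0x9be) (.leaf 0xca0)) (.node (.leaf 0xb8a) (.leaf 0x1aee))) (.node (.node (.leaf 0x170a) (.leaf 0x1436)) (.node (.leaf 0x12fb) (.leaf 0x0))))))) (.node (.node (.node (.node (.node (.node (.leaf 0x96) (.leaf 0x9ff)) (.node (.leaf 0x140e) (.leaf 0x1817))) (.node (.node (.leaf 0x365) (.leaf 0x116b)) (.node (.leaf 0x658) (.leaf 0x0)))) (.node (.node (.node (.leaf 0xf73) (.leaf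 0xc62)) (.node (.leaf 0x9de) (.leaf 0x1aa8))) (.node (.node (.leaf 0xbec) (.leaf 0x146d)) (.node (.leaf 0x77a) (.leaf 0x0))))) (.node (.node (.node (.node (.leaf 0x1a5) (.leaf 0xab4)) (.node (.leaf 0x413) (.leaf 0x17b4))) (.node (.node (.leaf 0x7a6) (.leaf 0x1327)) (.node (.leaf 0xac5) (.leaf 0x0)))) (.node (.node (.node (.leaf 0x3d6) (.leaf 0xdc4)) (.node (.leaf 0x64f) (.leaf 0x1a4d))) (.node (.node (.leaf 0xdc5) (.leaf 0x1642)) (.node (.leaf 0x16ee) (.leaf 0x0)))))) (.node (.node (.node (.node (.node (.leaf 0xe8) (.leaf 0x9fc)) (.node (.leaf 0x467) (.leaf 0x1739))) (.node (.node (.leaf 0x269) (.leaf 0x1141)) (.node (.leaf 0x6c9) (.leaf 0x0)))) (.node (.node (.node (.leaf 0x227) (.leaf 0xc63)) (.node (.leaf 0xb8c) (.leaf 0x19ba))) (.node (.node (.leaf 0x1206) (.leaf 0x13d0)) (.node (.leaf 0xfd2) (.leaf 0x0))))) (.node (.node (.node (.node (.leaf 0x1f6) (.leaf 0x7eb)) (.node (.leaf 0x45a) (.leaf 0x190d))) (.node (.node (.leaf 0x796)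 (.leaf 0x10cd)) (.node (.leaf 0x5ae) (.leaf 0x0)))) (.node (.node (.node (.leaf 0x6ea) (.leaf 0xef5)) (.node (.leaf 0x50b) (.leaf 0x1ac4))) (.node (.node (.leaf 0x315) (.leaf 0x15b9)) (.node (.leaf 0xaf3) (.leaf 0x0))))))))

/-- Closure. -/
def clo63 : FTree := (.node (.node (.node (.node (.node (.node (.node (.leaf 0x4b) (.leaf 0x974)) (.node (.leaf 0x105f) (.leaf 0x1741))) (.node (.node (.leaf 0x27d) (.leaf 0x10fd)) (.node (.leaf 0x5da) (.leaf 0x0)))) (.node (.node (.node (.leaf 0xf87) (.leaf 0xcd6)) (.node (.leaf 0xd7f) (.leaf 0x1a0b))) (.node (.node (.leaf 0x5d6) (.leaf 0x157a)) (.node (.leaf 0x16d0) (.leaf 0x0))))) (.node (.node (.node (.node (.leaf 0x10c) (.leaf 0x1067)) (.node (.leaf 0xd65) (.leaf 0x1897))) (.node (.node (.leaf 0x27e) (.leaf 0x1219)) (.node (.leaf 0xdee) (.leaf 0x0)))) (.node (.node (.node (.leaf 0x999) (.leaf 0x1174)) (.node (.leaf 0xb81) (.leaf 0x1ad2))) (.node (.node (.leaf 0x3b9) (.leaf 0x14d3)) (.node (.leaf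 0xb4a) (.leaf 0x0)))))) (.node (.node (.node (.node (.node (.leaf 0xf0) (.leaf 0xa33)) (.node (.leaf 0xff8) (.leaf 0x1771))) (.node (.node (.leaf 0x34f) (.leaf 0x11ee)) (.node (.leaf 0x138a) (.leaf 0x0)))) (.node (.node (.node (.leaf 0xf63) (.leaf 0xdf8)) (.node (.leaf 0x9db) (.leaf 0x1a9f))) (.node (.node (.leaf 0x1202) (.leaf 0x1432)) (.node (.leaf 0x15ff) (.leaf 0x0))))) (.node (.node (.node (.node (.leaf 0x1e9) (.leaf 0xa2c)) (.node (.leaf 0x444) (.leaf 0x1935))) (.node (.node (.leaf 0x107e) (.leaf 0x101c)) (.node (.leaf 0x59e) (.leaf 0x0)))) (.node (.node (.node (.leaf 0x200) (.leaf 0xc0b)) (.node (.leaf 0xe44) (.leaf 0x1a95))) (.node (.node (.leaf 0x58c) (.leaf 0x13a8)) (.node (.leaf 0x855) (.leaf 0x0))))))) (.node (.node (.node (.node (.node (.node (.leaf 0x81) (.leaf 0x1019)) (.node (.leaf 0x1008) (.leaf 0x182b))) (.node (.node (.leaf 0x55c) (.leaf 0x1377)) (.node (.leaf 0xb5a) (.leaf 0x0)))) (.node (.node (.node (.leaf 0xf4a)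 (.leaf 0x1447)) (.node (.leaf 0x51a) (.leaf 0x19a5))) (.node (.node (.leaf 0xc09) (.leaf 0x13a9)) (.node (.leaf 0x1665) (.leaf 0x0))))) (.node (.node (.node (.node (.leaf 0x19e) (.leaf 0xa96)) (.node (.leaf 0xd4b) (.leaf 0x1816))) (.node (.node (.leaf 0x36d) (.leaf 0x11e0)) (.node (.leaf 0x147e) (.leaf 0x0)))) (.node (.node (.node (.leaf 0xf89) (.leaf 0xeb3)) (.node (.leaf 0xeb4) (.leaf 0x1a6d))) (.node (.node (.leaf 0x8f1) (.leaf 0x1472)) (.node (.leaf 0x1607) (.leaf 0x0)))))) (.node (.node (.node (.node (.node (.leaf 0x123) (.leaf 0x91d)) (.node (.leaf 0xff6) (.leaf 0x18e2))) (.node (.node (.leaf 0x7a9) (.leaf 0x10e9)) (.node (.leaf 0xdda) (.leaf 0x0)))) (.node (.node (.node (.leaf 0x9ca) (.leaf 0xc75)) (.node (.leaf 0x53c) (.leaf 0x1ac7))) (.node (.node (.leaf 0xc12) (.leaf 0x1684)) (.node (.leaf 0x165d) (.leaf 0x0))))) (.node (.node (.node (.node (.leaf 0x0) (.leaf 0x0)) (.node (.leaf 0x0) (.leaf 0x0))) (.node (.node (.leaf 0x0)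 (.leaf 0x0)) (.node (.leaf 0x0) (.leaf 0x0)))) (.node (.node (.node (.leaf 0x0) (.leaf 0x0)) (.node (.leaf 0x0) (.leaf 0x0))) (.node (.node (.leaf 0x0) (.leaf 0x0)) (.node (.leaf 0x0) (.leaf 0x0))))))))

/-- The closure. -/
def clo : FTree := (.node (.node (.node (.node (.node (.node clo0 clo1) (.node clo2 clo3)) (.node (.node clo4 clo5) (.node clo6 clo7))) (.node (.node (.node clo8 clo9) (.node clo10 clo11)) (.node (.node clo12 clo13) (.node clo14 clo15)))) (.node (.node (.node (.node clo16 clo17) (.node clo18 clo19)) (.node (.node clo20 clo21) (.node clo22 clo23))) (.node (.node (.node clo24 clo25) (.node clo26 clo27)) (.node (.node clo28 clo29) (.node clo30 clo31))))) (.node (.node (.node (.node (.node clo32 clo33) (.node clo34 clo35)) (.node (.node clo36 clo37) (.node clo38 clo39))) (.node (.node (.node clo40 clo41) (.node clo42 clo43)) (.node (.node clo44 clo45) (.node clo46 clo47)))) (.node (.node (.node (.node clo48 clo49) (.node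 clo50 clo51)) (.node (.node clo52 clo53) (.node clo54 clo55))) (.node (.node (.node clo56 clo57) (.node clo58 clo59)) (.node (.node clo60 clo61) (.node clo62 clo63))))))

/-- Elements fixing a class. -/
def el0 : List (ℕ × ℕ × ℕ) := [(0x1a0c058281208038180a04018080200, 0, 0)]

/-- Elements fixing a class. -/
def el1 : List (ℕ × ℕ × ℕ) := [(0x1a0c058281208038180a04018080200, 0, 0), (0x180d058280601038000a02048101006, 0, 11), (0x1a0c058280601038000a02048101006, 0, 16), (0x1a0c058281201028080e00018181004, 0, 30), (0x1a0c038280808058000a090100c0206, 0, 66), (0x1a0c058141200038041402018100c08, 0, 140), (0x1a0c0501c0003058040a02030101208, 0, 144), (0x180d058281208038180a04018080200, 1, 16), (0x180d058280608028100e06048000202, 1, 30), (0x180d038280401058180a03020241000, 1, 66), (0x180d058140606038201404048080001, 1, 140), (0x180d0501c0c09058200a04000080601, 1, 144), (0x1a0c058280608028100e06048000202, 2, 30), (0x1a0c038280401058180a03020241000,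 2, 66), (0x1a0c058140606038201404048080001, 2, 140), (0x1a0c0501c0c09058200a04000080601, 2, 144), (0x1a0c028280001058100e090300c1002, 3, 66), (0x1a0c0581c1204028201406018000401, 3, 140), (0x1a0c050140803058200e06010001201, 3, 144), (0x1a0c0382808010280c1606010001009, 4, 30), (0x1a0c038140806058041403010240008, 4, 140), (0x1a0c0502c0c02038040a03000240808, 4, 144), (0x1a0c058141206050100e08018040002, 5, 30), (0x1a0c0381404000582014090200c0c01, 5, 66), (0x1a0c0281c1003058181404008081200, 5, 144), (0x1a0c0501c0009028101608030040602, 6, 30), (0x1a0c0581c0403050200a00020181201, 6, 66), (0x1a0c050140008058240e04030080203, 6, 140), (0x1a0c0382c1006050240a04008080003, 6, 144), (0x180d058281201028080e00018181004, 7, 30), (0x180d038280808058000a090100c0206, 7, 66), (0x180d058141200038041402018100c08, 7, 140), (0x180d0501c0003058040a02030101208, 7, 144), (0x180d028280c08058080e03000240204, 8, 66), (0x180d0581c0602028041400048180808, 8, 140), (0x180d050140409058040e00020180608,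 8, 144), (0x180d038280408028241600020180203, 9, 30), (0x180d0381404000582014090200c0c01, 9, 140), (0x180d0502c0004038200a090300c0401, 9, 144), (0x180d058140600050080e01048200c04, 10, 30), (0x180d038140806058041403010240008, 10, 66), (0x180d0281c0209058001402040100606, 10, 144), (0x180d0501c0c03028081601000201204, 11, 30), (0x180d0581c0809050040a06010000608, 11, 66), (0x180d050140c010580c0e02000101009, 11, 140), (0x180d0382c02000500c0a02040100c09, 11, 144), (0x1a0c028280c08058080e03000240204, 12, 66), (0x1a0c0581c0602028041400048180808, 12, 140), (0x1a0c050140409058040e00020180608, 12, 144), (0x1a0c038280408028241600020180203, 13, 30), (0x1a0c0502c0004038200a090300c0401, 13, 144), (0x1a0c058140600050080e01048200c04, 14, 30), (0x1a0c0281c0209058001402040100606, 14, 144), (0x1a0c0501c0c03028081601000201204, 15, 30), (0x1a0c0581c0809050040a06010000608, 15, 66), (0x1a0c050140c010580c0e02000101009, 15, 140), (0x1a0c0382c02000500c0a02040100c09,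 15, 144), (0x1a0c0282800080380c1602030100209, 16, 30), (0x1a0c0281c0002058201403030240801, 16, 140), (0x1a0c0502c0406028200e03020240001, 16, 144), (0x1a0c0581c1202050000a01018200806, 17, 30), (0x1a0c0281c0c040580414090000c0408, 17, 66), (0x1a0c038140203058081400040181204, 17, 144), (0x1a0c050140809038001601010200606, 18, 30), (0x1a0c058140c03050040e04000081208, 18, 66), (0x1a0c0501c0801058240a00010181003, 18, 140), (0x1a0c0282c0202050240e00040180803, 18, 144), (0x1a0c028280c01038241604000081003, 19, 66), (0x1a0c0382c0809028201400010180601, 19, 140), (0x1a0c050141202038201600018180801, 19, 144), (0x1a0c038140800050241608010040c03, 20, 30), (0x1a0c0282c10020380014090080c0806, 20, 144), (0x1a0c0502c0c04028240e08000040403, 21, 30), (0x1a0c0382c0602050200a06048000801, 21, 66), (0x1a0c050140c080381016090000c0202, 21, 140), (0x1a0c0581c1000050100a090080c0c02, 21, 144), (0x1a0c050141006058080e090080c0004, 22, 66), (0x1a0c028280403058000e01020201206,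 22, 144), (0x1a0c0381404060500c1601020200009, 23, 30), (0x1a0c0282c0204038181403040240400, 23, 144), (0x1a0c0281c1009050081600008180604, 24, 30), (0x1a0c0581c0803028001408010041206, 24, 66), (0x1a0c028281000058240e02008100c03, 24, 140), (0x1a0c0382c0001028241402030101003, 24, 144), (0x1a0c0502c00020280c0e01030200809, 25, 140), (0x1a0c0581c0409028181401020200600, 26, 30), (0x1a0c058140401050240e06020001003, 26, 140), (0x1a0c038280204058240a06040000403, 26, 144), (0x1a0c050140001038081603030241004, 27, 30), (0x1a0c0581408080500c0e00010180209, 27, 66), (0x1a0c0282c0606050040e02048100008, 27, 144), (0x1a0c0382c1000028081403008240c04, 28, 30), (0x1a0c0502c08060380c0a08010040009, 28, 66), (0x1a0c038141003050001602008101206, 28, 140), (0x180d028280001058100e090300c1002, 29, 66), (0x180d0581c1204028201406018000401, 29, 140), (0x180d050140803058200e06010001201, 29, 144), (0x180d0382808010280c1606010001009, 30, 30), (0x180d0502c0c02038040a03000240808,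 30, 144), (0x180d058141206050100e08018040002, 31, 30), (0x180d0281c1003058181404008081200, 31, 144), (0x180d0501c0009028101608030040602, 32, 30), (0x180d0581c0403050200a00020181201, 32, 66), (0x180d050140008058240e04030080203, 32, 140), (0x180d0382c1006050240a04008080003, 32, 144), (0x180d028280c01038241604000081003, 33, 30), (0x180d0281c0c040580414090000c0408, 33, 140), (0x180d0502c0800028040e090100c0c08, 33, 144), (0x180d0581c0604050180a08048040400, 34, 30), (0x180d0281c0002058201403030240801, 34, 66), (0x180d038141009058101406008000602, 34, 144), (0x180d050140403038181608020041200, 35, 30), (0x180d058140009050200e02030100601, 35, 66), (0x180d0501c04080580c0a06020000209, 35, 140), (0x180d0282c10040500c0e06008000409, 35, 144), (0x180d0282800080380c1602030100209, 36, 66), (0x180d0382c0403028041406020001208, 36, 140), (0x180d050140604038041606048000408, 36, 144), (0x180d0381404060500c1601020200009, 37, 30), (0x180d0282c0204038181403040240400,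 37, 144), (0x180d0502c00020280c0e01030200809, 38, 30), (0x180d0382c1204050040a00018180408, 38, 66), (0x180d050140001038081603030241004, 38, 140), (0x180d0581c0206050080a03040240004, 38, 144), (0x180d050140200058100e03040240c02, 39, 66), (0x180d028280809058180e08010040600, 39, 144), (0x180d038140800050241608010040c03, 40, 30), (0x180d0282c10020380014090080c0806, 40, 144), (0x180d0281c0203050101606040001202, 41, 30), (0x180d0581c0409028181401020200600, 41, 66), (0x180d0282802060580c0e04040080009, 41, 140), (0x180d0382c0c080280c1404000080209, 41, 144), (0x180d0502c0c04028240e08000040403, 42, 140), (0x180d0581c0803028001408010041206, 43, 30), (0x180d0581408080500c0e00010180209, 43, 140), (0x180d0382810020580c0a00008180809, 43, 144), (0x180d050140c080381016090000c0202, 44, 30), (0x180d058140401050240e06020001003, 44, 66), (0x180d0282c1200050200e04018080c01, 44, 144), (0x180d0382c02060281014090400c0002, 45, 30), (0x180d0502c0400038240a01020200c03,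 45, 66), (0x180d038140209050181604040080600, 45, 140), (0x1a0c0502c0800028040e090100c0c08, 46, 144), (0x1a0c0581c0604050180a08048040400, 47, 30), (0x1a0c038141009058101406008000602, 47, 144), (0x1a0c050140403038181608020041200, 48, 30), (0x1a0c058140009050200e02030100601, 48, 66), (0x1a0c0501c04080580c0a06020000209, 48, 140), (0x1a0c0282c10040500c0e06008000409, 48, 144), (0x1a0c0382c0403028041406020001208, 49, 140), (0x1a0c050140604038041606048000408, 49, 144), (0x1a0c0382c1204050040a00018180408, 50, 66), (0x1a0c0581c0206050080a03040240004, 50, 144), (0x1a0c050140200058100e03040240c02, 51, 66), (0x1a0c028280809058180e08010040600, 51, 144), (0x1a0c0281c0203050101606040001202, 52, 30), (0x1a0c0282802060580c0e04040080009, 52, 140), (0x1a0c0382c0c080280c1404000080209, 52, 144), (0x1a0c0382810020580c0a00008180809, 54, 144), (0x1a0c0282c1200050200e04018080c01, 55, 144), (0x1a0c0382c02060281014090400c0002, 56, 30), (0x1a0c0502c0400038240a01020200c03,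 56, 66), (0x1a0c038140209050181604040080600, 56, 140), (0x1a0c0282c0009038041404030080608, 57, 140), (0x1a0c0501c1206028041604018080008, 57, 144), (0x1a0c0281c0004050241601030200403, 58, 30), (0x1a0c0501c04010280016090200c1006, 59, 140), (0x1a0c058140204050000e090400c0406, 59, 144), (0x1a0c0501c0202058180a090400c0800, 60, 66), (0x1a0c038280c03058100a08000041202, 60, 144), (0x1a0c0281c0c020500c1608000040809, 61, 30), (0x1a0c058140003038101401030201202, 62, 66), (0x1a0c0282c0808038241406010000203, 62, 144), (0x1a0c058140c09038081408000040604, 64, 30), (0x1a0c0581c0c08050240a02000100203, 64, 140), (0x1a0c0501c0808028181603010240200, 65, 30), (0x1a0c0581c00010500c0a04030081009, 65, 66), (0x1a0c0282c0c03038201402000101201, 67, 140), (0x1a0c0501c0600028201602048100c01, 67, 144), (0x1a0c0382c0803050180a01010201200, 68, 30), (0x1a0c0581402020380c1406040000809, 68, 144), (0x1a0c050141204058180e01018200400, 69, 30), (0x1a0c0381400020500416090300c0808,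 69, 66), (0x1a0c0502c1201038100a06018001002, 69, 140), (0x1a0c0501410000380c1604008080c09, 70, 66), (0x1a0c028280602038181601048200800, 70, 144), (0x1a0c0382c1202028181408018040800, 71, 66), (0x1a0c028281006038101603008240002, 71, 140), (0x1a0c0581c0c01028101403000241002, 71, 144), (0x1a0c0382c0604028001401048200406, 73, 30), (0x1a0c038140601050101600048181002, 73, 140), (0x1a0c058280209038100a00040180602, 73, 144), (0x1a0c038141208050081606018000204, 74, 66), (0x1a0c0281c0400050041603020240c08, 74, 144), (0x1a0c0581c10060280c1402008100009, 75, 30), (0x1a0c0501c1200058080a08018040c04, 75, 66), (0x1a0c058141002050180e03008240800, 75, 140), (0x1a0c0501c1004058000a03008240406, 76, 140), (0x1a0c0282c0801050000e03010241006, 76, 144), (0x1a0c028280409038201606020000601, 77, 30), (0x1a0c058280203028180e02040101200, 77, 66), (0x1a0c0281c0406058241408020040003, 77, 140), (0x1a0c050140206038241602040100003, 78, 66), (0x1a0c0382c0409050000a08020040606,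 78, 140), (0x1a0c028281204038001608018040406, 78, 144), (0x1a0c0282802000380816090400c0c04, 79, 140), (0x1a0c0581c00080280814090300c0204, 79, 144), (0x1a0c058280806028240e01010200003, 81, 140), (0x1a0c038140c02058241401000200803, 81, 144), (0x1a0c0582804000280c0e08020040c09, 82, 66), (0x1a0c0502c0601028180e04048081000, 82, 144), (0x1a0c0382c0008050100a03030240202, 83, 30), (0x1a0c0282c04010380c1400020181009, 83, 66), (0x1a0c038280003028201604030081201, 83, 140), (0x1a0c0381400040580c1408030040409, 85, 144), (0x1a0c058140408038001403020240206, 86, 30), (0x1a0c028280604058200e00048180401, 86, 144), (0x1a0c038280202028001603040240806, 87, 30), (0x1a0c058280c040380c0a01000200409, 87, 66), (0x1a0c0502c0608038080a00048180204, 87, 144), (0x1a0c0281c08060502016090100c0001, 88, 144), (0x1a0c0581408010381814090100c1000, 89, 30), (0x1a0c028281202058040e06018000808, 89, 144), (0x1a0c0282c0600038101408048040c02, 90, 30), (0x1a0c0281c0608050001604048080206,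 90, 140), (0x1a0c058281009028000e04008080606, 90, 144), (0x1a0c0382810040281816090080c0400, 91, 140), (0x180d0502c0406028200e03020240001, 94, 144), (0x180d0581c1202050000a01018200806, 95, 30), (0x180d038140203058081400040181204, 95, 144), (0x180d050140809038001601010200606, 96, 30), (0x180d058140c03050040e04000081208, 96, 66), (0x180d0501c0801058240a00010181003, 96, 140), (0x180d0282c0202050240e00040180803, 96, 144), (0x180d0382c0809028201400010180601, 97, 140), (0x180d050141202038201600018180801, 97, 144), (0x180d0382c0602050200a06048000801, 98, 66), (0x180d0581c1000050100a090080c0c02, 98, 144), (0x180d050141006058080e090080c0004, 99, 66), (0x180d028280403058000e01020201206, 99, 144), (0x180d0281c1009050081600008180604, 100, 30), (0x180d028281000058240e02008100c03, 100, 140), (0x180d0382c0001028241402030101003, 100, 144), (0x180d038280204058240a06040000403, 102, 144), (0x180d0282c0606050040e02048100008, 103, 144), (0x180d0382c1000028081403008240c04,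 104, 30), (0x180d0502c08060380c0a08010040009, 104, 66), (0x180d038141003050001602008101206, 104, 140), (0x180d0282c0c03038201402000101201, 105, 140), (0x180d0501c0600028201602048100c01, 105, 144), (0x180d0281c0c020500c1608000040809, 106, 30), (0x180d0501c0808028181603010240200, 107, 140), (0x180d058141002050180e03008240800, 107, 144), (0x180d0501c1004058000a03008240406, 108, 66), (0x180d038280009058080a01030200604, 108, 144), (0x180d0281c0004050241601030200403, 109, 30), (0x180d058140c09038081408000040604, 110, 66), (0x180d0282c04010380c1400020181009, 110, 144), (0x180d058140003038101401030201202, 112, 30), (0x180d0581c00010500c0a04030081009, 112, 140), (0x180d0501c04010280016090200c1006, 113, 30), (0x180d0581c0c08050240a02000100203, 113, 66), (0x180d0282c0009038041404030080608, 115, 140), (0x180d0501c1206028041604018080008, 115, 144), (0x180d0382c0409050000a08020040606, 116, 30), (0x180d058141004038241400008180403, 116, 144), (0x180d050140602058000e08048040806,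 117, 30), (0x180d038140c04050201603000240401, 117, 66), (0x180d0502c0608038080a00048180204, 117, 140), (0x180d050140206038241602040100003, 118, 66), (0x180d028281204038001608018040406, 118, 144), (0x180d0382c0604028001401048200406, 119, 66), (0x180d0282802000380816090400c0c04, 119, 140), (0x180d0581c00080280814090300c0204, 119, 144), (0x180d0382c1202028181408018040800, 121, 30), (0x180d038141208050081606018000204, 121, 140), (0x180d058281003038080a06008001204, 121, 144), (0x180d038140601050101600048181002, 122, 66), (0x180d0281c08060502016090100c0001, 122, 144), (0x180d0581c0200028241404040080c03, 123, 30), (0x180d0501c0606058100a01048200002, 123, 66), (0x180d058140204050000e090400c0406, 123, 140), (0x180d0501c0202058180a090400c0800, 124, 140), (0x180d0282c0408050180e090200c0200, 124, 144), (0x180d028280803038041600010181208, 125, 30), (0x180d058281009028000e04008080606, 125, 66), (0x180d0281c08000580c1401010200c09, 125, 140), (0x180d0501410000380c1604008080c09,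 126, 66), (0x180d0382c0803050180a01010201200, 126, 140), (0x180d028280602038181601048200800, 126, 144), (0x180d028281006038101603008240002, 127, 140), (0x180d0581c0c01028101403000241002, 127, 144), (0x180d0582804000280c0e08020040c09, 129, 140), (0x180d0381400040580c1408030040409, 129, 144), (0x180d058280806028240e01010200003, 130, 66), (0x180d0502c1208028000e02018100206, 130, 144), (0x180d0382c0c01050080a090000c1004, 131, 30), (0x180d0282c0808038241406010000203, 131, 66), (0x180d038280c09028041602000100608, 131, 140), (0x180d038140c02058241401000200803, 133, 144), (0x180d0581408010381814090100c1000, 134, 30), (0x180d028281202058040e06018000808, 134, 144), (0x180d0382810040281816090080c0400, 135, 30), (0x180d058280002038240a08030040803, 135, 66), (0x180d0502c1201038100a06018001002, 135, 144), (0x180d0281c0400050041603020240c08, 136, 144), (0x180d058140408038001403020240206, 137, 30), (0x180d028280604058200e00048180401, 137, 144), (0x180d0282c1206038081401018200004,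 138, 30), (0x180d0281c1201050181602018101000, 138, 140), (0x180d058280203028180e02040101200, 138, 144), (0x180d038280202028001603040240806, 139, 140), (0x1a0c038280009058080a01030200604, 143, 144), (0x1a0c058141004038241400008180403, 149, 144), (0x1a0c050140602058000e08048040806, 150, 30), (0x1a0c038140c04050201603000240401, 150, 66), (0x1a0c058281003038080a06008001204, 151, 144), (0x1a0c0581c0200028241404040080c03, 152, 30), (0x1a0c0501c0606058100a01048200002, 152, 66), (0x1a0c0282c0408050180e090200c0200, 153, 144), (0x1a0c028280803038041600010181208, 154, 30), (0x1a0c0281c08000580c1401010200c09, 154, 140), (0x1a0c0502c1208028000e02018100206, 156, 144), (0x1a0c0382c0c01050080a090000c1004, 157, 30), (0x1a0c038280c09028041602000100608, 157, 140), (0x1a0c058280002038240a08030040803, 158, 66), (0x1a0c0282c1206038081401018200004, 159, 30), (0x1a0c0281c1201050181602018101000, 159, 140), (0x1a0c0282c0003050080e08030041204, 163, 30), (0x1a0c0501c02040280c1600040180409,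 165, 66), (0x1a0c038280606028081608048040004, 165, 144), (0x1a0c0501c1002028241606008000803, 170, 66), (0x1a0c0282c0c09050100e01000200602, 170, 140), (0x1a0c038281200028101601018200c02, 170, 144), (0x1a0c038280600058040a04048080c08, 174, 144), (0x1a0c038281206058200a02018100001, 176, 144), (0x1a0c0502c0203038000a04040081206, 179, 66), (0x1a0c0281c1208058101400018180202, 180, 144), (0x1a0c0502c1009038180a02008100600, 184, 140), (0x1a0c0281c0601058081406048001004, 188, 66), (0x1a0c058280c02028200e090000c0801, 188, 140), (0x1a0c038140608058181402048100200, 190, 30), (0x1a0c038141201058001404018081006, 192, 30), (0x1a0c058280004028040e03030240408, 206, 140), (0x1a0c058280800038200a03010240c01, 207, 30), (0x1a0c058280406038040a090200c0008, 209, 30), (0x1a0c0502c0209028080e06040000604, 216, 144), (0x1a0c0502c1003028100e00008181202, 222, 144), (0x180d038280c03058100a08000041202, 228, 144), (0x180d0581402020380c1406040000809, 234, 144), (0x180d050141204058180e01018200400,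 235, 30), (0x180d0381400020500416090300c0808, 235, 66), (0x180d058280209038100a00040180602, 236, 144), (0x180d0581c10060280c1402008100009, 237, 30), (0x180d0501c1200058080a08018040c04, 237, 66), (0x180d0282c0801050000e03010241006, 238, 144), (0x180d028280409038201606020000601, 239, 30), (0x180d0281c0406058241408020040003, 239, 140), (0x180d0502c0601028180e04048081000, 241, 144), (0x180d0382c0008050100a03030240202, 242, 30), (0x180d038280003028201604030081201, 242, 140), (0x180d058280c040380c0a01000200409, 243, 66), (0x180d0282c0600038101408048040c02, 244, 30), (0x180d0281c0608050001604048080206, 244, 140), (0x180d0282c0c09050100e01000200602, 248, 30), (0x180d0501c1002028241606008000803, 250, 66), (0x180d038281200028101601018200c02, 250, 144), (0x180d0501c02040280c1600040180409, 255, 66), (0x180d0282c0003050080e08030041204, 255, 140), (0x180d038280606028081608048040004, 255, 144), (0x180d038281206058200a02018100001, 259, 144), (0x180d038280600058040a04048080c08,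 261, 144), (0x180d0502c1009038180a02008100600, 264, 66), (0x180d0281c0601058081406048001004, 265, 144), (0x180d0502c0203038000a04040081206, 269, 140), (0x180d0281c1208058101400018180202, 273, 66), (0x180d058280004028040e03030240408, 273, 140), (0x180d038141201058001404018081006, 275, 30), (0x180d038140608058181402048100200, 277, 30), (0x180d058280c02028200e090000c0801, 291, 140), (0x180d058280406038040a090200c0008, 292, 30), (0x180d058280800038200a03010240c01, 294, 30), (0x180d0502c1003028100e00008181202, 301, 144), (0x180d0502c0209028080e06040000604, 307, 144)]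

/-- Elements fixing a class. -/
def el2 : List (ℕ × ℕ × ℕ) := [(0x1a0c058281208038180a04018080200, 0, 0), (0x180d058280601038000a02048101006, 0, 552), (0x180d0281c0608050001604048080206, 0, 553), (0x1a0c0282800080380c1602030100209, 0, 578), (0x180d02020060a00800040b048140e06, 0, 598), (0x180d02028000103818040b018141009, 0, 602), (0x1a0c0301c04010502c0600028241004, 0, 652), (0x1a0c0281c1201050181602018101000, 1, 553), (0x180d028280c01038241604000081003, 1, 578), (0x1a0c01004120a04018080b018140e00, 1, 598), (0x1a0c010280c0803800080b048140203, 1, 602), (0x180d0001c08080502c12060280c0202, 1, 652), (0x180d0581c0c08050240a02000100203, 2, 578), (0x1a0c0202012070081804050182c1400, 2, 598), (0x1a0c0201c0c010500004050482c1003, 2, 602), (0x180d0002804010381412060580c1004, 2, 652), (0x180d010200c0a0082408050002c0e03, 3, 598), (0x180d0102812010380c08050302c1000, 3, 602), (0x1a0c0181c0801050140c09058001002, 3, 652), (0x1a0c058200c07008000a04048081403,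 4, 602), (0x180d000040a070401012060100c140b, 4, 652), (0x1a0c0202806080382404050002c0206, 5, 552), (0x1a0c0101c060105024080b000141006, 5, 553), (0x1a0c05804060a040240a04000080e06, 5, 598), (0x180d0301c0a0805010060901000020b, 5, 652), (0x180d018280a01038100c0001024100b, 6, 553), (0x1a0c0581c00010500c0a04030081009, 7, 578), (0x180d0100406070400008050482c1406, 7, 598), (0x180d0101c00080501808050182c0209, 7, 602), (0x1a0c030280808038140600058240202, 7, 652), (0x1a0c02004000a0400c04050302c0e09, 8, 598), (0x180d0481c0408050140003058180204, 8, 652), (0x180d058040007040180a02018101409, 9, 602), (0x1a0c030200a0700808060002024140b, 9, 652), (0x180d0201c12080500c040b030140200, 10, 553), (0x180d05820120a0080c0a02030100e00, 10, 598), (0x1a0c0001c0a0105008120302018100b, 10, 652), (0x1a0c048280a080380800060200c020b, 11, 553), (0x1a0c0102000070080c080b030141409, 12, 598), (0x180d0482808010382c0003028181002, 12, 652), (0x180d02820000a008181604018080e09,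 13, 602), (0x1a0c03004160a040100600010240e05, 13, 652), (0x180d0280412070400c1604030081400, 14, 598), (0x1a0c000281608038101203010180205, 14, 652), (0x1a0c0481c16010501000060100c1005, 15, 553), (0x1a0c028200607008241602000101406, 16, 602), (0x180d048041607040080003020181405, 16, 652), (0x1a0c028040c0a040001602048100e03, 17, 598), (0x180d0181c1608050080c00020240205, 17, 652), (0x180d030281601038080609020001005, 18, 553), (0x1a0c00004040a0402c1203028180e04, 19, 652), (0x1a0c0482004070082c00060280c1404, 20, 553), (0x180d020040c0704024040b000141403, 23, 602), (0x1a0c0182804080382c0c09028000204, 24, 553), (0x180d00020160a0080812060200c0e05, 27, 652), (0x1a0c018201607008100c09010001405, 30, 652), (0x180d03020080a0082c0609028000e02, 32, 652), (0x180d0180408070402c0c00028241402, 33, 553), (0x1a0c018040a0a040080c09020000e0b, 38, 652), (0x180d030040407040140609058001404, 40, 652), (0x180d01820040a008140c00058240e04, 41, 553), (0x1a0c04804080a0401400060580c0e02,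 45, 652), (0x1a0c000200807008141203058181402, 46, 553), (0x180d048200a0a008100003010180e0b, 50, 553)]

/-- Elements fixing a class. -/
def el3 : List (ℕ × ℕ × ℕ) := [(0x1a0c058281208038180a04018080200, 0, 0), (0x180d0200802030301c000b040281205, 0, 742), (0x1a0c04004040b050000e03020180a09, 0, 749), (0x180d04028040b008000a04018240e06, 0, 784), (0x180d018241404010140c080581c0001, 1, 749), (0x1a0c01808140404814000b040040c07, 1, 784), (0x180d018180a04000281208058040407, 2, 742), (0x1a0c058140c08008241404018000e02, 2, 749), (0x180d058040c08028240e03020081400, 2, 784), (0x1a0c020240e03000040c08058280405, 3, 742), (0x180d0581c1208050180203020000a02, 3, 749), (0x1a0c0401c000b028080203020241406, 4, 742), (0x180d020000e0304804040b040140c0a, 4, 749), (0x1a0c0201802030101c120805814000a, 5, 749), (0x180d04014000b038081404018180209, 7, 784), (0x1a0c018000a0403028040b0401c1201, 10, 742)]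

/-- Elements fixing a class. -/
def el4 : List (ℕ × ℕ × ℕ) := [(0x1a0c058281208038180a04018080200, 0, 0), (0x180d058280601038000a02048101006, 0, 969), (0x180d058281201028080e00018181004, 0, 970), (0x1a0c0581c0c08050240a02000100203, 0, 993), (0x1a0c048281604028180e08018080001, 0, 1029), (0x1a0c058280608028100e06048000202, 1, 970), (0x180d0581c00010500c0a04030081009, 1, 993), (0x180d018281602028000e01048100c08, 1, 1029), (0x180d058140401050240e06020001003, 2, 993), (0x180d048281600038080a01018180808, 2, 1029), (0x180d0581c0c01028101403000241002, 3, 970), (0x1a0c0301c1602028241408000100601, 3, 1029), (0x180d048280600028040e02058200806, 4, 969), (0x1a0c048140c040502c0e02008200003, 4, 993), (0x1a0c0581408080500c0e00010180209, 5, 993), (0x1a0c018281606038100a08048000401, 5, 1029), (0x1a0c0581c00080280814090300c0204, 6, 970), (0x180d0001c16040280c1401030081208, 6, 1029), (0x1a0c018281206028200e04058040400, 7, 969), (0x180d0181400020502c0e04040040c09,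 7, 993), (0x1a0c058140408038001403020240206, 8, 970), (0x180d010141606038241401020000608, 8, 1029), (0x1a0c048280604038200a06058040002, 9, 969), (0x180d0481c04000502c0a06040040803, 9, 993), (0x180d0581408010381814090100c1000, 10, 993), (0x180d0301c1603050100a01000240408, 10, 1029), (0x180d0301c0003028041404058200409, 11, 969), (0x1a0c0301412020382c1404008200600, 11, 993), (0x180d0481402000500c0e0803008080b, 12, 993), (0x180d018281202038040a00058200c04, 12, 1029), (0x180d048140c000382014030082c0802, 13, 970), (0x1a0c0201416000380c1408010181201, 14, 1029), (0x1a0c0181c08060502c0a00008200409, 15, 993), (0x1a0c0001c1609050080a080300c0801, 16, 1029), (0x1a0c0001c0c09028201402058040803, 17, 969), (0x180d0001406040382c1402040041206, 17, 993), (0x1a0c018141006050240e0100010040b, 18, 993), (0x1a0c0181400060380414090402c0404, 19, 970), (0x1a0c010141603050000e08020240c01, 20, 1029), (0x1a0c010140803038201400058040c09, 21, 969), (0x180d0101c12060282c1400040040604,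 21, 993), (0x1a0c0481c10040500c0a0101018000b, 22, 993), (0x1a0c0481c04040280414030402c0006, 23, 970), (0x180d020141609050180e010100c0008, 24, 1029), (0x1a0c0301c0002050200a09058040604, 25, 969), (0x180d0302808030382c0a09040040400, 25, 993), (0x180d03014020303800140804810040b, 26, 993), (0x180d0001c0c04050040a03058201202, 26, 1029), (0x180d030141203050200e000082c0404, 27, 970), (0x1a0c04814020403808140b0300c0008, 28, 970), (0x180d0081412080380c1400030081604, 28, 1029), (0x180d0181c0202050240a08020000c0b, 29, 993), (0x180d0481c100002818140b0100c0801, 30, 993), (0x180d020140409038041406058200003, 31, 969), (0x1a0c0201c06000282c1406008201202, 31, 993), (0x180d0181c08020282014090082c0c00, 32, 970), (0x1a0c0002804090382c0a03008200806, 33, 993), (0x1a0c00014100903818140101808080b, 34, 993), (0x1a0c000140609050040e060402c0802, 35, 970), (0x180d01814100203810140b000240c01, 36, 970), (0x1a0c040140601038241406000101602, 36, 1029), (0x1a0c0181c020602800140b020240408,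 37, 993), (0x180d010140806050040e09058200600, 38, 969), (0x1a0c0102800030282c0e09008200c04, 38, 993), (0x1a0c0101c1003028101401048000c0b, 39, 993), (0x1a0c020140400050200e03058041206, 39, 1029), (0x1a0c0101c1203050040a040402c0c00, 40, 970), (0x1a0c0401c12010280c1404010181600, 41, 1029), (0x180d020280c090282c0e03040040002, 43, 993), (0x1a0c030281002038000a0102024060b, 44, 993), (0x1a0c030280802028040e000402c0609, 45, 970), (0x1a0c030140202050100e0b048000608, 46, 970), (0x180d008140c08050000e03048101602, 46, 1029), (0x180d000280204038180a080100c120b, 47, 993), (0x180d030281003028240e0b020000401, 48, 993), (0x1a0c00814120b050080e040300c1000, 49, 1029), (0x1a0c008140c0b038101402048001003, 50, 969), (0x180d0081c0608028241402020001606, 50, 993), (0x180d0401c120b050180a000100c0204, 52, 1029), (0x180d0201c020902808140801818000b, 53, 993), (0x180d0201c0609050200a020082c0006, 54, 970), (0x180d000280404028200e060082c1203, 56, 970), (0x180d000141004050080e0b018181201,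 57, 970), (0x1a0c040140001050180e09018081604, 57, 1029), (0x1a0c0002802090280c0e0b010180808, 58, 993), (0x180d04014060b050100e02000240206, 59, 1029), (0x180d04014000b038081404018180209, 60, 969), (0x1a0c0081c060b050000a06020241002, 61, 1029), (0x180d010280206028100e0800024060b, 62, 993), (0x180d010280006038200a040082c0609, 63, 970), (0x180d0101c1006050000a0b048100601, 64, 970), (0x1a0c0401c0401050100a03048001606, 64, 1029), (0x1a0c020281000028080e010300c120b, 65, 993), (0x1a0c010280203038240a0b000100c08, 66, 993), (0x180d0401c040b028001406048100203, 67, 969), (0x1a0c020280c00038040a020402c1203, 68, 970), (0x1a0c040280c01028000e02020241603, 69, 1029), (0x180d008280008028180e040100c1609, 72, 993), (0x180d040280c0b038240a03020000202, 74, 1029), (0x1a0c00828040b028240e03000101006, 75, 993), (0x1a0c0081c080b028181400018081009, 76, 993), (0x1a0c0201c0200050180a0b018081208, 79, 970), (0x180d0081c0808050080a09018181600, 79, 1029), (0x180d0202810090380c0a0b030080001,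 80, 993), (0x1a0c00828000b0380c0a09010181004, 84, 1029), (0x180d04028080b0280c0e09030080200, 85, 993), (0x180d008280408038100a06000241603, 88, 1029), (0x1a0c040280801038080a000300c1609, 91, 993)]

/-- Elements fixing a class. -/
def el5 : List (ℕ × ℕ × ℕ) := [(0x1a0c058281208038180a04018080200, 0, 0), (0x180d0302414020182c0001038200805, 0, 1212), (0x1a0c02810020704000160a0100c1206, 0, 1217), (0x180d0081c0a040500c1208030001602, 0, 1224), (0x180d0102810090081806040282c0e00, 0, 1256), (0x180d000040803010140c090401c140b, 1, 1217), (0x1a0c0200c00010481c1402058140c08, 1, 1224), (0x1a0c04024040a0202c0e01000180605, 1, 1256), (0x180d04820160a020080207000180a03, 2, 1224), (0x180d018100e0104800040a058141006, 2, 1256), (0x1a0c018140e0003004040b050101009, 3, 1212), (0x1a0c0001c08050580c0c08048041402, 3, 1256), (0x1a0c03020140b028080007008240803, 4, 1212), (0x1a0c03804060405014100903000040b, 4, 1224), (0x1a0c050080c090082008030282c0007, 5, 1224),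 (0x180d03800060505810100604804040a, 6, 1212), (0x180d0280c02000301c1602050101208, 6, 1256), (0x180d058081206000200a03020280207, 7, 1212), (0x1a0c0102c1006000240605020280e01, 8, 1212), (0x180d04018040b028280e00008240604, 10, 1224), (0x180d02014000704004140b0100c0c09, 10, 1256), (0x180d0502c0c08038240805018080001, 11, 1224), (0x1a0c008000a030101012060401c160a, 15, 1256), (0x1a0c048181602018280200038200a04, 16, 1224)]

/-- Elements fixing a class. -/
def el6 : List (ℕ × ℕ × ℕ) := [(0x1a0c058281208038180a04018080200, 0, 0), (0x180d0281c0608050001604048080206, 0, 1365), (0x180d010180e040482800080082c0605, 0, 1403), (0x1a0c0100014040181c0c0800814120b, 1, 1403), (0x1a0c0002402040301404080382c060a, 2, 1365), (0x180d0300c02040002c0408050141207, 3, 1365), (0x180d058140c08008241404018000e02, 4, 1403), (0x1a0c0282c00080080c0e04048181402, 5, 1403), (0x1a0c050040608028081604030000e09, 6, 1365), (0x180d038041208058080a04000181403, 7, 1365), (0x180d000080a04018041208038280c0b,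 8, 1403), (0x1a0c0300816040480406080501c0005, 9, 1403), (0x1a0c0480c0e040102c0008028280c01, 10, 1365), (0x180d018241404010140c080581c0001, 11, 1365), (0x180d0502c04080380c0204030240a00, 12, 1403), (0x1a0c0381404080502402040000c1606, 13, 1403), (0x1a0c0081c0c08058001404010240a03, 14, 1365), (0x180d008280008028180e040100c1609, 15, 1365), (0x180d0480016040301c060802804040a, 16, 1403), (0x1a0c018180a04000281208058040407, 17, 1403)]

/-- Elements fixing a class. -/
def el7 : List (ℕ × ℕ × ℕ) := [(0x1a0c058281208038180a04018080200, 0, 0), (0x180d058280601038000a02048101006, 0, 1749), (0x180d038141201058001404018081006, 0, 1755), (0x1a0c038281206058200a02018100001, 0, 1778), (0x180d0100c0a010200012070502c1006, 0, 1798), (0x180d0580c0a06038201202050100200, 0, 1800), (0x1a0c0382000090580c0c04008081405, 0, 1840), (0x1a0c038140608058181402048100200, 1, 1755), (0x180d038280600058040a04048080c08, 1, 1778), (0x1a0c020240a080101806070502c0200, 1,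 1798), (0x1a0c058240a00038040604050081006, 1, 1800), (0x180d038040c03058240002040101405, 1, 1840), (0x180d058141200038041402018100c08, 2, 1778), (0x1a0c0100c140802018120b0281c0200, 2, 1798), (0x1a0c0380c1400058041202028101006, 2, 1800), (0x180d058040c090380c0004040080a0a, 2, 1840), (0x180d0200c0a0001004120b0501c0c08, 3, 1798), (0x180d0380c0a08058181204050080001, 3, 1800), (0x1a0c0581802090380c1002000101405, 3, 1840), (0x1a0c010281200020040a0b0181c1006, 4, 1800), (0x180d020040c050102800070402c0609, 4, 1840), (0x1a0c0580c1401038001204028080c08, 5, 1749), (0x1a0c038240a01058000602050100c08, 5, 1755), (0x1a0c020281201010000a070182c0c08, 5, 1798), (0x180d038180005058281002008100609, 5, 1840), (0x180d03820020a058140c02000101203, 6, 1749), (0x180d05818000a038141004008081203, 6, 1755), (0x1a0c058200003038240c02008100a0a, 6, 1778), (0x180d010040c0a02014000b0401c1203, 6, 1798), (0x1a0c058140606038201404048080001, 7, 1778), (0x180d02024140101000060b0281c1006,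 7, 1798), (0x180d038241406058200604028080200, 7, 1800), (0x1a0c010240a0602020060b0501c0001, 8, 1798), (0x180d058001003038240204030081405, 8, 1840), (0x180d020280606010200a0b0481c0200, 9, 1800), (0x1a0c010200005020280c070082c1203, 9, 1840), (0x180d058241408038180602028100001, 10, 1749), (0x180d010280608020180a070482c0001, 10, 1798), (0x1a0c038000c05058280204040081203, 10, 1840), (0x1a0c03804100a058140004030080609, 11, 1749), (0x1a0c058000c0a038140202040100609, 11, 1755), (0x1a0c02020000a010140c0b0081c0609, 11, 1798), (0x1a0c0200c14060102012070282c0001, 12, 1798), (0x180d0380010090580c0202030100a0a, 12, 1840), (0x180d0101412060202014070182c0200, 13, 1800), (0x180d02014120801018140b0181c0001, 14, 1798), (0x1a0c058041005038280002030101203, 15, 1749), (0x180d01000100502028020b0301c0609, 16, 1840), (0x180d058200205038280c04000080609, 17, 1840), (0x1a0c038180203058241004000080a0a, 18, 1778), (0x180d02000100a0101402070302c1203, 18, 1798), (0x1a0c020000c090100c020b0401c1405,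 19, 1840), (0x1a0c02004100301024000b0301c0a0a, 20, 1749), (0x1a0c010000c030202402070402c0a0a, 20, 1755), (0x1a0c0100410090200c00070302c1405, 23, 1840), (0x180d0102414000200406070282c0c08, 29, 1798), (0x1a0c0201406000100414070482c1006, 30, 1800), (0x1a0c01014060102000140b0481c0c08, 31, 1798), (0x1a0c02018020501028100b0001c1203, 32, 1840), (0x1a0c01018020a0201410070002c0609, 33, 1798), (0x180d01018000302024100b0081c1405, 34, 1840), (0x180d0102002090200c0c0b0001c0a0a, 35, 1749), (0x180d0201800090100c10070082c0a0a, 35, 1755), (0x180d020200203010240c070002c1405, 37, 1840)]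

/-- Elements fixing a class. -/
def el8 : List (ℕ × ℕ × ℕ) := [(0x1a0c058281208038180a04018080200, 0, 0), (0x1a0c0282812000101816040081c0608, 0, 1950), (0x180d02810120303818160a040080001, 0, 1952), (0x180d00028120503810100600808060b, 0, 2084), (0x180d058101201010180a0a0001c1003, 1, 1952), (0x180d04028120b0101000060181c0205, 1, 2084), (0x1a0c00810120b038280606000081005, 2, 2084), (0x1a0c04018120103810000a028081603, 3, 1952), (0x1a0c0181012050102802060401c000b, 4, 2084), (0x1a0c00018120301010100a0581c0a01, 5, 1952), (0x180d018181200038280204058080a08, 6, 1952), (0x180d0081812080102806040281c1600, 8, 1952)]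

/-- Elements fixing a class. -/
def el9 : List (ℕ × ℕ × ℕ) := [(0x1a0c058281208038180a04018080200, 0, 0), (0x1a0c04018120700810140001014060b, 0, 3147), (0x1a0c038101201018000c0b028280408, 1, 3147), (0x1a0c0080012030102c0808050180a07, 2, 3147), (0x1a0c0182c1202028200007030101401, 3, 3147), (0x1a0c0102012050501c1601020000c03, 4, 3147), (0x1a0c0281c120a0300410030002c0802, 5, 3147), (0x1a0c0500412060200c0e02058200005, 6, 3147), (0x1a0c0300c12040000802050401c160a, 7, 3147), (0x1a0c02008120005814060a038041006, 8, 3147), (0x1a0c00014120b0402804060080c0e04, 9, 3147)]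

/-- Elements fixing a class. -/
def el10 : List (ℕ × ℕ × ℕ) := [(0x1a0c058281208038180a04018080200, 0, 0), (0x180d058280601038000a02048101006, 0, 3922), (0x1a0c038141009058101406008000602, 0, 3986), (0x1a0c058240c04038001002050040a03, 0, 4253), (0x180d038140203058081400040181204, 1, 3986), (0x180d0580c0002038180204050200a09, 1, 4253), (0x1a0c0382008060580812000280c1401, 2, 4253), (0x180d0582414050380c1001030080800, 3, 3922), (0x1a0c0581800020380c080104814100a, 3, 4253), (0x180d038040400058100606028241408, 4, 4253), (0x1a0c0580c1405038240208000100406, 5, 3922), (0x180d058000c0403824040801814020a, 5, 4253), (0x180d038200a0a058041203020000c02, 6, 3922), (0x1a0c038100400058040c03040281205, 6, 4253), (0x180d058181208038280805000040403, 8, 3922), (0x1a0c058000601038280405030200809, 8, 4253), (0x1a0c038040a0a058200609010180004, 9, 3922), (0x180d038080806058200009008280605, 9, 4253), (0x180d038101009058140c0a0100c0001, 13, 3922), (0x1a0c03808020305814000a020240c08,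 13, 4253)]

/-- Elements fixing a class. -/
def el11 : List (ℕ × ℕ × ℕ) := [(0x1a0c058281208038180a04018080200, 0, 0), (0x180d008140407040181404018241600, 0, 4896), (0x180d058040007040180a02018101409, 0, 4945), (0x180d010100a070400c120a0302c0001, 0, 5017), (0x1a0c0082c0008038181409018100a02, 1, 4945), (0x1a0c0481014080380c040503004000b, 1, 5017), (0x1a0c050140808038180202018001609, 2, 4896), (0x1a0c020080a080380c00010302c120a, 2, 5017), (0x1a0c0002416080380c080a030140401, 3, 4896), (0x1a0c0100002080380c120b030280805, 3, 4945), (0x180d028280807040181609018000202, 4, 4896), (0x180d0202414070400c000b030040405, 4, 5017), (0x180d0000802070400c080503028120b, 5, 4896), (0x180d0480016070400c040103014080a, 5, 4945), (0x180d0502c1207040180200018080a04, 6, 4945), (0x1a0c028040408038181600018241404, 10, 4945)]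

/-- Elements fixing a class. -/
def el12 : List (ℕ × ℕ × ℕ) := [(0x1a0c058281208038180a04018080200, 0, 0), (0x1a0c0281c040303028080b000041208, 0, 5907), (0x180d0582812080301c0002008100605, 0, 5918), (0x180d0280c0e02058041404048200006, 0, 5980), (0x1a0c0201802000501c1605040240403, 1, 5907), (0x180d0281c04030501810010482c0004, 1, 5918), (0x180d020000c01028240e0b0100c100a, 1, 5980), (0x180d00018080103828040b0280c1208, 2, 5907), (0x1a0c000040c040580c1402048200a07, 2, 5980), (0x180d0502c10090080c0805030000e02, 3, 5907), (0x1a0c0280c0e020082c0c0800010120a, 3, 5918), (0x1a0c050241608028000604038080c01, 3, 5980), (0x180d02018020003828060901014100b, 4, 5918), (0x180d058201409020080c05008000607, 4, 5980), (0x180d0402816090301c0205020000403, 5, 5907), (0x1a0c04024140b028000e010100c0806, 5, 5980), (0x180d038140602048001604050200c01, 6, 5907), (0x1a0c020000c010481414030402c0407, 6, 5918), (0x1a0c038080a0302020000b030041409, 6, 5980), (0x180d0101c0605050181600040240801,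 7, 5907), (0x1a0c0001808010501c10030482c0a02, 7, 5918), (0x1a0c010140e03000240c0b02004100a, 7, 5980), (0x1a0c0502c1009018040400038140c04, 8, 5907), (0x180d000040c040182c0e0802808120a, 8, 5918), (0x180d050241608000140202030100e03, 8, 5980), (0x180d0200400060182c0a0a0101c1009, 9, 5907), (0x1a0c0300408000580c1005050240e02, 10, 5907), (0x180d03000020402824060803808140b, 10, 5980), (0x1a0c01814040700024080a008181608, 11, 5907), (0x180d0181c0a02050181204058200200, 11, 5980), (0x1a0c018080e05020200c0900800160a, 12, 5980), (0x180d030100001010200a0b0380c1409, 13, 5907), (0x1a0c058201409010100e00018140206, 13, 5918), (0x180d008180004038280a08018081609, 14, 5907), (0x1a0c040281609038180600010140801, 14, 5918), (0x1a0c008100c00040081405058240607, 14, 5980), (0x1a0c03814060200024020803010140b, 15, 5907), (0x180d04024140b000140c03020040407, 15, 5918), (0x180d038080a030401012010502c0c00, 15, 5980), (0x180d05824100a000140807008180602, 16, 5907), (0x180d05020120b020080003030040e05,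 17, 5980), (0x1a0c000100206040081607048280a03, 18, 5907), (0x1a0c0101c060503028020902000100b, 19, 5918), (0x1a0c030000204048141602050200e03, 21, 5907), (0x180d010140e030480014010402c0806, 21, 5918), (0x1a0c0100c0a070082c000a020181009, 22, 5907), (0x180d0380c0405058041000050240c04, 23, 5907), (0x180d00800080602824040a0181c1608, 24, 5907), (0x1a0c0081800040501c1202058200605, 24, 5980), (0x1a0c0200400060580c1207040280405, 25, 5918), (0x1a0c02808060702020020a00018120b, 25, 5980), (0x1a0c0402c120a018040a060101c0800, 26, 5907), (0x180d0300408000182c0409038141408, 26, 5918), (0x180d018140407048001006058280204, 27, 5907), (0x1a0c0181c0a02030280008008101609, 27, 5980), (0x180d04828100b0301c0803000040a02, 29, 5907), (0x1a0c0482c1408018040e04028080006, 29, 5980), (0x1a0c0301000010400812030502c0e05, 30, 5907), (0x180d018080e05040101400058240206, 30, 5918), (0x180d028080607040101606048280001, 31, 5907), (0x1a0c05020120b010100a010380c0c00, 35, 5907),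 (0x180d008100c00010200e0901814160a, 35, 5918), (0x1a0c008000806048141007058280602, 36, 5907), (0x180d04820160a020080207000180a03, 38, 5907), (0x1a0c04828100b0381804010280c0004, 38, 5980), (0x1a0c05824100a0280004060181c0204, 39, 5918), (0x180d00010020601020060a0281c120b, 40, 5907), (0x180d0100c0a07058041206040280800, 45, 5918), (0x180d0402c120a0080c0007020180405, 46, 5907), (0x1a0c0380c04050082c0809030001408, 46, 5918), (0x180d0482c14080080c0c02000100a07, 48, 5980), (0x1a0c04820160a0101006060281c0001, 57, 5907)]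

/-- Elements fixing a class. -/
def el13 : List (ℕ × ℕ × ℕ) := [(0x1a0c058281208038180a04018080200, 0, 0), (0x1a0c038280401058180a03020241000, 0, 6510), (0x1a0c038141201058001404018081006, 0, 6511), (0x180d0281c0400050041603020240c08, 0, 6512), (0x180d038280401058180a03020241000, 0, 6513), (0x180d000100c0500824100a0100c0e0b, 0, 6536), (0x1a0c058140408038001403020240206, 1, 6511), (0x180d0282c1200050200e04018080c01, 1, 6512), (0x180d058281208038180a04018080200, 1, 6513), (0x180d0000c0c0504008020a048101607, 1, 6536), (0x180d0502c0406028200e03020240001, 2, 6512), (0x180d058140408038001403020240206, 2, 6513), (0x180d03010000a0402402050100c1607, 2, 6536), (0x180d0501c1206028041604018080008, 3, 6510), (0x1a0c0501c1206028041604018080008, 3, 6513), (0x1a0c0400c020b030080007048101405, 3, 6536), (0x1a0c0282c1200050200e04018080c01, 4, 6512), (0x1a0c0000c0c0504008020a048101607, 4, 6536), (0x180d008100607000241002050180a0b, 5, 6510), (0x180d008200c070002c080a0100c0a09,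 5, 6511), (0x1a0c04004060b0201c0002050181205, 5, 6512), (0x1a0c008100607000241002050180a0b, 5, 6513), (0x180d038141201058001404018081006, 6, 6513), (0x180d0300c000a008081005048100e0b, 6, 6536), (0x1a0c0502c0406028200e03020240001, 7, 6513), (0x1a0c00810100703024000b0100c1405, 7, 6536), (0x1a0c0281c0400050041603020240c08, 8, 6512), (0x1a0c000100c0500824100a0100c0e0b, 8, 6536), (0x180d0400c080b000080209050180a07, 9, 6510), (0x180d040040c0b0001c060a048100a02, 9, 6511), (0x1a0c0082008070182c0009050180405, 9, 6512), (0x1a0c0400c080b000080209050180a07, 9, 6513), (0x1a0c0080c1007000080c0b048100a0a, 10, 6536), (0x1a0c0300c000a008081005048100e0b, 11, 6536), (0x180d04010060b030240202028001407, 12, 6510), (0x180d04004000b0301c08050100c1409, 12, 6511), (0x1a0c0082006070202c0c0202800120a, 12, 6512), (0x1a0c04010060b030240202028001407, 12, 6513), (0x1a0c04010020b000240c070100c0a0a, 13, 6536), (0x180d04010020b000240c070100c0a0a, 14, 6536), (0x1a0c0300c080a040080009038041605,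 15, 6510), (0x1a0c03000020a040140607048101602, 15, 6511), (0x180d00018080501828100903804040b, 15, 6512), (0x180d0300c080a040080009038041605, 15, 6513), (0x180d00810100703024000b0100c1405, 16, 6536), (0x1a0c040040c0b0001c060a048100a02, 17, 6511), (0x180d0082008070182c0009050180405, 17, 6512), (0x180d0002006050082c0802050180e09, 18, 6511), (0x1a0c040000c0b02014020a0100c1207, 18, 6512), (0x1a0c0580812080280c0e04030280001, 18, 6536), (0x1a0c020000609040140202050181607, 19, 6512), (0x1a0c0002006050082c0802050180e09, 19, 6513), (0x1a0c048281604028180e08018080001, 19, 6536), (0x1a0c020040c090401c000a0100c1605, 20, 6510), (0x180d020040c090401c000a0100c1605, 20, 6513), (0x180d028080e000480c1601030280808, 20, 6536), (0x180d040000c0b02014020a0100c1207, 21, 6512), (0x180d0580812080280c0e04030280001, 21, 6536), (0x1a0c03010000a0402402050100c1607, 22, 6536), (0x180d0080c080703008100902800140b, 23, 6510), (0x180d0082000070302c0605048101402, 23, 6511),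 (0x1a0c04004080b0181c0c0902800040a, 23, 6512), (0x1a0c0080c080703008100902800140b, 23, 6513), (0x180d0080c1007000080c0b048100a0a, 24, 6536), (0x1a0c03010060a008240002058200e05, 25, 6510), (0x1a0c03000100a00814080b0100c0e09, 25, 6511), (0x180d000180605020280202058201207, 25, 6512), (0x180d03010060a008240002058200e05, 25, 6513), (0x180d0400c020b030080007048101405, 26, 6536), (0x1a0c008200c070002c080a0100c0a09, 27, 6511), (0x180d04004060b0201c0002050181205, 27, 6512), (0x180d0000408050401c0609050181602, 28, 6511), (0x1a0c008000c0701814100a04810040b, 28, 6512), (0x1a0c038240401028101603030280008, 28, 6536), (0x1a0c018000802008141009050180e0b, 29, 6512), (0x1a0c0000408050401c0609050181602, 29, 6513), (0x1a0c010280e03028181601020240008, 29, 6536), (0x1a0c018200c020082c000a048100e05, 30, 6510), (0x180d018200c020082c000a048100e05, 30, 6513), (0x180d028241600010100e08030280601, 30, 6536), (0x180d008000c0701814100a04810040b, 31, 6512), (0x180d038240401028101603030280008,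 31, 6536), (0x1a0c0000c0805008080c09058200e0a, 32, 6510), (0x1a0c00018100500828060b048100e02, 32, 6511), (0x180d03000080a018140209058200407, 32, 6512), (0x180d0000c0805008080c09058200e0a, 32, 6513), (0x1a0c0082000070302c0605048101402, 33, 6511), (0x180d04004080b0181c0c0902800040a, 33, 6512), (0x180d03004060a0401c0802028001609, 34, 6511), (0x1a0c0081800070202810050100c120b, 34, 6512), (0x1a0c0380812010500c1604000140c08, 34, 6536), (0x1a0c020180609008281002028000e0b, 35, 6512), (0x1a0c03004060a0401c0802028001609, 35, 6513), (0x1a0c048140e04050001601018080c08, 35, 6536), (0x1a0c0202000090082c0c050100c0e0a, 36, 6510), (0x180d0202000090082c0c050100c0e0a, 36, 6513), (0x180d0500816060480c0e08000140801, 36, 6536), (0x180d0081800070202810050100c120b, 37, 6512), (0x180d0380812010500c1604000140c08, 37, 6536), (0x1a0c000100605040240c0203804160a, 38, 6510), (0x1a0c0001802050402808070100c1609, 38, 6511), (0x180d03000060a02014100203804120b, 38, 6512),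 (0x180d000100605040240c0203804160a, 38, 6513), (0x180d0001802050402808070100c1609, 39, 6511), (0x1a0c03000060a02014100203804120b, 39, 6512), (0x1a0c04000080b030140609038041402, 40, 6511), (0x180d0002002050182c0c0704810040a, 40, 6512), (0x180d0282404000581014030081c1006, 40, 6536), (0x180d0182008020002c0c09038040a0a, 41, 6512), (0x180d04000080b030140609038041402, 41, 6513), (0x180d0101c0a03058041400020241006, 41, 6536), (0x180d018180202000281007048100a0b, 42, 6510), (0x1a0c018180202000281007048100a0b, 42, 6513), (0x1a0c058241408010100a060081c0600, 42, 6536), (0x1a0c0002002050182c0c0704810040a, 43, 6512), (0x1a0c0282404000581014030081c1006, 43, 6536), (0x180d03000100a00814080b0100c0e09, 44, 6511), (0x1a0c000180605020280202058201207, 44, 6512), (0x180d018000802008141009050180e0b, 45, 6512), (0x180d010280e03028181601020240008, 45, 6536), (0x1a0c028241600010100e08030280601, 46, 6536), (0x1a0c0480816040380c0a08030280200, 47, 6536), (0x180d020000609040140202050181607,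 48, 6513), (0x180d038280a01048181600018080808, 48, 6536), (0x1a0c0280814000580c0e06020241001, 49, 6510), (0x1a0c0281c1200058040404030281003, 49, 6511), (0x180d038141401010001606020240608, 49, 6512), (0x180d0280814000580c0e06020241001, 49, 6513), (0x180d038080a010580c1200030281004, 50, 6536), (0x180d0480816040380c0a08030280200, 51, 6536), (0x1a0c028280400048180e030402c0801, 52, 6510), (0x1a0c0281c1600048041408018080806, 52, 6511), (0x180d0381404010500012030402c0c04, 52, 6512), (0x180d028280400048180e030402c0801, 52, 6513), (0x180d028280e00058181201018081004, 53, 6536), (0x1a0c028280e00058181201018081004, 54, 6536), (0x180d0480814040280c16060081c0008, 55, 6510), (0x180d0482c0e04028200401030280003, 55, 6511), (0x1a0c0480814040280c16060081c0008, 55, 6513), (0x1a0c038280a01048181600018080808, 56, 6536), (0x180d0281c1200058040404030281003, 57, 6511), (0x1a0c038141401010001606020240608, 57, 6512), (0x1a0c04004000b0301c08050100c1409, 58, 6511),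 (0x180d0082006070202c0c0202800120a, 58, 6512), (0x180d03020080a0082c0609028000e02, 59, 6511), (0x1a0c04018000b018280205048100407, 59, 6512), (0x1a0c058240408050100e03000140c01, 59, 6536), (0x1a0c018180802040280209028001607, 60, 6512), (0x1a0c03020080a0082c0609028000e02, 60, 6513), (0x1a0c010141603050000e08020240c01, 60, 6536), (0x1a0c0180400020401c0c0504810160a, 61, 6510), (0x180d0180400020401c0c0504810160a, 61, 6513), (0x180d050240e06010101601000140608, 61, 6536), (0x180d04018000b018280205048100407, 62, 6512), (0x180d058240408050100e03000140c01, 62, 6536), (0x180d00018100500828060b048100e02, 63, 6511), (0x1a0c03000080a018140209058200407, 63, 6512), (0x1a0c008000607030140802058201409, 64, 6511), (0x180d0000410050201c0c0b0100c120a, 64, 6512), (0x180d0280812000380c14040402c0206, 64, 6536), (0x180d0200406090001c0c02058200a0a, 65, 6512), (0x180d008000607030140802058201409, 65, 6513), (0x180d0482c0a04038201400018080206, 65, 6536), (0x180d02018100900028020b0100c0a07,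 66, 6510), (0x1a0c02018100900028020b0100c0a07, 66, 6513), (0x1a0c0380814010480c0a060402c0800, 66, 6536), (0x1a0c0000410050201c0c0b0100c120a, 67, 6512), (0x1a0c0280812000380c14040402c0206, 67, 6536), (0x180d03000020a040140607048101602, 68, 6511), (0x1a0c00018080501828100903804040b, 68, 6512), (0x180d048281604028180e08018080001, 69, 6536), (0x1a0c028080e000480c1601030280808, 70, 6536), (0x1a0c010240e03058100a01030281000, 71, 6536), (0x180d058280a08010180e00020240601, 72, 6536), (0x1a0c028241400038101606018080208, 73, 6510), (0x1a0c0282c0400038201203030280204, 73, 6511), (0x180d058141408048000e06018080801, 73, 6512), (0x180d028241400038101606018080208, 73, 6513), (0x180d058240a08038100400030280203, 74, 6536), (0x180d010240e03058100a01030281000, 75, 6536), (0x1a0c0282812000101816040081c0608, 76, 6510), (0x1a0c0282c0e00010201401020240606, 76, 6511), (0x180d0581412080500004040081c0c03, 76, 6512), (0x180d0282812000101816040081c0608, 76, 6513),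 (0x180d028281600038180408020240203, 77, 6536), (0x1a0c028281600038180408020240203, 78, 6536), (0x180d010241403028100e060402c0001, 79, 6510), (0x180d0101c1603028041208030280004, 79, 6511), (0x1a0c010241403028100e060402c0001, 79, 6513), (0x1a0c058280a08010180e00020240601, 80, 6536), (0x180d0282c0400038201203030280204, 81, 6511), (0x1a0c058141408048000e06018080801, 81, 6512), (0x1a0c008180807000280609058200a02, 82, 6511), (0x180d03004100a0181c000b048100405, 82, 6512), (0x180d050240406038100a030402c0200, 82, 6536), (0x180d0180408020301c0009058201405, 83, 6512), (0x180d008180807000280609058200a02, 83, 6513), (0x180d0102c1403038200a06020240200, 83, 6536), (0x180d01800100203014020b048101407, 84, 6510), (0x1a0c01800100203014020b048101407, 84, 6513), (0x1a0c038240a010101014000402c0606, 84, 6536), (0x1a0c03004100a0181c000b048100405, 85, 6512), (0x1a0c050240406038100a030402c0200, 85, 6536), (0x180d018180802040280209028001607, 86, 6512), (0x180d010141603050000e08020240c01,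 86, 6536), (0x1a0c050240e06010101601000140608, 87, 6536), (0x1a0c048080e040580c1401000141006, 88, 6536), (0x180d020180609008281002028000e0b, 89, 6513), (0x1a0c050080a060380c1600020240208, 90, 6510), (0x1a0c0502c1206038200404000140203, 90, 6511), (0x180d050080a060380c1600020240208, 90, 6513), (0x180d0580814080380c1206000140204, 91, 6536), (0x180d048080e040580c1401000141006, 92, 6536), (0x1a0c0501404060480016030081c0808, 93, 6510), (0x1a0c0502c0e06048200a01018080800, 93, 6511), (0x180d0582804080281812030081c0004, 93, 6512), (0x180d0501404060480016030081c0808, 93, 6513), (0x180d050141606038001208018080204, 94, 6536), (0x1a0c050141606038001208018080204, 95, 6536), (0x180d048080a040500c0e000402c0c01, 96, 6510), (0x180d0481c1604050040408000140c03, 96, 6511), (0x1a0c048080a040500c0e000402c0c01, 96, 6513), (0x180d0502c1206038200404000140203, 98, 6511), (0x1a0c04018060b000280802038040a09, 99, 6511), (0x180d03020020a0202c00070100c1205, 99, 6512),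 (0x180d0500812060580c0a040081c1000, 99, 6536), (0x180d0202006090302c0002038041405, 100, 6512), (0x180d04018060b000280802038040a09, 100, 6513), (0x180d0481c1404058040a06018081000, 100, 6536), (0x180d0200002090301410070100c140b, 101, 6510), (0x1a0c0200002090301410070100c140b, 101, 6513), (0x1a0c058080a080480c14000081c0806, 101, 6536), (0x1a0c03020020a0202c00070100c1205, 102, 6512), (0x1a0c0500812060580c0a040081c1000, 102, 6536), (0x1a0c0202006090302c0002038041405, 103, 6512), (0x1a0c0481c1404058040a06018081000, 103, 6536), (0x180d058080a080480c14000081c0806, 104, 6536), (0x180d010240a030501016000081c0c08, 105, 6536), (0x1a0c0182008020002c0c09038040a0a, 106, 6513), (0x1a0c0501c1606010040a08020240600, 106, 6536), (0x180d058240e08028101401018080006, 107, 6510), (0x1a0c058240e08028101401018080006, 107, 6513), (0x1a0c0502416060281004080081c0003, 108, 6536), (0x1a0c010240a030501016000081c0c08, 109, 6536), (0x180d0581c1208010041404000140606,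 110, 6510), (0x1a0c0581c1208010041404000140606, 110, 6513), (0x1a0c0581c1408028040406020240003, 111, 6536), (0x180d0581c1408028040406020240003, 112, 6536), (0x1a0c0101414030580012060081c1004, 113, 6511), (0x180d0501c1606010040a08020240600, 114, 6536), (0x1a0c0582804080281812030081c0004, 115, 6511), (0x180d0502c0e06048200a01018080800, 115, 6512), (0x1a0c0200406090001c0c02058200a0a, 116, 6512), (0x1a0c0482c0a04038201400018080206, 116, 6536), (0x180d0380814010480c0a060402c0800, 117, 6536), (0x1a0c058240a08038100400030280203, 118, 6536), (0x180d0282c0e00010201401020240606, 119, 6511), (0x1a0c0581412080500004040081c0c03, 119, 6512), (0x1a0c0101c1603028041208030280004, 120, 6511), (0x1a0c038141601048000408030280803, 121, 6511), (0x180d0281c14000100412060402c0604, 121, 6512), (0x1a0c038080a010580c1200030281004, 122, 6536), (0x180d048280404038181603000140208, 123, 6510), (0x1a0c048280404038181603000140208, 123, 6513), (0x180d0382c1201010200a04030280600,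 124, 6512), (0x180d008180607040280002048101605, 124, 6536), (0x180d018100202040240007050181605, 125, 6536), (0x180d010141203038001604030280208, 126, 6510), (0x1a0c010141203038001604030280208, 126, 6513), (0x1a0c0382c1201010200a04030280600, 127, 6512), (0x1a0c008180607040280002048101605, 127, 6536), (0x1a0c0482c1404010200e06000140601, 128, 6512), (0x1a0c0580814080380c1206000140204, 128, 6513), (0x180d038141601048000408030280803, 129, 6511), (0x1a0c0281c14000100412060402c0604, 129, 6512), (0x1a0c0481c04040280414030402c0006, 130, 6511), (0x180d038241601050100a08018080c00, 130, 6512), (0x180d0080c0c0702008000a058201205, 130, 6536), (0x180d0481c04040280414030402c0006, 131, 6513), (0x1a0c0200c0009030080205058201407, 132, 6536), (0x1a0c038241601050100a08018080c00, 133, 6512), (0x1a0c0080c0c0702008000a058201205, 133, 6536), (0x1a0c0482c0404050200a030081c0c00, 134, 6512), (0x180d0482c0404050200a030081c0c00, 135, 6512), (0x180d0282c14000482004060081c0803,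 136, 6511), (0x1a0c058140e08010001201030280604, 136, 6512), (0x1a0c0282c14000482004060081c0803, 137, 6513), (0x1a0c0180410020001c080b050180a09, 137, 6536), (0x180d058140e08010001201030280604, 138, 6512), (0x1a0c0102c1403038200a06020240200, 140, 6512), (0x1a0c018100202040240007050181605, 140, 6536), (0x180d048140e04050001601018080c08, 142, 6536), (0x1a0c0500816060480c0e08000140801, 143, 6536), (0x1a0c010241603038101408000140206, 144, 6536), (0x1a0c050240a06058100e00018081001, 146, 6510), (0x1a0c0501c0406058041203000141004, 146, 6511), (0x180d050240a06058100e00018081001, 146, 6513), (0x180d038241401058100406000141003, 147, 6536), (0x180d010241603038101408000140206, 148, 6536), (0x1a0c050141206010000e040402c0601, 149, 6510), (0x180d0382812010281804040402c0003, 149, 6512), (0x180d050141206010000e040402c0601, 149, 6513), (0x180d050140e06058000401020241003, 150, 6536), (0x1a0c050140e06058000401020241003, 151, 6536), (0x180d0102c0e03050201201000140c04,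 152, 6511), (0x180d0501c0406058041203000141004, 154, 6511), (0x1a0c0180408020301c0009058201405, 155, 6512), (0x180d038240a010101014000402c0606, 156, 6536), (0x180d0380816010280c1408020240006, 159, 6510), (0x1a0c0380816010280c1408020240006, 159, 6513), (0x1a0c050080e060280c12010402c0004, 160, 6536), (0x180d0382c0401048201403000140806, 162, 6510), (0x1a0c0382c0401048201403000140806, 162, 6513), (0x1a0c0382c1401028201206018080004, 163, 6536), (0x180d0382c1401028201206018080004, 164, 6536), (0x1a0c0481414040380004060402c0203, 165, 6511), (0x1a0c0382812010281804040402c0003, 167, 6511), (0x1a0c0101c0a03058041400020241006, 168, 6536), (0x180d058241408010100a060081c0600, 169, 6536), (0x180d0281c1600048041408018080806, 170, 6511), (0x1a0c0381404010500012030402c0c04, 170, 6512), (0x1a0c0482c0e04028200401030280003, 171, 6511), (0x180d010281203058180e04000141001, 173, 6510), (0x1a0c010281203058180e04000141001, 173, 6513), (0x180d0581c0408048040a03030280800,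 174, 6512), (0x180d04018080b0082800090100c0e05, 174, 6536), (0x180d0200c100900808000b050180e05, 175, 6536), (0x180d048140404058000e03030281001, 176, 6510), (0x1a0c048140404058000e03030281001, 176, 6513), (0x1a0c0581c0408048040a03030280800, 177, 6512), (0x1a0c04018080b0082800090100c0e05, 177, 6536), (0x1a0c0101c1403048041606000140808, 178, 6512), (0x1a0c038241401058100406000141003, 178, 6513), (0x1a0c0102c12030282014040081c0006, 180, 6511), (0x180d058080e080500c0a01020240c00, 180, 6512), (0x180d040100c0b01824000a038040405, 180, 6536), (0x180d0102c12030282014040081c0006, 181, 6513), (0x1a0c01810000203024100503804140b, 182, 6536), (0x1a0c058080e080500c0a01020240c00, 183, 6512), (0x1a0c040100c0b01824000a038040405, 183, 6536), (0x1a0c0101c1203050040a040402c0c00, 184, 6512), (0x180d0101c1203050040a040402c0c00, 185, 6512), (0x1a0c0202002090002c0607050180a02, 187, 6536), (0x1a0c0200c100900808000b050180e05, 190, 6536), (0x1a0c028240e000501004010402c0c03,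 195, 6536), (0x1a0c0382c0a01050200400020240c03, 198, 6536), (0x180d0382c0a01050200400020240c03, 199, 6536), (0x1a0c010280a030381812000402c0204, 200, 6511), (0x1a0c0102c0e03050201201000140c04, 205, 6511), (0x1a0c058280e08048180401000140803, 206, 6511), (0x180d0502c0a060102012000081c0604, 206, 6512), (0x180d04000060b008140c02048100e0a, 208, 6536), (0x180d018101002008240c0b028000e0a, 209, 6536), (0x1a0c04000060b008140c02048100e0a, 210, 6536), (0x1a0c0481c0a04010041600030280608, 211, 6512), (0x180d058280e08048180401000140803, 212, 6511), (0x1a0c0502c0a060102012000081c0604, 212, 6512), (0x180d0400c000b020080c0503804120a, 213, 6536), (0x1a0c0200c0c0900008100a038040a0b, 215, 6536), (0x1a0c0400c000b020080c0503804120a, 216, 6536), (0x180d0501c0a060480404000402c0803, 219, 6511), (0x1a0c038281601010181208000140604, 219, 6512), (0x1a0c0501c0a060480404000402c0803, 220, 6513), (0x1a0c0182002020302c0807028001409, 220, 6536), (0x180d038281601010181208000140604,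 221, 6512), (0x1a0c018101002008240c0b028000e0a, 222, 6536), (0x1a0c0280816000500c12080081c0c04, 226, 6536), (0x1a0c0581c0a08050041200018080c04, 229, 6536), (0x180d0581c0a08050041200018080c04, 230, 6536), (0x1a0c048280a040581804000081c1003, 231, 6511), (0x180d0280816000500c12080081c0c04, 234, 6536), (0x180d048280a040581804000081c1003, 236, 6511), (0x180d0502416060281004080081c0003, 238, 6536), (0x1a0c03004080a0001c10090100c0a0b, 240, 6536), (0x180d03004080a0001c10090100c0a0b, 241, 6536), (0x180d010140e030480014010402c0806, 242, 6512), (0x180d028240e000501004010402c0c03, 242, 6513), (0x1a0c03010020a01824100702800040b, 244, 6536), (0x180d03010020a01824100702800040b, 245, 6536), (0x180d020180009040280605038041602, 248, 6536), (0x180d0200c0c0900008100a038040a0b, 250, 6536), (0x180d050080e060280c12010402c0004, 252, 6536), (0x180d0481414040380004060402c0203, 254, 6511), (0x180d0101c1403048041606000140808, 255, 6512), (0x180d01810000203024100503804140b,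 257, 6536), (0x180d0202002090002c0607050180a02, 258, 6536), (0x180d0182000020202c0205050181207, 259, 6536), (0x1a0c020180209018280007058200405, 260, 6536), (0x180d0482c1404010200e06000140601, 261, 6512), (0x1a0c0400c0c0b00808080a028000e09, 262, 6536), (0x180d0400c0c0b00808080a028000e09, 263, 6536), (0x1a0c00010100501824020b050180407, 264, 6536), (0x1a0c0002008050302c02090100c1407, 265, 6512), (0x180d04000020b018140807050180409, 266, 6511), (0x1a0c000200c050202c060a038041202, 266, 6512), (0x1a0c04010000b008240605050180e02, 267, 6536), (0x180d04010000b008240605050180e02, 268, 6536), (0x180d00010100501824020b050180407, 269, 6536), (0x180d0002008050302c02090100c1407, 270, 6512), (0x1a0c0102c0a03048200e00030280801, 271, 6510), (0x180d0102c0a03048200e00030280801, 271, 6513), (0x180d00818100701828080b028000409, 271, 6536), (0x180d0481c0a04010041600030280608, 272, 6512), (0x1a0c0182000020202c0205050181207, 273, 6536), (0x180d020180209018280007058200405,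 274, 6536), (0x180d0300c020a000080807058200a09, 275, 6536), (0x180d020000c0900814060a058200e02, 277, 6511), (0x1a0c0300c020a000080807058200a09, 278, 6536), (0x1a0c0300c100a02008020b028001207, 279, 6510), (0x1a0c03004000a0201c0605058201202, 279, 6511), (0x180d0300c100a02008020b028001207, 279, 6513), (0x1a0c020000c0900814060a058200e02, 281, 6511), (0x180d0000c100503008080b038041409, 282, 6536), (0x1a0c0000c100503008080b038041409, 283, 6536), (0x1a0c01818100202028000b038041205, 284, 6536), (0x180d0101414030580012060081c1004, 285, 6513), (0x180d0200400090181c100505018040b, 285, 6536), (0x180d01818100202028000b038041205, 286, 6536), (0x1a0c000040c050181c080a058200409, 287, 6510), (0x180d000040c050181c080a058200409, 287, 6513), (0x1a0c0200400090181c100505018040b, 288, 6536), (0x1a0c04000020b018140807050180409, 290, 6511), (0x180d000200c050202c060a038041202, 290, 6512), (0x1a0c0481c1604050040408000140c03, 292, 6511), (0x180d008000807040140c090100c160a,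 294, 6536), (0x180d0200c0209040080c0702800160a, 295, 6536), (0x1a0c008000807040140c090100c160a, 296, 6536), (0x180d008100007018240c0505820040a, 299, 6536), (0x1a0c018100c0200024020a058200a07, 300, 6536), (0x1a0c008100007018240c0505820040a, 301, 6536), (0x1a0c0200410090301c060b028001402, 304, 6536), (0x1a0c0200c0209040080c0702800160a, 305, 6536), (0x180d010280a030381812000402c0204, 307, 6511), (0x1a0c03020060a0002c0202048100a07, 308, 6536), (0x180d03020060a0002c0202048100a07, 309, 6536), (0x180d0481416040100014080081c0606, 310, 6512), (0x180d018180002008280805058200e09, 315, 6536), (0x180d018100c0200024020a058200a07, 316, 6536), (0x180d0200c0009030080205058201407, 320, 6536), (0x180d0180410020001c080b050180a09, 321, 6536), (0x1a0c008100c0704024060a028001602, 322, 6536), (0x180d008100c0704024060a028001602, 323, 6536), (0x1a0c0000c020502008100705018120b, 324, 6536), (0x1a0c0000406050301c100204810140b, 325, 6512), (0x180d00800100702014060b050181202,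 326, 6511), (0x1a0c0080c0007040080805050181609, 327, 6536), (0x180d0080c0007040080805050181609, 328, 6536), (0x180d0000c020502008100705018120b, 329, 6536), (0x180d0000406050301c100204810140b, 330, 6512), (0x180d04018020b020280607028001202, 331, 6536), (0x180d03010100a00024060b038040a02, 333, 6536), (0x180d018000c0204014080a038041609, 335, 6511), (0x1a0c03010100a00024060b038040a02, 336, 6536), (0x1a0c03020000a0182c0805038040409, 337, 6511), (0x1a0c018000c0204014080a038041609, 339, 6511), (0x180d000100205030240607058201402, 340, 6536), (0x1a0c000100205030240607058201402, 341, 6536), (0x1a0c00800100702014060b050181202, 343, 6511), (0x180d010281603048180a080081c0800, 344, 6512), (0x180d0200410090301c060b028001402, 348, 6536), (0x180d018040c020201c100a02800120b, 349, 6536), (0x1a0c020001009018140c0b03804040a, 350, 6536), (0x1a0c018040c020201c100a02800120b, 355, 6536), (0x180d020001009018140c0b03804040a, 356, 6536), (0x1a0c020180009040280605038041602,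 359, 6511), (0x1a0c018000202020140c0705820120a, 360, 6536), (0x180d020200c090182c020a028000407, 361, 6536), (0x180d018000202020140c0705820120a, 362, 6536), (0x180d03020000a0182c0805038040409, 363, 6513), (0x1a0c020200c090182c020a028000407, 364, 6536), (0x1a0c00818100701828080b028000409, 365, 6511), (0x180d03004000a0201c0605058201202, 365, 6512), (0x180d048280e04010180a010402c0600, 366, 6512), (0x1a0c048280e04010180a010402c0600, 370, 6512), (0x1a0c010140e030480014010402c0806, 372, 6512), (0x1a0c0481416040100014080081c0606, 375, 6513), (0x1a0c010281603048180a080081c0800, 376, 6512), (0x180d0182002020302c0807028001409, 378, 6511), (0x1a0c04018020b020280607028001202, 379, 6513), (0x1a0c018180002008280805058200e09, 382, 6536)]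

/-- Elements fixing the classes. -/
def els : List (List (ℕ × ℕ × ℕ)) := [el0,
  el1,
  el2,
  el3,
  el4,
  el5,
  el6,
  el7,
  el8,
  el9,
  el10,
  el11,
  el12,
  el13]


end CfsgLib.Co3M12.Wr
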