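/-
The closure is right.
-/
import Cfsg.Agent.Lib.Co3M12.Case.Wr.Clo

set_option autoImplicit false
set_option maxRecDepth 100000

namespace CfsgLib.Co3M12.Wr

open Eng CfsgPC

theorem clo0_ok : closedRangeB D fs.get 14 (cloOf clo) Data.reps 7030 0 8 = true := by decide +kernel

theorem clo8_ok : closedRangeB D fs.get 14 (cloOf clo) Data.reps 7030 8 6 = true := by decide +kernel

theorem stabs_ok : stabsB fs.get 7030 els = true := by decide +kernel

theorem bound_ok : boundB 190080 els 95040 = true ∧ els.length = 14 := ⟨by decide +kernel, by decide +kernel⟩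

end CfsgLib.Co3M12.Wr
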