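/-
A configuration with a closed table.
-/
import Cfsg.Agent.Lib.Co3M12.Case.Wr.CloCheck
import Cfsg.Agent.Lib.Co3M12.Case.Wr.Check0
import Cfsg.Agent.Lib.Co3M12.Case.Wr.Check1
import Cfsg.Agent.Lib.Co3M12.Case.Wr.Check2
import Cfsg.Agent.Lib.Co3M12.Case.Wr.Check3
import Cfsg.Agent.Lib.Co3M12.Case.Wr.Check4

set_option autoImplicit false
set_option maxRecDepth 100000

namespace CfsgLib.Co3M12.Wr

open Eng CfsgPC

theorem checked : ∀ m < 7030, factB D fs.get m = true :=
  fun m hm => (range_step (a := 6000) (len := 1030) (range_step (a := 4500) (len := 1500) (range_step (a := 3000) (len := 1500) (range_step (a := 1500) (len := 1500) (range_step (a := 0) (len := 1500) range_zero ck0) ck1) ck2) ck3) ck4) m hm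

theorem closed : ∀ i < 14, closedB D fs.get 14 (cloOf clo) Data.reps 7030 i = true := by
  intro i hi
  rcases Nat.lt_or_ge i 8 with h | h
  · have := List.all_eq_true.mp clo0_ok (i - 0) (List.mem_range.mpr (by omega))
    rwa [show 0 + (i - 0) = i by omega] at this
  rcases Nat.lt_or_ge i 14 with h | h
  · have := List.all_eq_true.mp clo8_ok (i - 8) (List.mem_range.mpr (by omega))
    rwa [show 8 + (i - 8) = i by omega] at this
  omega

end CfsgLib.Co3M12.Wr
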